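import Cfsg.Agent.Lib.GW.Setup
import Cfsg.Agent.Lib.Comp.Layer

/-!
Consequences of `GWHyp`.

* `GWHyp.all_conj`: one class of involutions; `GWHyp.exists_three`, `GWHyp.relIndex_normalizer`: `N(T)/C(T)`.
* `GWHyp.sub_model`, `GWHyp.isKProper`: proper perfect subgroups and proper sections are known.
* `GWHyp.proper_shape`: a non-solvable proper subgroup modulo its core is almost simple.
* `GWHyp.component`: components of proper subgroups.
-/

set_option autoImplicit false
set_option linter.unusedSectionVars false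

namespace CfsgLib.GW

open Cfsg DihedralGroup
open CfsgLib.DihedralFusion

universe u

/-- Some term of the derived series of a finite group is perfect. -/
theorem exists_perfect_derived (H : Type u) [Group H] [Finite H] : ∃ n, Group.IsPerfect (derivedSeries H n) := by
  obtain ⟨i, j, hij, he⟩ : ∃ i j : ℕ, i < j ∧ derivedSeries H i = derivedSeries H j := by
    obtain ⟨a, b, hne, he⟩ := Finite.exists_ne_map_eq_of_infinite (derivedSeries H)
    rcases lt_or_gt_of_ne hne with h | h
    · exact ⟨a, b, h, he⟩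
    · exact ⟨b, a, h, he.symm⟩
  refine ⟨i, Subgroup.isPerfect_iff.mpr (le_antisymm ?_ ?_)⟩
  · exact derivedSeries_antitone H (Nat.le_succ i)
  · exact he.le.trans (derivedSeries_antitone H hij)

theorem perfect_le_derived {H : Type u} [Group H] (L : Subgroup H) [Group.IsPerfect L] (n : ℕ) :
    L ≤ derivedSeries H n := by
  induction n with
  | zero => simp
  | succ n ih => exact Subgroup.commutator_eq_self.ge.trans (Subgroup.commutator_mono ih ih)

theorem derived_eq_top_of_perfect {Q : Type u} [Group Q] [Group.IsPerfect Q] (n : ℕ) : derivedSeries Q n = ⊤ := by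
  induction n with
  | zero => simp
  | succ n ih => rw [derivedSeries_succ, ih, ← commutator_def, Group.IsPerfect.commutator_eq_top]

variable {X : Type u} [Group X] [Finite X]

theorem GWDihedral.exists_klein_sub (hX : GWDihedral X) : ∃ U : Subgroup X, IsKleinFour U := by
  obtain ⟨S, n, hn, ⟨eS⟩⟩ := hX
  obtain ⟨U, -, hU, -⟩ := exists_sub eS hn 0
  exact ⟨U, hU⟩

theorem GWDihedral.center_odd (hX : GWDihedral X) [Group.IsPerfect X] : Odd (Nat.card (Subgroup.center X)) := by
  haveI : Fact (Nat.Prime 2) := ⟨Nat.prime_two⟩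
  rw [← Nat.not_even_iff_odd, even_iff_two_dvd]
  intro h
  obtain ⟨z, hz⟩ := exists_prime_orderOf_dvd_card' 2 h
  rw [← Subgroup.orderOf_coe] at hz
  obtain ⟨U, hU⟩ := hX.exists_klein_sub
  haveI := hU
  have huniq : ∀ a : X, orderOf a = 2 → a = z := fun a ha => by
    obtain ⟨c, hc⟩ := isConj_iff.mp (hX.perfect_all_conj (z : X) a hz ha)
    rw [← hc, Subgroup.mem_center_iff.mp z.2 c, mul_inv_cancel_right]
  have hle : U ≤ Subgroup.zpowers (z : X) := fun u hu => by
    by_cases h1 : u = 1
    · exact h1 ▸ one_mem _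
    · rw [huniq u (orderOf_eq_prime (by rw [sq]; exact congrArg Subtype.val (IsKleinFour.mul_self (⟨u, hu⟩ : U))) h1)]
      exact Subgroup.mem_zpowers _
  have := Subgroup.card_le_of_le hle
  rw [hU.card_four, Nat.card_zpowers, hz] at this
  omega

/-- A subgroup centralising a perfect subgroup with dihedral Sylow 2-subgroups has odd order. -/
theorem GWDihedral.centralizer_odd (hX : GWDihedral X) (L : Subgroup X) [Group.IsPerfect L] (hL : L ≠ ⊥) :
    Odd (Nat.card (Subgroup.centralizer (L : Set X))) := by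
  haveI : Fact (Nat.Prime 2) := ⟨Nat.prime_two⟩
  have hLd := hX.perfect_sub L hL
  rw [← Nat.not_even_iff_odd, even_iff_two_dvd]
  intro h
  obtain ⟨c, hc⟩ := exists_prime_orderOf_dvd_card' 2 h
  rw [← Subgroup.orderOf_coe] at hc
  obtain ⟨U, hU⟩ := hLd.exists_klein_sub
  haveI := hU
  have hU' : IsKleinFour (U.map L.subtype) :=
    isKleinFour_of_equiv (U.equivMapOfInjective L.subtype L.subtype_injective)
  have hcU : (c : X) ∈ U.map L.subtype := hX.no_eight hU' hc fun u hu => by
    obtain ⟨w, -, rfl⟩ := hu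
    exact (Subgroup.mem_centralizer_iff.mp c.2 (w : X) w.2).symm
  obtain ⟨w, -, hw⟩ := hcU
  have hwc : (w : X) = c := hw
  have hwZ : w ∈ Subgroup.center L := Subgroup.mem_center_iff.mpr fun l => Subtype.ext (by
    show (l : X) * w = w * l
    rw [hwc]
    exact Subgroup.mem_centralizer_iff.mp c.2 (l : X) l.2)
  have h1 := Subgroup.orderOf_dvd_natCard _ hwZ
  rw [← Subgroup.orderOf_coe, hwc, hc] at h1
  exact (Nat.not_even_iff_odd.mpr hLd.center_odd) (even_iff_two_dvd.mpr h1)

section

variable {G : Type u} [Group G] [Finite G] (h : GWHyp G)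

include h

theorem GWHyp.index_ne_two (H : Subgroup G) : H.index ≠ 2 := by
  intro hH
  haveI := Subgroup.normal_of_index_eq_two hH
  rcases h.simple.eq_bot_or_eq_top_of_normal H inferInstance with e | e
  · rw [e, Subgroup.index_bot] at hH
    haveI : Fact (Nat.Prime 2) := ⟨Nat.prime_two⟩
    haveI : IsCyclic G := isCyclic_of_prime_card hH
    exact h.noncomm IsCyclic.isMulCommutative
  · rw [e, Subgroup.index_top] at hH
    exact absurd hH (by norm_num)

/-- There is one class of involutions. -/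
theorem GWHyp.all_conj (a b : G) (ha : orderOf a = 2) (hb : orderOf b = 2) : IsConj a b := by
  obtain ⟨S, n, hn, ⟨eS⟩⟩ := h.dihedral
  refine all_conj_of_not_lacking eS hn (fun U hU hK hL => ?_) a b ha hb
  obtain ⟨H, hH⟩ := exists_index_two_of_lacking eS hn hU hK hL
  exact h.index_ne_two H hH

theorem GWHyp.not_lacking {T : Subgroup G} (hT : IsKleinFour T) : ¬ Lacking T := by
  intro hL
  haveI : Fact (Nat.Prime 2) := ⟨Nat.prime_two⟩
  obtain ⟨P, hP⟩ := (isPGroup_klein hT).exists_le_sylow
  obtain ⟨n, hn, ⟨eP⟩⟩ := h.dihedral.shape P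
  obtain ⟨H, hH⟩ := exists_index_two_of_lacking eP hn hP hT hL
  exact h.index_ne_two H hH

/-- An element of odd order permuting the involutions of a four group cyclically. -/
theorem GWHyp.exists_three {T : Subgroup G} (hT : IsKleinFour T) :
    ∃ g ∈ Subgroup.normalizer (T : Set G), Odd (orderOf g) ∧ g ^ 3 ∈ Subgroup.centralizer (T : Set G) ∧
      ∀ a ∈ T, a ≠ 1 → g * a * g⁻¹ ≠ a ∧ g * (g * a * g⁻¹) * g⁻¹ = a * (g * a * g⁻¹) := by
  haveI := hT
  have hn := h.not_lacking hT
  rw [Lacking] at hn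
  push Not at hn
  obtain ⟨g, hg, hodd, hgC⟩ := hn
  have hmem : ∀ a ∈ T, g * a * g⁻¹ ∈ T := fun a ha => (Subgroup.mem_normalizer_iff.mp hg a).mp ha
  have hne : ∀ a : G, ∀ (_ : a ∈ T), a ≠ 1 → g * a * g⁻¹ ≠ 1 := fun a _ ha e => ha (conj_eq_one_iff.mp e)
  have hfix2 : ∀ a, g * (g * a * g⁻¹) * g⁻¹ = a → g * a * g⁻¹ = a := by
    intro a e
    have h2 : Commute (g ^ 2) a := mul_inv_eq_iff_eq_mul.mp (by simpa [pow_two, mul_assoc] using e)
    obtain ⟨j, hj⟩ := hodd
    have := h2.pow_left (j + 1)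
    rw [← pow_mul, show 2 * (j + 1) = orderOf g + 1 by omega, pow_succ, pow_orderOf_eq_one, one_mul] at this
    exact mul_inv_eq_iff_eq_mul.mpr this.eq
  have eqm : ∀ a b c : G, a ∈ T → b ∈ T → c ∈ T → a ≠ 1 → b ≠ 1 → a ≠ b → c ≠ 1 → c ≠ a → c ≠ b → c = a * b :=
    fun a b c ha hb hc h1 h2 h3 h4 h5 h6 => congrArg Subtype.val (IsKleinFour.eq_mul_of_ne_all
      (x := (⟨a, ha⟩ : T)) (y := ⟨b, hb⟩) (z := ⟨c, hc⟩) (fun e => h1 (congrArg Subtype.val e))
      (fun e => h2 (congrArg Subtype.val e)) (fun e => h3 (congrArg Subtype.val e))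
      (fun e => h4 (congrArg Subtype.val e)) (fun e => h5 (congrArg Subtype.val e))
      (fun e => h6 (congrArg Subtype.val e)))
  have hinj : ∀ a b : G, g * a * g⁻¹ = g * b * g⁻¹ → a = b := fun a b e => mul_left_cancel (mul_right_cancel e)
  have hmove : ∀ a ∈ T, a ≠ 1 → g * a * g⁻¹ ≠ a := by
    intro a ha ha1 e
    refine hgC (Subgroup.mem_centralizer_iff.mpr fun x hx => ?_)
    suffices hx' : g * x * g⁻¹ = x from (mul_inv_eq_iff_eq_mul.mp hx').symm
    by_cases hx1 : x = 1
    · subst hx1; group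
    by_cases hxa : x = a
    · rw [hxa, e]
    by_contra hxx
    have h3 := eqm a x (g * x * g⁻¹) ha hx (hmem x hx) ha1 hx1 (Ne.symm hxa) (hne x hx hx1)
      (fun e' => hxa (hinj x a (e'.trans e.symm))) hxx
    refine hxx (hfix2 x ?_)
    rw [h3, show g * (a * x) * g⁻¹ = g * a * g⁻¹ * (g * x * g⁻¹) by group, e, h3, ← mul_assoc,
      show a * a = 1 from congrArg Subtype.val (IsKleinFour.mul_self (⟨a, ha⟩ : T)), one_mul]
  have hcyc : ∀ a ∈ T, a ≠ 1 → g * (g * a * g⁻¹) * g⁻¹ = a * (g * a * g⁻¹) := fun a ha ha1 =>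
    eqm a (g * a * g⁻¹) _ ha (hmem a ha) (hmem _ (hmem a ha)) ha1 (hne a ha ha1) (Ne.symm (hmove a ha ha1))
      (hne _ (hmem a ha) (hne a ha ha1)) (fun e => hmove a ha ha1 (hfix2 a e))
      (hmove _ (hmem a ha) (hne a ha ha1))
  refine ⟨g, hg, hodd, Subgroup.mem_centralizer_iff.mpr fun a ha => ?_, fun a ha ha1 => ⟨hmove a ha ha1, hcyc a ha ha1⟩⟩
  by_cases ha1 : a = 1
  · subst ha1; simp
  have h3 : g ^ 3 * a * (g ^ 3)⁻¹ = a := by
    have e := hcyc a ha ha1
    rw [show g ^ 3 * a * (g ^ 3)⁻¹ = g * (g * (g * a * g⁻¹) * g⁻¹) * g⁻¹ by simp [pow_succ, mul_assoc], e,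
      show g * (a * (g * a * g⁻¹)) * g⁻¹ = g * a * g⁻¹ * (g * (g * a * g⁻¹) * g⁻¹) by group, e]
    haveI := IsKleinFour.isMulCommutative (G := T)
    rw [← mul_assoc, setLike_mul_comm (hmem a ha) ha, mul_assoc,
      show g * a * g⁻¹ * (g * a * g⁻¹) = 1 from congrArg Subtype.val (IsKleinFour.mul_self (⟨_, hmem a ha⟩ : T)),
      mul_one]
  exact (mul_inv_eq_iff_eq_mul.mp h3).symm

/-- `|N(T) : C(T)|` is three when `|S| = 4` and six otherwise. -/
theorem GWHyp.relIndex_normalizer (S : Sylow 2 G) {T : Subgroup G} (hT : IsKleinFour T) :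
    (Subgroup.centralizer (T : Set G)).relIndex (Subgroup.normalizer (T : Set G)) =
      if Nat.card S = 4 then 3 else 6 := by
  haveI := hT
  haveI : Fact (Nat.Prime 2) := ⟨Nat.prime_two⟩
  haveI : Finite (MulAut T) := Finite.of_injective (fun f : MulAut T => (f : T → T)) DFunLike.coe_injective
  obtain ⟨P, hP⟩ := (isPGroup_klein hT).exists_le_sylow
  obtain ⟨n, hn, ⟨eP⟩⟩ := h.dihedral.shape P
  have hcard : Nat.card S = Nat.card P := Nat.card_congr (Sylow.equiv S P).toEquiv
  have h3 := three_dvd hT (h.not_lacking hT)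
  have hle : Nat.card T.normalizerMonoidHom.range ≤ 6 :=
    (Nat.card_le_card_of_injective _ Subtype.val_injective).trans card_mulAut_klein_le
  have hpos : 0 < Nat.card T.normalizerMonoidHom.range := Nat.card_pos
  rw [range_card_eq, hcard]
  by_cases h4 : Nat.card P = 4
  · rw [if_pos h4]
    have := odd_range eP hn ((card_eq_four_iff eP hn).mp h4) hP hT
    omega
  · rw [if_neg h4]
    have h4' : 4 ≤ n := by
      by_contra hc
      exact h4 ((card_eq_four_iff eP hn).mpr hc)
    obtain ⟨s, -, hs, hne, hsq⟩ := exists_moving eP h4' hP hT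
    have h2 : 2 ∣ Nat.card T.normalizerMonoidHom.range := by
      rw [← orderOf_eq_prime hsq hne]
      have h9 := orderOf_dvd_natCard (⟨T.normalizerMonoidHom ⟨s, hs⟩, _, rfl⟩ : T.normalizerMonoidHom.range)
      rwa [← Subgroup.orderOf_coe] at h9
    omega

omit h in
theorem card_lt_of_ne_top {H : Subgroup G} (hH : H ≠ ⊤) : Nat.card H < Nat.card G :=
  card_lt_of_lt_top (lt_top_iff_ne_top.mpr hH)

/-- Perfect subgroups of proper subgroups. -/
theorem GWHyp.sub_model (H : Subgroup G) (hH : H ≠ ⊤) (L : Subgroup H) [Group.IsPerfect L] (hL : L ≠ ⊥) :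
    GWDihedral H ∧ GWDihedral L ∧ GWModel (L ⧸ oddCore L) := by
  have hd := h.dihedral.of_perfect_sub H L hL
  refine ⟨hd, hd.perfect_sub L hL, h.ih L ?_ (hd.perfect_sub L hL)⟩
  exact lt_of_le_of_lt (Nat.le_of_dvd Nat.card_pos L.card_subgroup_dvd_card) (card_lt_of_ne_top hH)

/-- Every proper subgroup is a K-group. -/
theorem GWHyp.isKProper : IsKProper G := by
  intro H₀ hH₀ H N _ hs hna
  haveI := hs
  haveI : Group.IsPerfect (H ⧸ N) := ⟨by
    rcases (inferInstance : (commutator (H ⧸ N)).Normal).eq_bot_or_eq_top with e | e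
    · exact absurd ⟨⟨fun a b => by
        have := Subgroup.commutator_eq_bot_iff_le_centralizer.mp e (Subgroup.mem_top a)
        exact (Subgroup.mem_centralizer_iff.mp this b (Subgroup.mem_top b)).symm⟩⟩ hna
    · exact e⟩
  obtain ⟨n, hn⟩ := exists_perfect_derived H
  haveI := hn
  set K := derivedSeries H n
  set f : K →* H ⧸ N := (QuotientGroup.mk' N).comp K.subtype
  have hf : Function.Surjective f := by
    rw [← MonoidHom.range_eq_top, MonoidHom.range_comp, Subgroup.range_subtype,
      map_derivedSeries_eq (QuotientGroup.mk'_surjective N), derived_eq_top_of_perfect]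
  have hK : K ≠ ⊥ := fun e => by
    haveI : Nontrivial (H ⧸ N) := hs.toNontrivial
    obtain ⟨q, hq⟩ := exists_ne (1 : H ⧸ N)
    obtain ⟨x, rfl⟩ := hf q
    exact hq (by rw [show x = 1 from Subtype.ext ((Subgroup.mem_bot).mp (e ▸ x.2)), map_one])
  haveI : Group.IsPerfect (K.map H.subtype) := Group.IsPerfect.map H.subtype
  obtain ⟨hd₀, -, -⟩ := h.sub_model H₀ hH₀ (K.map H.subtype)
    fun e => hK ((Subgroup.map_eq_bot_iff_of_injective _ H.subtype_injective).mp e)
  have hKd := (hd₀.of_perfect_sub H K hK).perfect_sub K hK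
  have hm := h.ih K (lt_of_le_of_lt ((Nat.le_of_dvd Nat.card_pos K.card_subgroup_dvd_card).trans
    (Nat.le_of_dvd Nat.card_pos H.card_subgroup_dvd_card)) (card_lt_of_ne_top hH₀)) hKd
  refine GWModel.isKnownSimple (GWModel.of_equiv ?_ hm)
  have hsimple := (simple_mod_core hKd).1
  have hle : oddCore K ≤ f.ker := by
    rw [← Subgroup.map_eq_bot_iff]
    rcases ((inferInstance : (oddCore K).Normal).map f hf).eq_bot_or_eq_top with e | e
    · exact e
    · exfalso
      have hodd : Odd (Nat.card ((oddCore K).map f)) :=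
        CfsgLib.odd_card_oddCore.of_dvd_nat (Subgroup.card_map_dvd _ f)
      rw [e, Subgroup.card_top] at hodd
      haveI := subsingleton_of_odd hodd
      exact not_nontrivial _ hs.toNontrivial
  have hker : f.ker = oddCore K := by
    refine le_antisymm ?_ hle
    haveI := hsimple
    rcases ((inferInstance : f.ker.Normal).map (QuotientGroup.mk' (oddCore K))
      (QuotientGroup.mk'_surjective _)).eq_bot_or_eq_top with e | e
    · rwa [Subgroup.map_eq_bot_iff, QuotientGroup.ker_mk'] at e
    · exfalso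
      have e' := congrArg (Subgroup.comap (QuotientGroup.mk' (oddCore K))) e
      rw [Subgroup.comap_map_eq, QuotientGroup.ker_mk', Subgroup.comap_top, sup_eq_left.mpr hle] at e'
      haveI : Nontrivial (H ⧸ N) := hs.toNontrivial
      obtain ⟨q, hq⟩ := exists_ne (1 : H ⧸ N)
      obtain ⟨x, rfl⟩ := hf q
      exact hq (MonoidHom.mem_ker.mp (e' ▸ Subgroup.mem_top x))
  exact (QuotientGroup.quotientKerEquivOfSurjective f hf).symm.trans (QuotientGroup.quotientMulEquivOfEq hker)

/-- A non-solvable proper subgroup modulo its core is almost simple, with socle a model. -/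
theorem GWHyp.proper_shape (H : Subgroup G) (hH : H ≠ ⊤) (hns : ¬ Group.IsSolvable H) :
    GWDihedral H ∧ ∃ E : Subgroup (↥H ⧸ oddCore H), E.Normal ∧ GWModel E ∧ IsSimpleGroup E ∧
      Subgroup.centralizer (E : Set (↥H ⧸ oddCore H)) = ⊥ ∧
      ∀ L : Subgroup (↥H ⧸ oddCore H), Group.IsPerfect L → L ≤ E := by
  obtain ⟨n, hn⟩ := exists_perfect_derived H
  haveI := hn
  have hK : derivedSeries H n ≠ ⊥ := fun e => hns ⟨⟨n, e⟩⟩
  obtain ⟨hd, -, -⟩ := h.sub_model H hH _ hK
  have hQ := hd.quotient (oddCore H) CfsgLib.odd_card_oddCore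
  have hmap := map_derivedSeries_eq (f := QuotientGroup.mk' (oddCore H)) (QuotientGroup.mk'_surjective _) n
  set E := derivedSeries (↥H ⧸ oddCore H) n with hE
  haveI : Group.IsPerfect E := by
    rw [← hmap]; exact Group.IsPerfect.map _
  have hE0 : E ≠ ⊥ := fun e => by
    rw [← hmap, Subgroup.map_eq_bot_iff, QuotientGroup.ker_mk'] at e
    haveI := subsingleton_of_odd (X := derivedSeries H n)
      (CfsgLib.odd_card_oddCore.of_dvd_nat (Subgroup.card_dvd_of_le e))
    exact hK (Subgroup.eq_bot_of_subsingleton _)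
  have hEd := hQ.perfect_sub E hE0
  haveI : E.Normal := derivedSeries_normal _ n
  have hOE : oddCore E = ⊥ := by
    have h1 := CfsgLib.map_pPrimeCore_le 2 E
    rw [CfsgLib.pPrimeCore_quotient_eq_bot 2, le_bot_iff, Subgroup.map_eq_bot_iff_of_injective _ E.subtype_injective]
      at h1
    exact h1
  have hlt : Nat.card E < Nat.card G :=
    lt_of_le_of_lt ((Nat.le_of_dvd Nat.card_pos E.card_subgroup_dvd_card).trans
      (Nat.le_of_dvd Nat.card_pos (Subgroup.card_quotient_dvd_card _))) (card_lt_of_ne_top hH)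
  have hm := h.ih E hlt hEd
  refine ⟨hd, E, inferInstance, GWModel.of_equiv ?_ hm, (isSimple_of_core_eq_bot hEd hOE).1, ?_,
    fun L hL => @perfect_le_derived _ _ L hL n⟩
  · exact ((QuotientGroup.quotientMulEquivOfEq hOE).trans QuotientGroup.quotientBot).symm
  · exact le_bot_iff.mp (CfsgLib.pPrimeCore_quotient_eq_bot (G := H) 2 ▸
      CfsgLib.le_oddCore (hQ.centralizer_odd E hE0))

/-- A component of a proper subgroup. -/
theorem GWHyp.component (H : Subgroup G) (hH : H ≠ ⊤) {L : Subgroup H} (hL : IsComponent L) :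
    GWDihedral H ∧ GWDihedral L ∧ GWModel (L ⧸ oddCore L) ∧ oddCore L = Subgroup.center L ∧ L.Normal ∧
      Odd (Nat.card (Subgroup.centralizer (L : Set H))) ∧ ∀ K : Subgroup H, IsComponent K → K = L := by
  haveI : Group.IsPerfect L := hL.2.1
  obtain ⟨hd, hLd, hm⟩ := h.sub_model H hH L (isComponent_ne_bot hL)
  have hcen := hd.centralizer_odd L (isComponent_ne_bot hL)
  have hcore : oddCore L = Subgroup.center L := by
    refine le_antisymm ?_ (CfsgLib.le_oddCore hLd.center_odd)
    refine (quasisimple_normal_le_center_or_eq_top hL.2 (oddCore L)).resolve_right fun e => hLd.not_odd ?_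
    have := CfsgLib.odd_card_oddCore (G := L)
    rwa [e, Subgroup.card_top] at this
  have huniq : ∀ K : Subgroup H, IsComponent K → K = L := fun K hK => by
    refine (components_eq_or_commute hK hL).resolve_right fun e => ?_
    exact component_not_le_of_isSolvable hK (CfsgLib.OddOrder.feitThompson hcen)
      (Subgroup.commutator_eq_bot_iff_le_centralizer.mp e)
  refine ⟨hd, hLd, hm, hcore, ⟨fun x hx g => ?_⟩, hcen, huniq⟩
  have := huniq _ (isComponent_map_equiv (MulAut.conj g) hL)
  exact this ▸ ⟨x, hx, rfl⟩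

/-- `F*(H) ≠ F(H)` gives a component. -/
theorem GWHyp.exists_component (H : Subgroup G)
    (hne : generalizedFittingSubgroup H ≠ fittingSubgroup H) : ∃ L : Subgroup H, IsComponent L := by
  by_contra hno
  push Not at hno
  refine hne ?_
  rw [generalizedFittingSubgroup, show layer H = ⊥ from sSup_eq_bot.mpr fun K hK => absurd hK (hno K), bot_sup_eq]

end

end CfsgLib.GW
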