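import Cfsg.Agent.Lib.DihedralTransfer
import Cfsg.Agent.Lib.DihedralShape
import Cfsg.Agent.Lib.Basic
import Cfsg.Agent.Lib.PSolvable
import Cfsg.Agent.Lib.OddOrder.FeitThompson
import Cfsg.Prelude.Def_Classification2
import Cfsg.Prelude.Def_CaseTheorems

/-!
The Gorenstein–Walter theorem: reduction to simple groups all of whose smaller perfect groups with dihedral
Sylow 2-subgroups are known.

* `GWDihedral X`: the Sylow 2-subgroups of `X` are dihedral of order at least four.
* `GWModel X`: `X` is `PSL(2,q)`, `q` odd and greater than three, or `A₇`.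
* `GWHyp G`: `G` is simple, non-abelian, with dihedral Sylow 2-subgroups, and smaller perfect groups with
  dihedral Sylow 2-subgroups are models modulo their cores.
* `reduction`: the theorem follows from the case of groups satisfying `GWHyp`.
-/

set_option autoImplicit false
set_option linter.unusedSectionVars false

namespace CfsgLib.GW

open Cfsg DihedralGroup
open CfsgLib.DihedralFusion

universe u v

/-- The Sylow 2-subgroups are dihedral of order at least four. -/
def GWDihedral (X : Type u) [Group X] : Prop :=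
  ∃ (S : Sylow 2 X) (n : ℕ), 2 ≤ n ∧ Nonempty ((S : Subgroup X) ≃* DihedralGroup n)

/-- The conclusion of the Gorenstein–Walter theorem. -/
def GWModel (X : Type u) [Group X] : Prop :=
  (∃ (F : Type) (_ : Field F) (_ : Fintype F), Odd (Fintype.card F) ∧ 3 < Fintype.card F ∧
      Nonempty (X ≃* Matrix.ProjectiveSpecialLinearGroup (Fin 2) F)) ∨
    Nonempty (X ≃* alternatingGroup (Fin 7))

/-- A minimal configuration for the Gorenstein–Walter theorem. -/
structure GWHyp (G : Type u) [Group G] [Finite G] : Prop where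
  simple : IsSimpleGroup G
  noncomm : ¬ IsMulCommutative G
  dihedral : GWDihedral G
  ih : ∀ (X : Type u) [Group X] [Finite X] [Group.IsPerfect X], Nat.card X < Nat.card G → GWDihedral X →
    GWModel (X ⧸ oddCore X)

variable {X : Type u} [Group X] {Y : Type v} [Group Y]

theorem GWModel.of_equiv (e : X ≃* Y) (h : GWModel Y) : GWModel X := by
  rcases h with ⟨F, hF, hFt, ho, h3, f⟩ | f
  · exact Or.inl ⟨F, hF, hFt, ho, h3, f.map e.trans⟩
  · exact Or.inr (f.map e.trans)

theorem GWModel.isKnownSimple (h : GWModel X) : IsKnownSimple' X := by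
  rcases h with ⟨F, hF, hFt, -, h3, e⟩ | e
  · exact Or.inr (Or.inr (Or.inl ⟨F, hF, hFt, 2, le_rfl, fun _ => h3, e⟩))
  · exact Or.inr (Or.inl ⟨7, by omega, e⟩)

/-- A perfect group maps trivially to a group of odd order. -/
theorem map_eq_one_of_odd [Group.IsPerfect X] [Finite Y] (hY : Odd (Nat.card Y)) (f : X →* Y) (x : X) :
    f x = 1 := by
  haveI : Group.IsPerfect f.range := Group.IsPerfect.ofSurjective (f := f.rangeRestrict) f.rangeRestrict_surjective
  haveI : Group.IsSolvable f.range := CfsgLib.OddOrder.feitThompson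
    (hY.of_dvd_nat (Subgroup.card_subgroup_dvd_card f.range))
  by_contra h
  haveI : Nontrivial f.range := ⟨⟨⟨f x, x, rfl⟩, 1, fun e => h (congrArg Subtype.val e)⟩⟩
  exact Group.IsPerfect.not_isSolvable f.range inferInstance

/-- A perfect group of odd order is trivial. -/
theorem subsingleton_of_odd [Finite X] [Group.IsPerfect X] (h : Odd (Nat.card X)) : Subsingleton X :=
  ⟨fun a b => (map_eq_one_of_odd h (MonoidHom.id X) a).trans (map_eq_one_of_odd h (MonoidHom.id X) b).symm⟩

theorem index_ne_two [Group.IsPerfect X] (H : Subgroup X) : H.index ≠ 2 := by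
  intro h
  haveI := Subgroup.normal_of_index_eq_two h
  haveI : Finite (X ⧸ H) := Nat.finite_of_card_ne_zero (by rw [← Subgroup.index, h]; norm_num)
  haveI : Group.IsPerfect (X ⧸ H) :=
    Group.IsPerfect.ofSurjective (f := QuotientGroup.mk' H) (QuotientGroup.mk'_surjective H)
  haveI : Fact (Nat.Prime 2) := ⟨Nat.prime_two⟩
  haveI : IsCyclic (X ⧸ H) := isCyclic_of_prime_card (p := 2) h
  haveI : IsMulCommutative (X ⧸ H) := IsCyclic.isMulCommutative
  have hs : Subsingleton (X ⧸ H) := Group.IsPerfect.subsingleton_of_isMulCommutative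
  have := Nat.card_of_subsingleton (1 : X ⧸ H)
  rw [← Subgroup.index, h] at this
  norm_num at this

variable [Finite X]

/-- A cyclic Sylow 2-subgroup of a perfect group is trivial. -/
theorem sylow_eq_bot_of_cyclic [Group.IsPerfect X] (S : Sylow 2 X) (h : IsCyclic S) :
    (S : Subgroup X) = ⊥ := by
  by_contra hne
  haveI : Fact (Nat.Prime 2) := ⟨Nat.prime_two⟩
  haveI := h
  have hmin : (Nat.card X).minFac = 2 := by
    have hdvd : 2 ∣ Nat.card X := by
      obtain ⟨k, hk⟩ := IsPGroup.iff_card.mp S.2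
      rcases k with _ | k
      · exact absurd (Subgroup.card_eq_one.mp (hk.trans (pow_zero 2))) hne
      · exact (dvd_pow_self 2 (Nat.succ_ne_zero k)).trans (hk ▸ (S : Subgroup X).card_subgroup_dvd_card)
    exact (Nat.minFac_eq_two_iff _).mpr hdvd
  have hle : Subgroup.normalizer ((S : Subgroup X) : Set X) ≤ Subgroup.centralizer ((S : Subgroup X) : Set X) :=
    IsCyclic.normalizer_le_centralizer hmin (P := S) h
  have hker := MonoidHom.ker_transferSylow_isComplement' S hle
  haveI : IsMulCommutative (S : Subgroup X) := IsCyclic.isMulCommutative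
  have htop : (MonoidHom.transferSylow S hle).ker = ⊤ := by
    rw [eq_top_iff, ← Group.IsPerfect.commutator_eq_top (G := X)]
    exact Subgroup.commutator_le.mpr fun a _ b _ => by
      rw [MonoidHom.mem_ker, map_commutatorElement, commutatorElement_eq_one_iff_commute]
      exact IsMulCommutative.is_comm.comm _ _
  rw [htop] at hker
  exact hne (Subgroup.isComplement'_top_left.mp hker)

theorem GWDihedral.shape (hX : GWDihedral X) (P : Sylow 2 X) :
    ∃ n, 2 ≤ n ∧ Nonempty ((P : Subgroup X) ≃* DihedralGroup n) := by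
  haveI : Fact (Nat.Prime 2) := ⟨Nat.prime_two⟩
  obtain ⟨S, n, hn, ⟨e⟩⟩ := hX
  exact ⟨n, hn, ⟨(Sylow.equiv P S).trans e⟩⟩

/-- A Sylow 2-subgroup of a subgroup is cyclic or dihedral of order at least four. -/
theorem GWDihedral.sub_shape (hX : GWDihedral X) {H : Subgroup X} (P : Sylow 2 H) :
    IsCyclic P ∨ GWDihedral H := by
  haveI : Fact (Nat.Prime 2) := ⟨Nat.prime_two⟩
  obtain ⟨S, n, hn, ⟨eS⟩⟩ := hX
  haveI : NeZero n := ⟨by omega⟩
  have hP' : IsPGroup 2 ((P : Subgroup H).map H.subtype) := P.2.map _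
  obtain ⟨g, hg⟩ := exists_conj_le (S := S) hP'
  set Q := ((P : Subgroup H).map H.subtype).map (MulAut.conj g).toMonoidHom
  let e : (P : Subgroup H) ≃* toD eS Q :=
    (((P : Subgroup H).equivMapOfInjective H.subtype H.subtype_injective).trans
      (((P : Subgroup H).map H.subtype).equivMapOfInjective (MulAut.conj g).toMonoidHom
        (MulAut.conj g).injective)).trans (equivD eS hg)
  rcases DihedralShape.subgroup_shape (toD eS Q) with h | ⟨k, hk, ⟨f⟩⟩
  · haveI := h
    exact Or.inl (isCyclic_of_surjective e.symm.toMonoidHom e.symm.surjective)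
  · rcases lt_or_ge k 2 with hk2 | hk2
    · have hk0 : k ≠ 0 := fun h0 => by
        rw [h0, zero_dvd_iff] at hk
        omega
      refine Or.inl (isCyclic_of_prime_card (p := 2) ?_)
      rw [Nat.card_congr (e.trans f).toEquiv, DihedralGroup.nat_card]
      omega
    · exact Or.inr ⟨P, k, hk2, ⟨e.trans f⟩⟩

/-- A nontrivial perfect subgroup again has dihedral Sylow 2-subgroups. -/
theorem GWDihedral.perfect_sub (hX : GWDihedral X) (L : Subgroup X) [Group.IsPerfect L] (hL : L ≠ ⊥) :
    GWDihedral L := by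
  obtain ⟨P⟩ : Nonempty (Sylow 2 L) := inferInstance
  refine (hX.sub_shape P).resolve_left fun hc => hL ?_
  haveI : Fact (Nat.Prime 2) := ⟨Nat.prime_two⟩
  have hP := sylow_eq_bot_of_cyclic P hc
  have hodd : Odd (Nat.card L) := by
    have h := P.not_dvd_index
    rw [hP, Subgroup.index_bot] at h
    rwa [← Nat.not_even_iff_odd, even_iff_two_dvd]
  haveI := subsingleton_of_odd hodd
  exact Subgroup.eq_bot_of_subsingleton L

/-- Quotients by normal subgroups of odd order. -/
theorem GWDihedral.quotient (hX : GWDihedral X) (N : Subgroup X) [N.Normal] (hN : Odd (Nat.card N)) :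
    GWDihedral (X ⧸ N) := by
  haveI : Fact (Nat.Prime 2) := ⟨Nat.prime_two⟩
  obtain ⟨S, n, hn, ⟨e⟩⟩ := hX
  set f := QuotientGroup.mk' N
  have hinj : Function.Injective (f.comp (S : Subgroup X).subtype) := by
    refine (injective_iff_map_eq_one _).mpr fun x hx => ?_
    have hxN : (x : X) ∈ N := (QuotientGroup.eq_one_iff _).mp hx
    obtain ⟨k, hk⟩ := S.2 x
    have h1 : orderOf (x : X) ∣ 2 ^ k := orderOf_dvd_of_pow_eq_one (congrArg Subtype.val hk)
    have h2 := Subgroup.orderOf_dvd_natCard N hxN
    have h3 := Nat.eq_one_of_dvd_coprimes (Nat.Coprime.pow_left k (Nat.coprime_two_left.mpr hN)) h1 h2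
    exact Subtype.ext (orderOf_eq_one_iff.mp h3)
  refine ⟨S.mapSurjective (QuotientGroup.mk'_surjective N), n, hn, ⟨MulEquiv.trans ?_ e⟩⟩
  exact ((MonoidHom.ofInjective hinj).trans (MulEquiv.subgroupCongr (by
    rw [MonoidHom.range_comp, Subgroup.range_subtype]; rfl))).symm

theorem GWDihedral.perfect_all_conj (hX : GWDihedral X) [Group.IsPerfect X] (a b : X) (ha : orderOf a = 2)
    (hb : orderOf b = 2) : IsConj a b := by
  obtain ⟨S, n, hn, ⟨eS⟩⟩ := hX
  refine all_conj_of_not_lacking eS hn (fun U hU hK hL => ?_) a b ha hb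
  obtain ⟨H, hH⟩ := exists_index_two_of_lacking eS hn hU hK hL
  exact index_ne_two H hH

theorem GWDihedral.not_odd (hX : GWDihedral X) : ¬ Odd (Nat.card X) := by
  obtain ⟨S, n, hn, ⟨eS⟩⟩ := hX
  intro h
  have h2 := h.of_dvd_nat (S : Subgroup X).card_subgroup_dvd_card
  rw [Nat.card_congr eS.toEquiv, DihedralGroup.nat_card] at h2
  exact (Nat.not_odd_iff_even.mpr (even_two_mul n)) h2

/-- A perfect group with dihedral Sylow 2-subgroups and trivial core is simple. -/
theorem isSimple_of_core_eq_bot [Group.IsPerfect X] (hX : GWDihedral X) (hO : oddCore X = ⊥) :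
    IsSimpleGroup X ∧ ¬ IsMulCommutative X := by
  haveI : Fact (Nat.Prime 2) := ⟨Nat.prime_two⟩
  have hnt : Nontrivial X := by
    by_contra h
    rw [not_nontrivial_iff_subsingleton] at h
    exact hX.not_odd (by rw [Nat.card_of_subsingleton (1 : X)]; exact odd_one)
  refine ⟨⟨fun N hN => ?_⟩, Group.IsPerfect.not_isMulCommutative X⟩
  haveI := hN
  rw [or_iff_not_imp_left]
  intro hne
  have heven : ¬ Odd (Nat.card N) := fun h => hne (le_bot_iff.mp (hO ▸ CfsgLib.le_oddCore h))
  rw [Nat.not_odd_iff_even, even_iff_two_dvd] at heven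
  obtain ⟨x, hx⟩ := exists_prime_orderOf_dvd_card' (G := N) 2 heven
  rw [← Subgroup.orderOf_coe] at hx
  have hall : ∀ y : X, orderOf y = 2 → y ∈ N := fun y hy => by
    obtain ⟨c, hc⟩ := isConj_iff.mp (hX.perfect_all_conj (x : X) y hx hy)
    exact hc ▸ hN.conj_mem _ x.2 c
  obtain ⟨S, n, hn, ⟨eS⟩⟩ := hX
  haveI : NeZero n := ⟨by omega⟩
  have hsr : ∀ i : ZMod n, pt eS (sr i) ∈ N := fun i =>
    hall _ (orderOf_pt eS (fun e => by rw [one_def] at e; cases e) (sr_mul_self i))
  have hSN : (S : Subgroup X) ≤ N := fun y hy => by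
    rw [← pt_eq eS hy]
    rcases eS ⟨y, hy⟩ with i | i
    · rw [show (r i : DihedralGroup n) = sr 0 * sr i by rw [sr_mul_sr, sub_zero], pt_mul]
      exact mul_mem (hsr 0) (hsr i)
    · exact hsr i
  have hodd : Odd (Nat.card (X ⧸ N)) := by
    rw [← Nat.not_even_iff_odd, even_iff_two_dvd]
    exact fun h => S.not_dvd_index (h.trans (Subgroup.index_dvd_of_le hSN))
  rw [eq_top_iff]
  exact fun y _ => (QuotientGroup.eq_one_iff y).mp (map_eq_one_of_odd hodd (QuotientGroup.mk' N) y)

/-- Modulo its core, a perfect group with dihedral Sylow 2-subgroups is simple. -/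
theorem simple_mod_core [Group.IsPerfect X] (hX : GWDihedral X) :
    IsSimpleGroup (X ⧸ oddCore X) ∧ ¬ IsMulCommutative (X ⧸ oddCore X) := by
  haveI : Group.IsPerfect (X ⧸ oddCore X) :=
    Group.IsPerfect.ofSurjective (f := QuotientGroup.mk' (oddCore X)) (QuotientGroup.mk'_surjective _)
  exact isSimple_of_core_eq_bot (hX.quotient _ CfsgLib.odd_card_oddCore)
    (CfsgLib.pPrimeCore_quotient_eq_bot 2)

/-- **The reduction**: it suffices to identify the groups satisfying `GWHyp`. -/
theorem reduction {X : Type u} [Group X] [Finite X] [Group.IsPerfect X] (hX : GWDihedral X)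
    (main : ∀ (G : Type u) [Group G] [Finite G], GWHyp G → GWModel G) : GWModel (X ⧸ oddCore X) := by
  suffices H : ∀ (n : ℕ) (X : Type u) [Group X] [Finite X] [Group.IsPerfect X], Nat.card X = n → GWDihedral X →
      GWModel (X ⧸ oddCore X) from H _ X rfl hX
  intro n
  induction n using Nat.strong_induction_on with
  | _ n ih =>
    intro X _ _ _ hn hX
    have hs := simple_mod_core hX
    refine main _ ⟨hs.1, hs.2, hX.quotient _ CfsgLib.odd_card_oddCore, fun Y _ _ _ hY hYd => ?_⟩
    exact ih _ (hn ▸ hY.trans_le (Subgroup.card_quotient_dvd_card _ |> Nat.le_of_dvd Nat.card_pos)) Y rfl hYd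

end CfsgLib.GW
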