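import Mathlib

/-!
# The arithmetic of two twisted blocks

The pairs of signed degrees of a twisted block and of the principal block give the same sums; only the
pattern `(9, -15), (3, 3)` survives.
-/

namespace CfsgLib.GW.LCharArith

set_option linter.unusedVariables false

/-- The weighted sum of a pair of signed degrees. -/
def E (a b : ℤ) : ℚ := 1 / (a : ℚ) + 1 / (b : ℚ) - 4 / ((a + b : ℤ) : ℚ)

theorem E_comm (a b : ℤ) : E a b = E b a := by
  unfold E
  rw [add_comm a b]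
  ring

theorem E_eq {a b : ℤ} (ha : a ≠ 0) (hb : b ≠ 0) (hab : a + b ≠ 0) :
    E a b = ((a : ℚ) - b) ^ 2 / ((a : ℚ) * b * (a + b)) := by
  have ha' : (a : ℚ) ≠ 0 := Int.cast_ne_zero.2 ha
  have hb' : (b : ℚ) ≠ 0 := Int.cast_ne_zero.2 hb
  have hab' : (a : ℚ) + b ≠ 0 := by exact_mod_cast hab
  rw [E, Int.cast_add]
  field_simp
  ring

theorem E_one {y : ℤ} (hy : 2 ≤ y ∨ y ≤ -2) :
    E 1 y = ((y : ℚ) - 1) ^ 2 / ((y : ℚ) * (y + 1)) := by
  rw [E_eq one_ne_zero (by omega) (by omega)]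
  push_cast
  ring

/-- Same signs give small sums. -/
theorem E_same_sign {a b : ℤ} (ha : 7 ≤ |a|) (hb : 7 ≤ |b|) (hs : 0 < a ↔ 0 < b) :
    E a b ≤ 2 / 7 := by
  rcases lt_or_gt_of_ne (show a ≠ 0 by intro e; rw [e] at ha; norm_num at ha) with hn | hp
  · have hbn : b < 0 := by
      rcases lt_or_gt_of_ne (show b ≠ 0 by intro e; rw [e] at hb; norm_num at hb) with h | h
      · exact h
      · exact absurd (hs.2 h) (by omega)
    rw [abs_of_neg hn] at ha
    rw [abs_of_neg hbn] at hb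
    have ha' : (7 : ℚ) ≤ -(a : ℚ) := by exact_mod_cast ha
    have hb' : (7 : ℚ) ≤ -(b : ℚ) := by exact_mod_cast hb
    rw [E]
    push_cast
    have h1 : 1 / (a : ℚ) ≤ 0 := div_nonpos_of_nonneg_of_nonpos one_pos.le (by linarith)
    have h2 : 1 / (b : ℚ) ≤ 0 := div_nonpos_of_nonneg_of_nonpos one_pos.le (by linarith)
    have h3 : -(4 / ((a : ℚ) + b)) ≤ 2 / 7 := by
      rw [← div_neg, div_le_iff₀ (by linarith)]
      linarith
    linarith
  · have hbp := hs.1 hp
    rw [abs_of_pos hp] at ha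
    rw [abs_of_pos hbp] at hb
    have ha' : (7 : ℚ) ≤ (a : ℚ) := by exact_mod_cast ha
    have hb' : (7 : ℚ) ≤ (b : ℚ) := by exact_mod_cast hb
    rw [E]
    push_cast
    have h1 : 1 / (a : ℚ) ≤ 1 / 7 := one_div_le_one_div_of_le (by norm_num) ha'
    have h2 : 1 / (b : ℚ) ≤ 1 / 7 := one_div_le_one_div_of_le (by norm_num) hb'
    have h3 : 0 ≤ 4 / ((a : ℚ) + b) := div_nonneg (by norm_num) (by linarith)
    linarith

/-- The constant pairs. -/
theorem const_pairs {h : ℕ} (hh : ∃ k, h = 2 ^ (k + 1)) {a b y : ℤ}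
    (ha : ((4 * h : ℕ) : ℤ) ∣ a - 1) (hb : ((4 * h : ℕ) : ℤ) ∣ b - 1) (hy : ((4 * h : ℕ) : ℤ) ∣ y - 1)
    (ha3 : 3 ≤ |a|) (hb3 : 3 ≤ |b|) (hy3 : 3 ≤ |y|) (hab : a + b ≠ 0) (he : E a b = E 1 y) :
    h = 2 ∧ a + b = -6 ∧ y = 9 := by
  obtain ⟨k, rfl⟩ := hh
  have hN : (8 : ℤ) ≤ ((4 * 2 ^ (k + 1) : ℕ) : ℤ) := by
    have := Nat.one_le_two_pow (n := k)
    rw [pow_succ]
    push_cast
    have : (1 : ℤ) ≤ (2 : ℤ) ^ k := by exact_mod_cast this
    linarith
  have hbig : ∀ {c : ℤ}, ((4 * 2 ^ (k + 1) : ℕ) : ℤ) ∣ c - 1 → 3 ≤ |c| →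
      (((4 * 2 ^ (k + 1) : ℕ) : ℤ) + 1 ≤ c ∨ c ≤ 1 - ((4 * 2 ^ (k + 1) : ℕ) : ℤ)) := by
    intro c hc hc3
    have hc1 : c - 1 ≠ 0 := fun e => by
      rw [sub_eq_zero.1 e] at hc3; norm_num at hc3
    rcases lt_or_gt_of_ne hc1 with h | h
    · right
      have := Int.le_of_dvd (by omega) (dvd_neg.2 hc)
      omega
    · left
      have := Int.le_of_dvd h hc
      omega
  have hy' := hbig hy hy3
  have ha' := hbig ha ha3
  have hb' := hbig hb hb3
  set N : ℤ := ((4 * 2 ^ (k + 1) : ℕ) : ℤ) with hNdef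
  have hlow : 32 / 45 ≤ E 1 y := by
    rw [E_one (by omega)]
    rcases hy' with h | h
    · have h9 : (9 : ℚ) ≤ y := by exact_mod_cast (show (9 : ℤ) ≤ y by omega)
      rw [div_le_div_iff₀ (by norm_num) (by nlinarith)]
      nlinarith
    · have h7 : (y : ℚ) ≤ -7 := by exact_mod_cast (show y ≤ -7 by omega)
      rw [div_le_div_iff₀ (by norm_num) (by nlinarith)]
      nlinarith
  -- opposite signs
  have hop : ¬ (0 < a ↔ 0 < b) := fun hs => by
    have := E_same_sign (a := a) (b := b) (le_abs.2 (by omega)) (le_abs.2 (by omega)) hs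
    linarith
  suffices key : ∀ a b : ℤ, N ∣ a - 1 → N ∣ b - 1 → a + b ≠ 0 → E a b = E 1 y → (N + 1 ≤ a ∨ a ≤ 1 - N) →
      (N + 1 ≤ b ∨ b ≤ 1 - N) → ¬ (0 < a ↔ 0 < b) → 0 < a → 2 ^ (k + 1) = 2 ∧ a + b = -6 ∧ y = 9 by
    by_cases hpos : 0 < a
    · exact key a b ha hb hab he ha' hb' hop hpos
    · obtain ⟨h1, h2, h3⟩ := key b a hb ha (by omega) ((E_comm b a).trans he) hb' ha'
        (fun hs => hop hs.symm) (by
          by_contra hc
          exact hop ⟨fun h => absurd h hpos, fun h => absurd h hc⟩)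
      exact ⟨h1, by omega, h3⟩
  clear ha hb hab he ha' hb' hop ha3 hb3 a b
  intro a b ha hb hab he ha' hb' hop hpos
  have hbneg : b < 0 := by
    rcases lt_or_gt_of_ne (show b ≠ 0 by omega) with h | h
    · exact h
    · exact absurd ⟨fun _ => h, fun _ => hpos⟩ hop
  have hpN : N + 1 ≤ a := by omega
  have hp : (9 : ℚ) ≤ (a : ℚ) := by exact_mod_cast (show (9 : ℤ) ≤ a by omega)
  have hr : (b : ℚ) < 0 := by exact_mod_cast hbneg
  set d : ℤ := -(a + b) with hd
  have hdd : N ∣ d + 2 := by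
    have := dvd_neg.2 (dvd_add ha hb)
    rwa [show -(a - 1 + (b - 1)) = d + 2 by omega] at this
  have hE : E a b = 1 / (a : ℚ) + 1 / (b : ℚ) + 4 / (d : ℚ) := by
    rw [E, hd]
    push_cast
    rw [div_neg]
    ring
  have hdpos : 0 < d := by
    by_contra hc
    have hle : (a : ℚ) + b ≥ 0 := by exact_mod_cast (show a + b ≥ 0 by omega)
    have : E a b ≤ 0 := by
      rw [E_eq (by omega) (by omega) hab]
      refine div_nonpos_of_nonneg_of_nonpos (sq_nonneg _) ?_
      exact mul_nonpos_of_nonpos_of_nonneg (mul_nonpos_of_nonneg_of_nonpos (by linarith) hr.le) hle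
    linarith
  have hdN : N - 2 ≤ d := by
    have := Int.le_of_dvd (by omega) hdd
    omega
  have hb0 : 1 / (b : ℚ) < 0 := div_neg_of_pos_of_neg one_pos hr
  have hd6 : d = 6 := by
    by_contra hne
    have h14 : 14 ≤ d := by
      obtain ⟨c, hc⟩ := hdd
      rcases le_or_gt 14 d with h | h
      · exact h
      · exfalso
        have h16 : N = 8 ∨ 16 ≤ N := by
          rcases k with _ | k
          · left; rw [hNdef]; norm_num
          · right
            rw [hNdef, pow_succ, pow_succ]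
            have := Nat.one_le_two_pow (n := k)
            push_cast
            have : (1 : ℤ) ≤ (2 : ℤ) ^ k := by exact_mod_cast this
            linarith
        rcases h16 with e | e
        · rw [e] at hc hdN; omega
        · omega
    have h14' : (14 : ℚ) ≤ d := by exact_mod_cast h14
    have h1 : 1 / (a : ℚ) ≤ 1 / 9 := one_div_le_one_div_of_le (by norm_num) hp
    have h2 : 4 / (d : ℚ) ≤ 4 / 14 := div_le_div_of_nonneg_left (by norm_num) (by norm_num) h14'
    linarith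
  have hk : k = 0 := by
    rcases k with _ | k
    · rfl
    · exfalso
      rw [hd6, hNdef, pow_succ, pow_succ] at hdN
      push_cast at hdN
      have : (1 : ℤ) ≤ (2 : ℤ) ^ k := by exact_mod_cast Nat.one_le_two_pow (n := k)
      linarith
  subst hk
  refine ⟨by norm_num, by omega, ?_⟩
  have hN8 : N = 8 := by rw [hNdef]; norm_num
  rw [hN8] at ha hy hy'
  have hE' : E a b = 2 / 3 + 6 / ((a : ℚ) * (a + 6)) := by
    have hbv : (b : ℚ) = -(a + 6) := by
      have : b = -(a + 6) := by omega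
      rw [this]; push_cast; ring
    rw [hE, hd6, hbv]
    have h0 : (a : ℚ) ≠ 0 := by linarith
    have h6 : (a : ℚ) + 6 ≠ 0 := by linarith
    field_simp
    push_cast
    ring
  have hupp : E a b ≤ 32 / 45 := by
    rw [hE']
    have : 6 / ((a : ℚ) * (a + 6)) ≤ 6 / 135 :=
      div_le_div_of_nonneg_left (by norm_num) (by norm_num) (by nlinarith)
    linarith
  rw [he] at hupp
  rcases hy' with h | h
  · by_contra hne
    have h17 : (17 : ℚ) ≤ y := by exact_mod_cast (show (17 : ℤ) ≤ y by omega)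
    rw [E_one (by omega), div_le_div_iff₀ (by nlinarith) (by norm_num)] at hupp
    nlinarith
  · exfalso
    have h7 : (y : ℚ) ≤ -7 := by exact_mod_cast (show y ≤ -7 by omega)
    rw [E_one (by omega), div_le_div_iff₀ (by nlinarith) (by norm_num)] at hupp
    nlinarith

/-- The alternating pairs. -/
theorem alt_pairs {b c b' c' : ℤ} (hb : 8 ∣ b - 3) (hc : 8 ∣ c - 3) (hb' : 8 ∣ b' - 3)
    (hc' : 8 ∣ c' - 3) (hs : b + c = 6) (hs' : b' + c' = -10) (he : E b c = E b' c') : b = 3 := by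
  have hnn : 0 ≤ E b' c' := by
    have h5 : b' = -5 ∧ c' = -5 ∨ 0 < b' ∧ c' < 0 ∨ b' < 0 ∧ 0 < c' := by omega
    rcases h5 with ⟨rfl, rfl⟩ | ⟨h1, h2⟩ | ⟨h1, h2⟩
    · norm_num [E]
    all_goals
      rw [E_eq (by omega) (by omega) (by omega)]
      refine div_nonneg (sq_nonneg _) ?_
      have hsum : (b' : ℚ) + c' = -10 := by exact_mod_cast hs'
      rw [hsum]
    · have : (b' : ℚ) * c' ≤ 0 := mul_nonpos_of_nonneg_of_nonpos (by exact_mod_cast h1.le) (by exact_mod_cast h2.le)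
      linarith
    · have : (b' : ℚ) * c' ≤ 0 := mul_nonpos_of_nonpos_of_nonneg (by exact_mod_cast h1.le) (by exact_mod_cast h2.le)
      linarith
  by_contra hne
  have hneg : E b c < 0 := by
    rw [E_eq (by omega) (by omega) (by omega)]
    have hsum : (b : ℚ) + c = 6 := by exact_mod_cast hs
    have hsq : (0 : ℚ) < ((b : ℚ) - c) ^ 2 := by
      have h1 : b - c ≠ 0 := by omega
      have : (b : ℚ) - c ≠ 0 := by exact_mod_cast h1
      positivity
    refine div_neg_of_pos_of_neg hsq ?_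
    rw [hsum]
    have hp : b < 0 ∧ 0 < c ∨ 0 < b ∧ c < 0 := by omega
    rcases hp with ⟨h1, h2⟩ | ⟨h1, h2⟩
    · have : (b : ℚ) * c < 0 := mul_neg_of_neg_of_pos (by exact_mod_cast h1) (by exact_mod_cast h2)
      linarith
    · have : (b : ℚ) * c < 0 := mul_neg_of_pos_of_neg (by exact_mod_cast h1) (by exact_mod_cast h2)
      linarith
  linarith

end CfsgLib.GW.LCharArith
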