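import Cfsg.Agent.Lib.GW.TwistShape
import Cfsg.Agent.Lib.GW.LCharArith
import Cfsg.Agent.Lib.CharTheory.Integral

/-!
# Linear characters of the core of an involution centralizer in a simple group

In a simple group with dihedral Sylow subgroup and one class of involutions, a linear character of the
centralizer of the central involution which is trivial on the Sylow subgroup and fixed at each
noncentral four group is trivial.
-/

namespace CfsgLib.GW.Twist

open Cfsg CfsgLib.CharTheory CfsgLib.Blocks CfsgLib.Blocks.AbelianFree CfsgLib.Blocks.Dihedral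
open scoped ComplexConjugate

set_option linter.unusedVariables false
set_option linter.style.haveILetI false
set_option linter.unusedSectionVars false

universe u

variable {G : Type u} [Group G] [Fintype G] {M : Ideal AlgInt} {P : Sylow 2 G} {σ : G} {h : ℕ}
  {L : G → ℂ} {B : Set (IrrCharacter G)} {ζ : ℂ}

theorem ne_one_of_degree [IsSimpleGroup G] (hna : ¬ IsMulCommutative G) {χ : IrrCharacter G}
    (hχ : (χ : G → ℂ) 1 = 1) : χ = oneIrr G := by
  obtain ⟨f, hf⟩ := exists_hom_of_degree_one (isCharacter_of_irr χ.2) hχ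
  rcases (inferInstance : f.ker.Normal).eq_bot_or_eq_top with hk | hk
  · exact absurd ⟨⟨fun a b => (f.ker_eq_bot_iff.1 hk) (by rw [map_mul, map_mul, mul_comm])⟩⟩ hna
  · refine Subtype.ext (funext fun g => ?_)
    have : f g = 1 := f.mem_ker.1 (hk ▸ Subgroup.mem_top g)
    have e := congrFun hf g
    simp only [this, Units.val_one] at e
    first | exact e | exact e.symm

/-- A character whose sum over a four group vanishes does so on its translates by a central element. -/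
theorem klein_translate {χ : IrrCharacter G} {z v a : G} (hz : z * z = 1) (hv : v * v = 1)
    (hzv : Commute z v) (haz : Commute a z) (hav : Commute a v)
    (h0 : (χ : G → ℂ) 1 + (χ : G → ℂ) z + (χ : G → ℂ) v + (χ : G → ℂ) (z * v) = 0) :
    (χ : G → ℂ) a + (χ : G → ℂ) (z * a) + (χ : G → ℂ) (v * a) + (χ : G → ℂ) (z * v * a) = 0 := by
  obtain ⟨n, ρ, hρ, e⟩ := χ.2
  have ez : ρ z * ρ z = 1 := by rw [← map_mul, hz, map_one]
  have ev : ρ v * ρ v = 1 := by rw [← map_mul, hv, map_one]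
  have ec : ρ z * ρ v = ρ v * ρ z := by rw [← map_mul, hzv.eq, map_mul]
  set T : (Fin n → ℂ) →ₗ[ℂ] (Fin n → ℂ) := (4⁻¹ : ℂ) • ((1 + ρ z) * (1 + ρ v)) with hT
  have hidem : IsIdempotentElem T := by
    have hc : Commute (1 + ρ z) (1 + ρ v) :=
      ((Commute.one_left _).add_left ((Commute.one_right _).add_right ec))
    have h1 : (1 + ρ z) * (1 + ρ z) = (2 : ℂ) • (1 + ρ z) := by
      rw [add_mul, one_mul, mul_add, mul_one, ez, two_smul]; abel
    have h2 : (1 + ρ v) * (1 + ρ v) = (2 : ℂ) • (1 + ρ v) := by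
      rw [add_mul, one_mul, mul_add, mul_one, ev, two_smul]; abel
    show T * T = T
    rw [hT, smul_mul_smul_comm, mul_assoc (1 + ρ z) (1 + ρ v), ← mul_assoc (1 + ρ v) (1 + ρ z), ← hc.eq,
      mul_assoc (1 + ρ z) (1 + ρ v), h2, ← mul_assoc, h1, smul_mul_smul_comm, smul_smul]
    norm_num
  have hexp : (1 + ρ z) * (1 + ρ v) = ρ 1 + ρ z + ρ v + ρ (z * v) := by
    rw [map_one, map_mul, add_mul, one_mul, mul_add, mul_one]; abel
  have htr : LinearMap.trace ℂ _ T = 0 := by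
    rw [hT, map_smul, hexp, map_add, map_add, map_add]
    rw [← e] at h0
    simp only [Representation.character] at h0
    rw [h0, smul_zero]
  have hT0 : T = 0 := (LinearMap.IsIdempotentElem.trace_eq_zero_iff hidem).1 htr
  have h4 : ρ 1 + ρ z + ρ v + ρ (z * v) = 0 := by
    rw [← hexp]
    rw [hT, smul_eq_zero] at hT0
    exact hT0.resolve_left (by norm_num)
  have := congrArg (fun F => LinearMap.trace ℂ _ (F * ρ a)) h4
  simp only [add_mul, ← map_mul, map_add, one_mul, zero_mul, map_zero] at this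
  rw [← e]
  exact this

theorem central_of_norm [IsSimpleGroup G] {χ : IrrCharacter G} {a g : G}
    (hg : (χ : G → ℂ) g ≠ (χ : G → ℂ) 1) (ha : ‖(χ : G → ℂ) a‖ = ‖(χ : G → ℂ) 1‖) :
    ∀ b : G, a * b = b * a := by
  obtain ⟨n, ρ, hρ, e⟩ := χ.2
  rw [← e] at hg ha
  rw [ρ.char_one, Complex.norm_natCast] at ha
  obtain ⟨c, hc⟩ := eq_smul_id_of_norm_character_eq ρ a ha
  have hinj : ∀ x : G, ρ x = 1 → x = 1 := by
    let N : Subgroup G :=
      { carrier := {x | ρ x = 1}
        one_mem' := map_one ρ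
        mul_mem' := fun {x y} (hx : ρ x = 1) (hy : ρ y = 1) => show ρ (x * y) = 1 by
          rw [map_mul, hx, hy, one_mul]
        inv_mem' := fun {x} (hx : ρ x = 1) => show ρ x⁻¹ = 1 by
          have h1 : ρ x⁻¹ * ρ x = 1 := by rw [← map_mul, inv_mul_cancel, map_one]
          rwa [hx, mul_one] at h1 }
    have hN : N.Normal := ⟨fun x (hx : ρ x = 1) y => show ρ (y * x * y⁻¹) = 1 by
      rw [map_mul, map_mul, hx, mul_one, ← map_mul, mul_inv_cancel, map_one]⟩
    rcases hN.eq_bot_or_eq_top with hk | hk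
    · exact fun x hx => Subgroup.mem_bot.1 (hk ▸ (show x ∈ N from hx))
    · refine absurd ?_ hg
      have h1 : ρ g = 1 := show g ∈ N from hk ▸ Subgroup.mem_top g
      simp only [Representation.character, h1, map_one]
  intro b
  have h1 : ρ (a * b * (b * a)⁻¹) = 1 := by
    have e1 : ρ (a * b) = ρ (b * a) := by
      rw [map_mul, map_mul, hc]
      ext x
      simp
    rw [map_mul, e1, ← map_mul, mul_inv_cancel, map_one]
  exact mul_inv_eq_one.1 (hinj _ h1)

theorem Fixed.trivial_twist (hF : Fixed P σ h L) : Fixed P σ h (fun _ => (1 : ℂ)) :=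
  ⟨linOn_one, fun _ _ => rfl, fun v hv h2 hn hc =>
    let ⟨y, h1, h3, _⟩ := hF.fix v hv h2 hn hc
    ⟨y, h1, h3, fun _ _ _ => rfl⟩⟩

theorem Ctx.oneIrr_mem_iff (D : Ctx M P σ h L B) :
    oneIrr G ∈ B ↔ ∀ w ∈ regC 2 (σ ^ h), L w = 1 := by
  have h2 := D.dih.two_le
  have S := D.sec h (by omega) (by omega)
  constructor
  · intro hm w hw
    have := S.const D.hM hm hw
    simpa [oneIrr] using this.symm
  · intro hL
    by_contra hn
    have := S.average D.hM (oneIrr G)
    rw [ind_of_notMem hn, zero_mul, mul_zero, Finset.sum_congr rfl fun w hw => show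
      ((oneIrr G : IrrCharacter G) : G → ℂ) (σ ^ h * w) * conj (L w) = 1 by
        rw [hL w hw, map_one]; exact one_mul _,
      Finset.sum_const, nsmul_eq_mul, mul_one] at this
    exact S.card_ne D.hM this

theorem Ctx.reflection_sum (D : Ctx M P σ h L B) [Fintype (P : Subgroup G)]
    (hone : ∀ v ∈ (P : Subgroup G), v ∉ Subgroup.zpowers σ → IsConj (σ ^ h) v) (χ : IrrCharacter G) :
    ∑ x : (P : Subgroup G), (χ : G → ℂ) x = (χ : G → ℂ) 1 +
      (∑ l ∈ Finset.Ico 1 (2 * h), (χ : G → ℂ) (σ ^ l)) + ((2 * h : ℕ) : ℂ) * (χ : G → ℂ) (σ ^ h) := by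
  classical
  have hh := D.dih
  have h2 := hh.two_le
  obtain ⟨τ, hτ, hτn⟩ := hh.exists_out
  have hp : DihPair P σ τ h := ⟨hh, hτ, hτn⟩
  let f : Fin (2 * h) ⊕ Fin (2 * h) → (P : Subgroup G) := Sum.elim
    (fun m : Fin (2 * h) => ⟨σ ^ (m : ℕ), pow_mem hh.mem _⟩)
    (fun m : Fin (2 * h) => ⟨σ ^ (m : ℕ) * τ, hp.refl_mem m⟩)
  have hsurj : Function.Surjective f := by
    rintro ⟨x, hx⟩
    rcases hp.shape hx with ⟨m, hm, rfl⟩ | ⟨m, hm, rfl⟩
    · exact ⟨.inl ⟨m, hm⟩, rfl⟩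
    · exact ⟨.inr ⟨m, hm⟩, rfl⟩
  have hbij : Function.Bijective f := (Fintype.bijective_iff_surjective_and_card f).2 ⟨hsurj, by
    rw [Fintype.card_sum, Fintype.card_fin, ← Nat.card_eq_fintype_card, hh.card]; ring⟩
  rw [← Fintype.sum_bijective f hbij (fun i => (χ : G → ℂ) (f i)) _ fun _ => rfl, Fintype.sum_sum_type]
  simp only [f, Sum.elim_inl, Sum.elim_inr]
  have hr : ∀ m : Fin (2 * h), (χ : G → ℂ) (σ ^ (m : ℕ) * τ) = (χ : G → ℂ) (σ ^ h) := fun m => by
    obtain ⟨g, hg⟩ := isConj_iff.1 (hone _ (hp.refl_mem m) (hp.refl_not m))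
    rw [← hg]
    exact isClassFunction_irr χ.2 _ g
  rw [Finset.sum_congr rfl fun m _ => hr m, Finset.sum_const, Finset.card_univ, Fintype.card_fin,
    nsmul_eq_mul, ← Finset.sum_range (fun m => (χ : G → ℂ) (σ ^ m)),
    Finset.range_eq_Ico, Finset.sum_eq_sum_Ico_succ_bot (show 0 < 2 * h by omega), pow_zero]

theorem Ctx.congr_deg (D : Ctx M P σ h L B)
    (hone : ∀ v ∈ (P : Subgroup G), v ∉ Subgroup.zpowers σ → IsConj (σ ^ h) v) (χ : IrrCharacter G)
    {r : ℤ} (hr : (∑ l ∈ Finset.Ico 1 (2 * h), (χ : G → ℂ) (σ ^ l)) +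
      ((2 * h : ℕ) : ℂ) * (χ : G → ℂ) (σ ^ h) = (r : ℂ)) :
    ((4 * h : ℕ) : ℤ) ∣ (charDegree (χ : G → ℂ) : ℤ) + r := by
  classical
  letI := Fintype.ofFinite (P : Subgroup G)
  obtain ⟨n, hn⟩ := classInner_char_nat
    (isCharacter_restrict_irr (P : Subgroup G) χ)
    (isCharacter_of_irr (oneIrr ↥(P : Subgroup G)).2)
  refine ⟨(n : ℤ), Int.cast_injective (α := ℂ) ?_⟩
  have hs := D.reflection_sum hone χ
  rw [add_assoc, hr, ← irr_charDegree_cast] at hs
  have hone' : ∀ x : (P : Subgroup G),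
      conj (((oneIrr ↥(P : Subgroup G) : IrrCharacter ↥(P : Subgroup G)) : ↥(P : Subgroup G) → ℂ) x) = 1 :=
    fun x => map_one _
  have hcard : Nat.card (P : Subgroup G) = 4 * h := by rw [D.dih.card]; ring
  rw [classInner, Finset.sum_congr rfl fun x _ => by rw [hone' x, mul_one], hcard,
    hs, inv_mul_eq_iff_eq_mul₀ (Nat.cast_ne_zero.2 (by have := D.dih.two_le; omega))] at hn
  push_cast at hn ⊢
  linear_combination hn

theorem sum_alt (h : ℕ) (h0 : 0 < h) :
    ∑ l ∈ Finset.Ico 1 (2 * h), (-1 : ℂ) ^ (l + 1) = 1 := by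
  have h1 : ∀ n : ℕ, ∑ l ∈ Finset.range (2 * n), (-1 : ℂ) ^ (l + 1) = 0 := by
    intro n
    induction n with
    | zero => simp
    | succ n ih =>
      rw [show 2 * (n + 1) = 2 * n + 1 + 1 by ring, Finset.sum_range_succ, Finset.sum_range_succ, ih]
      simp [pow_succ, pow_mul]
  have := h1 h
  rw [Finset.range_eq_Ico, Finset.sum_eq_sum_Ico_succ_bot (show 0 < 2 * h by omega)] at this
  linear_combination this

/-- The signed degree data of a pattern. -/
structure Degs (B : Set (IrrCharacter G)) (σ : G) (h : ℕ) (ζ : ℂ) (a b c d : ℤ) : Prop where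
  hc : ((4 * h : ℕ) : ℤ) ∣ a - 1 ∧ ((4 * h : ℕ) : ℤ) ∣ b - 1
  ha : ((4 * h : ℕ) : ℤ) ∣ c - (2 * h - 1) ∧ ((4 * h : ℕ) : ℤ) ∣ d - (2 * h - 1)
  sum : a + b + c + d = 0
  ne : c + d ≠ 0
  eqC : colSum B σ h ζ 0 - colSum B σ h ζ 1 = (LCharArith.E a b : ℂ)
  eqA : colSum B σ h ζ 1 = (LCharArith.E c d : ℂ)

variable {c₁ c₂ a₁ a₂ : IrrCharacter G} {e₁ e₂ g₁ g₂ : ℤ}

theorem Pattern.degs (T : Pattern B σ h ζ c₁ c₂ a₁ a₂ e₁ e₂ g₁ g₂) (D : Ctx M P σ h L B)
    (hone : ∀ v ∈ (P : Subgroup G), v ∉ Subgroup.zpowers σ → IsConj (σ ^ h) v) :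
    Degs B σ h ζ (e₁ * (charDegree (c₁ : G → ℂ) : ℤ)) (e₂ * (charDegree (c₂ : G → ℂ) : ℤ))
      (g₁ * (charDegree (a₁ : G → ℂ) : ℤ)) (g₂ * (charDegree (a₂ : G → ℂ) : ℤ)) := by
  have h2 := D.dih.two_le
  have hsign : (-1 : ℂ) ^ (h + 1) = -1 := by
    obtain ⟨a, ha⟩ := D.dih.hpow
    refine (Even.add_one ?_).neg_one_pow
    rw [ha]; exact ⟨2 ^ a, by rw [pow_succ]; ring⟩
  have hc : ∀ (χ : IrrCharacter G) (e : ℤ), (e = 1 ∨ e = -1) →
      (∀ l, 0 < l → l < 2 * h → (χ : G → ℂ) (σ ^ l) = e) →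
      ((4 * h : ℕ) : ℤ) ∣ e * (charDegree (χ : G → ℂ) : ℤ) - 1 := by
    intro χ e he hv
    have hd := D.congr_deg hone χ (r := (4 * (h : ℤ) - 1) * e) (by
      rw [Finset.sum_congr rfl fun l hl => hv l (Finset.mem_Ico.1 hl).1 (Finset.mem_Ico.1 hl).2,
        hv h (by omega) (by omega), Finset.sum_const, Nat.card_Ico, nsmul_eq_mul,
        Nat.cast_sub (by omega)]
      push_cast; ring)
    have := (dvd_mul_of_dvd_right hd e).sub (dvd_mul_right ((4 * h : ℕ) : ℤ) 1)
    rcases he with rfl | rfl <;> [skip; skip] <;>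
      (refine (dvd_iff_dvd_of_dvd_sub ?_).1 this; push_cast; ring_nf; exact dvd_zero _)
  have ha : ∀ (χ : IrrCharacter G) (e : ℤ), (e = 1 ∨ e = -1) →
      (∀ l, 0 < l → l < 2 * h → (χ : G → ℂ) (σ ^ l) = e * (-1) ^ (l + 1)) →
      ((4 * h : ℕ) : ℤ) ∣ e * (charDegree (χ : G → ℂ) : ℤ) - (2 * h - 1) := by
    intro χ e he hv
    have hd := D.congr_deg hone χ (r := (1 - 2 * (h : ℤ)) * e) (by
      rw [Finset.sum_congr rfl fun l hl => hv l (Finset.mem_Ico.1 hl).1 (Finset.mem_Ico.1 hl).2,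
        hv h (by omega) (by omega), ← Finset.mul_sum, sum_alt h (by omega), hsign]
      push_cast; ring)
    have := dvd_mul_of_dvd_right hd e
    rcases he with rfl | rfl <;> [skip; skip] <;>
      (refine (dvd_iff_dvd_of_dvd_sub ?_).1 this; push_cast; ring_nf; exact dvd_zero _)
  refine ⟨⟨hc _ _ T.unit.1 fun l a b => (T.constVal l a b).1,
      hc _ _ T.unit.2.1 fun l a b => (T.constVal l a b).2⟩,
    ⟨ha _ _ T.unit.2.2.1 fun l a b => (T.altVal l a b).1,
      ha _ _ T.unit.2.2.2 fun l a b => (T.altVal l a b).2⟩, T.sum, T.ane, ?_, ?_⟩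
  · rw [T.eqC, LCharArith.E]; push_cast; ring
  · rw [show (1 : ℕ) = 0 + 1 from rfl, T.eqA 0 (by omega), LCharArith.E]; push_cast; ring

theorem three_le_signed [IsSimpleGroup G] (hna : ¬ IsMulCommutative G) {χ : IrrCharacter G} {e : ℤ}
    (he : e = 1 ∨ e = -1) (hne : χ ≠ oneIrr G)
    (hodd : Odd (e * (charDegree (χ : G → ℂ) : ℤ))) : 3 ≤ |e * (charDegree (χ : G → ℂ) : ℤ)| := by
  have h1 : charDegree (χ : G → ℂ) ≠ 1 := fun e1 => hne (ne_one_of_degree hna (by
    rw [← irr_charDegree_cast, e1, Nat.cast_one]))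
  have h0 := irr_charDegree_pos χ
  rw [Int.odd_iff] at hodd
  rw [le_abs]
  rcases he with rfl | rfl <;> omega

/-- **L-CHAR.** -/
theorem lchar [IsSimpleGroup G] (hna : ¬ IsMulCommutative G) (hM : IsPModular 2 M) (hh : Dih P σ h)
    (hone : ∀ v ∈ (P : Subgroup G), v * v = 1 → v ≠ 1 → IsConj (σ ^ h) v)
    (hF : Fixed P σ h L) {w : G} (hwz : Commute w (σ ^ h)) (hwo : Odd (orderOf w)) : L w = 1 := by
  classical
  have h2 := hh.two_le
  have hone' : ∀ v ∈ (P : Subgroup G), v ∉ Subgroup.zpowers σ → IsConj (σ ^ h) v := fun v hv hn =>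
    hone v hv (hh.out hv hn).1 fun e => hn (e ▸ one_mem _)
  obtain ⟨B, D⟩ := exists_ctx hM hh hF
  obtain ⟨B1, D1⟩ := exists_ctx hM hh hF.trivial_twist
  have hreg : ∀ {u : G}, Commute u (σ ^ h) → Odd (orderOf u) → u ∈ regC 2 (σ ^ h) := fun h1 h2 =>
    mem_regC.2 ⟨h1, fun hd => Nat.not_odd_iff_even.2 (even_iff_two_dvd.2 hd) h2⟩
  by_cases hB : oneIrr G ∈ B
  · exact D.oneIrr_mem_iff.1 hB w (hreg hwz hwo)
  have hB1 : oneIrr G ∈ B1 := D1.oneIrr_mem_iff.2 fun _ _ => rfl
  have hζ := Complex.isPrimitiveRoot_exp (2 * h) (by omega)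
  set ζ := Complex.exp (2 * Real.pi * Complex.I / (2 * h : ℕ))
  obtain ⟨d₁, d₂, b₁, b₂, s₁, s₂, t₁, t₂, T1⟩ :=
    (D1.pattern_or hζ).resolve_right fun e => e.2.2 hB1
  obtain ⟨c₁, c₂, a₁, a₂, e₁, e₂, g₁, g₂, T⟩ := (D.pattern_or hζ).resolve_right fun e => by
    refine e.2.1 ?_
    have hA := T1.eqA 0 (by omega)
    have hA' := T1.eqA 1 (by omega)
    have h1 : colSum B1 σ h ζ 1 = colSum B1 σ h ζ 2 := hA.trans hA'.symm
    exact ((D.col_indep D1 ζ 1).trans h1).trans (D.col_indep D1 ζ 2).symm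
  have S := T.degs D hone'
  have S1 := T1.degs D1 hone'
  -- the principal constant pair
  obtain ⟨y, hy, hy3, hyE, hsum1⟩ : ∃ y : ℤ, ((4 * h : ℕ) : ℤ) ∣ y - 1 ∧ 3 ≤ |y| ∧
      colSum B1 σ h ζ 0 - colSum B1 σ h ζ 1 = (LCharArith.E 1 y : ℂ) ∧
      1 + y + t₁ * (charDegree (b₁ : G → ℂ) : ℤ) + t₂ * (charDegree (b₂ : G → ℂ) : ℤ) = 0 := by
    have hd1 : charDegree ((oneIrr G : IrrCharacter G) : G → ℂ) = 1 := by simp [charDegree, oneIrr]
    have hv1 : ∀ g, ((oneIrr G : IrrCharacter G) : G → ℂ) g = 1 := fun _ => rfl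
    have hodd : ∀ {z : ℤ}, ((4 * h : ℕ) : ℤ) ∣ z - 1 → Odd z := fun {z} hz => by
      obtain ⟨k, hk⟩ := hz
      exact ⟨2 * h * k, by push_cast at hk; linarith⟩
    rcases T1.cover _ hB1 (by
      rw [show ((oneIrr G : IrrCharacter G) : G → ℂ) = fun _ => 1 from rfl, colC_one hζ (by omega : 0 < h)]
      simp) with e | e | e | e
    · have hs : s₁ = 1 := by
        have := (T1.constVal 1 one_pos (by omega)).1
        rw [← e, hv1] at this
        exact_mod_cast this.symm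
      refine ⟨_, S1.hc.2, three_le_signed hna T1.unit.2.1 (e ▸ T1.ne.1.symm) (hodd S1.hc.2), ?_, ?_⟩
      · rw [S1.eqC, ← e, hd1, hs]; simp
      · have := S1.sum; rw [← e, hd1, hs] at this; simpa using this
    · have hs : s₂ = 1 := by
        have := (T1.constVal 1 one_pos (by omega)).2
        rw [← e, hv1] at this
        exact_mod_cast this.symm
      refine ⟨_, S1.hc.1, three_le_signed hna T1.unit.1 (e ▸ T1.ne.1) (hodd S1.hc.1), ?_, ?_⟩
      · rw [S1.eqC, ← e, hd1, hs, LCharArith.E_comm]; simp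
      · have := S1.sum; rw [← e, hd1, hs] at this
        push_cast at this ⊢
        linarith
    all_goals
      exfalso
      have q1 := T1.altVal 1 one_pos (by omega)
      have q2 := T1.altVal 2 (by omega) (by omega)
      simp only [← e, hv1] at q1 q2
      norm_num at q1 q2
    · have h' := q1.1
      rw [show (t₁ : ℂ) = -1 by linear_combination q2.1] at h'
      norm_num at h'
    · have h' := q1.2
      rw [show (t₂ : ℂ) = -1 by linear_combination q2.2] at h'
      norm_num at h'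
  have hne : ∀ {χ : IrrCharacter G}, χ ∈ B → χ ≠ oneIrr G := fun hm e => hB (e ▸ hm)
  have hodd' : ∀ {z : ℤ}, ((4 * h : ℕ) : ℤ) ∣ z - 1 → Odd z := fun {z} hz => by
    obtain ⟨k, hk⟩ := hz
    exact ⟨2 * h * k, by push_cast at hk; linarith⟩
  obtain ⟨rfl, h6, hy9⟩ := LCharArith.const_pairs hh.hpow S.hc.1 S.hc.2 hy
    (three_le_signed hna T.unit.1 (hne T.mem.1) (hodd' S.hc.1))
    (three_le_signed hna T.unit.2.1 (hne T.mem.2.1) (hodd' S.hc.2)) hy3
    (fun e => S.ne (by linarith [S.sum])) (by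
      have h0 : colSum B σ h ζ 0 - colSum B σ h ζ 1 = colSum B1 σ h ζ 0 - colSum B1 σ h ζ 1 := by
        rw [show colSum B σ h ζ 0 = colSum B1 σ h ζ 0 from D.col_indep D1 ζ 0,
          show colSum B σ h ζ 1 = colSum B1 σ h ζ 1 from D.col_indep D1 ζ 1]
      rw [S.eqC, hyE] at h0
      exact_mod_cast h0)
  have hb3 : g₁ * (charDegree (a₁ : G → ℂ) : ℤ) = 3 := by
    have e0 : colSum B σ 2 ζ 1 = colSum B1 σ 2 ζ 1 := D.col_indep D1 ζ 1
    rw [S.eqA, S1.eqA] at e0
    have e0' := Rat.cast_injective (α := ℂ) e0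
    have q := S.ha; have q1 := S1.ha
    norm_num at q q1
    exact LCharArith.alt_pairs q.1 q.2 q1.1 q1.2 (by linarith [S.sum]) (by linarith) e0'
  obtain ⟨hg, hdeg⟩ : g₁ = 1 ∧ charDegree (a₁ : G → ℂ) = 3 := by
    rcases T.unit.2.2.1 with rfl | rfl <;> omega
  set χ := a₁
  have hχd : (χ : G → ℂ) 1 = 3 := by rw [← irr_charDegree_cast, hdeg]; norm_num
  have hχz : (χ : G → ℂ) (σ ^ 2) = -1 := by
    rw [(T.altVal 2 (by omega) (by omega)).1, hg]; norm_num
  -- fixed points of the Sylow subgroup are trivial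
  have hfp : ∀ a : G, Commute a (σ ^ 2) → Odd (orderOf a) → (∀ p ∈ (P : Subgroup G), Commute a p) →
      a = 1 := by
    intro a haz hao hap
    set z := σ ^ 2
    obtain ⟨τ, hτ, hτn⟩ := hh.exists_out
    have hτ2 := (hh.out hτ hτn).1
    have hτ1 : τ ≠ 1 := fun e => hτn (e ▸ one_mem _)
    have hzτ : Commute z τ := (hh.z_central hτ).symm
    have hz2 := hh.z_ne.2
    have haτ := hap τ hτ
    have hzaux : (χ : G → ℂ) (z * a) = -L a := by
      rw [(D.sec 2 (by omega) (by omega)).const hM T.mem.2.2.1 (hreg haz hao), hχz]; ring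
    have hval : ∀ v ∈ (P : Subgroup G), v ∉ Subgroup.zpowers σ → v * v = 1 →
        (χ : G → ℂ) v = -1 ∧ (χ : G → ℂ) (v * a) = -L a := by
      intro v hv hn hv2
      have hc := hone' v hv hn
      obtain ⟨g, hg⟩ := isConj_iff.1 hc
      refine ⟨by rw [← hg, isClassFunction_irr χ.2 _ g, hχz], ?_⟩
      obtain ⟨y, hy1, hyN, hyL⟩ := hF.fix v hv hv2 hn hc
      set V := Subgroup.closure ({z, v} : Set G)
      have haV : a ∈ Subgroup.centralizer (V : Set G) := by
        rw [Subgroup.centralizer_closure, Subgroup.mem_centralizer_iff]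
        rintro q (rfl | rfl)
        · exact haz.symm.eq
        · exact (hap _ hv).symm.eq
      set k := y⁻¹ * a * y
      have hkV : ∀ q ∈ V, Commute k q := fun q hq => by
        have hq' : y * q * y⁻¹ ∈ V := (Subgroup.mem_normalizer_iff.1 hyN q).1 hq
        have := Subgroup.mem_centralizer_iff.1 haV _ hq'
        calc k * q = y⁻¹ * (a * (y * q * y⁻¹)) * y := by simp only [k]; group
          _ = y⁻¹ * ((y * q * y⁻¹) * a) * y := by rw [this]
          _ = q * k := by simp only [k]; group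
      have hkz := hkV z (Subgroup.subset_closure (Set.mem_insert _ _))
      have hka : y * k * y⁻¹ = a := by simp only [k]; group
      have hko : Odd (orderOf k) := by
        have : orderOf k = orderOf a := by
          rw [← hka, conj_orderOf]
        rwa [this]
      have hLk : L k = L a := by
        rw [← hka, hyL k hkz (hkV v (Subgroup.subset_closure (Set.mem_insert_of_mem _ rfl)))]
      rw [show v * a = y * (z * k) * y⁻¹ from
        (congrArg₂ (· * ·) hy1.symm hka.symm).trans (by simp only [z]; group), isClassFunction_irr χ.2 _ y,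
        (D.sec 2 (by omega) (by omega)).const hM T.mem.2.2.1 (hreg hkz hko), hχz, hLk]
      ring
    have hzτn : z * τ ∉ Subgroup.zpowers σ := fun e => hτn (by
      have h' := mul_mem (inv_mem (Subgroup.npow_mem_zpowers σ 2)) e
      rwa [show (σ ^ 2)⁻¹ * (z * τ) = τ from inv_mul_cancel_left z τ] at h')
    obtain ⟨q1, q1a⟩ := hval τ hτ hτn hτ2
    obtain ⟨q2, q2a⟩ := hval (z * τ) (mul_mem (pow_mem hh.mem _) hτ) hzτn
      (by rw [hzτ.symm.mul_mul_mul_comm, hz2, hτ2, one_mul])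
    have hsum := klein_translate (χ := χ) hz2 hτ2 hzτ haz haτ
      (by rw [hχd, hχz, q1, q2]; norm_num)
    rw [hzaux, q1a, q2a] at hsum
    have hχa : (χ : G → ℂ) a = 3 * L a := by linear_combination hsum
    have hL1 : ‖L a‖ = 1 := Complex.norm_eq_one_of_pow_eq_one
      (by rw [← hF.lin.pow (Subgroup.mem_centralizer_singleton_iff.2 haz.eq), pow_orderOf_eq_one, hF.lin.one])
      (orderOf_pos a).ne'
    have hcen := central_of_norm (χ := χ) (a := a) (g := z) (by rw [hχz, hχd]; norm_num)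
      (by rw [hχa, hχd, norm_mul, hL1, mul_one])
    rcases (Subgroup.center G).normal_of_characteristic.eq_bot_or_eq_top with hc | hc
    · exact Subgroup.mem_bot.1 (hc ▸ Subgroup.mem_center_iff.2 fun b => (hcen b).symm)
    · exact absurd ⟨⟨fun x y => (Subgroup.mem_center_iff.1 (hc ▸ Subgroup.mem_top y) x)⟩⟩ hna
  -- a fixed point in the coset of the kernel
  obtain ⟨K, hK⟩ := hh.exists_core
  have hKodd : ∀ u ∈ K, Odd (orderOf u) := fun u hu => Nat.odd_iff.2 (by
    have h1 : ¬ 2 ∣ orderOf u := fun hd => hK.odd (hd.trans (Subgroup.orderOf_dvd_natCard K hu))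
    omega)
  have hKH : ∀ u ∈ K, u ∈ Subgroup.centralizer ({σ ^ 2} : Set G) := fun u hu =>
    Subgroup.mem_centralizer_singleton_iff.2 (hK.comm u hu).eq
  have hwK : w ∈ K := by
    obtain ⟨k, hk, p, hp, e⟩ := hK.dec w hwz
    obtain ⟨j, hj⟩ := IsPGroup.iff_orderOf.1 P.2 ⟨p, hp⟩
    have hkN : ∀ n : ℕ, ∃ k' ∈ K, w ^ n = k' * p ^ n := by
      intro n
      induction n with
      | zero => exact ⟨1, one_mem K, by simp⟩
      | succ n ih =>
        obtain ⟨k', hk', e'⟩ := ih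
        refine ⟨k' * (p ^ n * k * (p ^ n)⁻¹),
          mul_mem hk' (hK.norm _ ((hh.z_central hp).pow_left n) k hk), ?_⟩
        rw [pow_succ, e', e, pow_succ]; group
    obtain ⟨k', hk', e'⟩ := hkN (orderOf w)
    rw [pow_orderOf_eq_one] at e'
    have h1 := (hK.uniq (one_mem K) hk' (one_mem _) (pow_mem hp _)
      (by rw [one_mul]; exact e')).2
    rw [Subgroup.orderOf_mk] at hj
    have hp1 : p = 1 := orderOf_eq_one_iff.1 (Nat.eq_one_of_dvd_coprimes
      ((Nat.coprime_two_left.2 hwo).pow_left j) (hj ▸ dvd_rfl) (orderOf_dvd_of_pow_eq_one h1.symm))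
    rw [e, hp1, mul_one]; exact hk
  haveI : Fact (Nat.Prime 2) := ⟨Nat.prime_two⟩
  let A := {u : K // L u = L w}
  letI : MulAction (P : Subgroup G) A :=
    { smul := fun p u => ⟨⟨(p : G) * (u.1 : G) * (p : G)⁻¹, hK.norm _ (hh.z_central p.2) _ u.1.2⟩, by
        show L ((p : G) * (u.1 : G) * (p : G)⁻¹) = L w
        rw [hF.lin.conjugate (Subgroup.mem_centralizer_singleton_iff.2 (hh.z_central p.2).eq)
          (hKH _ u.1.2)]
        exact u.2⟩
      one_smul := fun u => Subtype.ext (Subtype.ext (by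
        show ((1 : (P : Subgroup G)) : G) * (u.1 : G) * ((1 : (P : Subgroup G)) : G)⁻¹ = u.1
        simp))
      mul_smul := fun p q u => Subtype.ext (Subtype.ext (by
        show ((p * q : (P : Subgroup G)) : G) * (u.1 : G) * ((p * q : (P : Subgroup G)) : G)⁻¹ =
          (p : G) * ((q : G) * (u.1 : G) * (q : G)⁻¹) * (p : G)⁻¹
        simp [mul_assoc])) }
  let Kl : Subgroup K :=
    { carrier := {u | L u = 1}
      one_mem' := hF.lin.one
      mul_mem' := fun {a b} (ha : L a = 1) (hb : L b = 1) => show L ((a : G) * b) = 1 by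
        rw [hF.lin.mul _ (hKH _ a.2) _ (hKH _ b.2), ha, hb, one_mul]
      inv_mem' := fun {a} (ha : L a = 1) => show L ((a : G)⁻¹) = 1 by
        rw [hF.lin.map_inv (hKH _ a.2), ha, inv_one] }
  have hLw := hF.lin.ne_zero (hKH w hwK)
  have hcardA : Nat.card A = Nat.card Kl := Nat.card_congr
    { toFun := fun u => ⟨(⟨w, hwK⟩ : K)⁻¹ * u.1, by
        show L (w⁻¹ * (u.1 : G)) = 1
        rw [hF.lin.mul _ (inv_mem (hKH w hwK)) _ (hKH _ u.1.2), hF.lin.map_inv (hKH w hwK), u.2,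
          inv_mul_cancel₀ hLw]⟩
      invFun := fun u => ⟨(⟨w, hwK⟩ : K) * u.1, by
        show L (w * (u.1 : G)) = L w
        rw [hF.lin.mul _ (hKH w hwK) _ (hKH _ u.1.2), show L (u.1 : G) = 1 from u.2, mul_one]⟩
      left_inv := fun u => Subtype.ext (mul_inv_cancel_left _ _)
      right_inv := fun u => Subtype.ext (inv_mul_cancel_left _ _) }
  obtain ⟨a, ha⟩ := (P.2).nonempty_fixed_point_of_prime_not_dvd_card A (by
    rw [hcardA]
    exact fun hd => hK.odd (hd.trans Kl.card_subgroup_dvd_card))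
  have ha1 : (a.1 : G) = 1 := hfp _ (hK.comm _ a.1.2) (hKodd _ a.1.2) fun p hp => by
    have := congrArg (fun u : A => (u.1 : G)) (ha ⟨p, hp⟩)
    exact (mul_inv_eq_iff_eq_mul.1 this).symm
  rw [← a.2, ha1, hF.lin.one]

end CfsgLib.GW.Twist
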