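import Cfsg.Agent.Lib.GW.Hyp
import Cfsg.Agent.Lib.SectL32.Main
import Cfsg.Agent.S0253
import Cfsg.Agent.S0254
import Cfsg.Agent.S0495
import Cfsg.Agent.S0508
import Cfsg.Agent.S4501
import Cfsg.Agent.Lib.DicksonFull.Subgroups
import Mathlib

/-!
The assembly of the Gorenstein–Walter theorem from its four parts.
-/

set_option autoImplicit false
set_option linter.unusedSectionVars false

namespace CfsgLib.GW

open Cfsg

universe u

variable {G : Type u} [Group G] [Finite G]

/-- The conclusion of the Bender–Glauberman case consists of models. -/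
theorem GWModel.of_small [IsSimpleGroup G]
    (h : Nonempty (G ≃* ↥(alternatingGroup (Fin 5))) ∨ Nonempty (G ≃* ↥(alternatingGroup (Fin 7))) ∨
      (∃ (F : Type) (_ : Field F) (_ : Fintype F), Fintype.card F = 2 ∧
        Nonempty (G ≃* Matrix.ProjectiveSpecialLinearGroup (Fin 3) F)) ∨
      (∃ (F : Type) (_ : Field F) (_ : Fintype F), Fintype.card F = 9 ∧
        Nonempty (G ≃* Matrix.ProjectiveSpecialLinearGroup (Fin 2) F))) : GWModel G := by
  haveI : Fact (Nat.Prime 5) := ⟨by norm_num⟩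
  haveI : Fact (Nat.Prime 7) := ⟨by norm_num⟩
  rcases h with ⟨⟨e⟩⟩ | ⟨⟨e⟩⟩ | ⟨F, hF, hFt, h2, ⟨e⟩⟩ | ⟨F, hF, hFt, h9, ⟨e⟩⟩
  · obtain ⟨f⟩ := Cfsg.Agent.S0253.result (F := ZMod 5) (ZMod.card 5)
    exact Or.inl ⟨ZMod 5, inferInstance, inferInstance, by rw [ZMod.card]; decide, by rw [ZMod.card]; norm_num,
      ⟨e.trans f.symm⟩⟩
  · exact Or.inr ⟨e⟩
  · obtain ⟨f⟩ := Cfsg.Agent.S0495.result (G := G)
      (by rw [Nat.card_congr e.toEquiv]; exact CfsgLib.SectL32.card_psl_two_three h2) (F := ZMod 7) (ZMod.card 7)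
    exact Or.inl ⟨ZMod 7, inferInstance, inferInstance, by rw [ZMod.card]; decide, by rw [ZMod.card]; norm_num, ⟨f⟩⟩
  · exact Or.inl ⟨F, hF, hFt, by rw [h9]; decide, by omega, ⟨e⟩⟩

/-- The hypotheses of S0508 at the involution `t`. -/
def FinalHyp (S : Sylow 2 G) (t : G) : Prop :=
  (coreC t ≠ ⊥ → IsCyclic ((S : Subgroup G) ⊓ Subgroup.centralizer (coreC t : Set G) : Subgroup G) ∧
    ((S : Subgroup G) ⊓ Subgroup.centralizer (coreC t : Set G)).relIndex (S : Subgroup G) = 2) ∧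
  (∀ s ∈ (S : Subgroup G), s ∉ Subgroup.centralizer (coreC t : Set G) → ∀ y ∈ coreC t, s * y * s⁻¹ = y⁻¹) ∧
  (∀ Y : Subgroup G, Y ≤ coreC t → Y ≠ ⊥ →
    Subgroup.normalizer (Y : Set G) ≤ Subgroup.centralizer ({t} : Set G))

theorem GWHyp.not_three (h : GWHyp G) (F : Type) [Field F] [Fintype F] (hF : Fintype.card F = 3)
    (e : G ≃* Matrix.ProjectiveSpecialLinearGroup (Fin 2) F) : False := by
  haveI := h.simple
  have h12 : Nat.card G = 12 := by
    have h2 := CfsgLib.DicksonFull.card_psl (F := F)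
    rw [hF, ← Nat.card_congr e.toEquiv] at h2
    norm_num at h2
    omega
  have hna : ∃ x y : G, x * y ≠ y * x := by
    by_contra hc
    push Not at hc
    exact h.noncomm ⟨⟨hc⟩⟩
  obtain ⟨f⟩ := (Cfsg.Agent.S4501.result hna 3 5 1 0 Nat.prime_three (by norm_num) (by norm_num) (by norm_num)).1
    (by rw [h12]; norm_num)
  have := Nat.card_congr f.toEquiv
  rw [h12, nat_card_alternatingGroup, Nat.card_fin] at this
  norm_num [Nat.factorial] at this

theorem exists_center_involution (S : Sylow 2 G) {n : ℕ} (hn : 2 ≤ n)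
    (eS : (S : Subgroup G) ≃* DihedralGroup n) :
    ∃ t ∈ (S : Subgroup G), orderOf t = 2 ∧ ∀ s ∈ (S : Subgroup G), s * t = t * s := by
  haveI : Fact (Nat.Prime 2) := ⟨Nat.prime_two⟩
  haveI : Nontrivial (S : Subgroup G) := Finite.one_lt_card_iff_nontrivial.mp (by
    rw [Nat.card_congr eS.toEquiv, DihedralGroup.nat_card]; omega)
  haveI := S.2.center_nontrivial
  obtain ⟨k, hk0, hk⟩ := (S.2.to_subgroup (Subgroup.center (S : Subgroup G))).nontrivial_iff_card.mp inferInstance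
  obtain ⟨z, hz⟩ := exists_prime_orderOf_dvd_card' (G := Subgroup.center (S : Subgroup G)) 2
    (by rw [hk]; exact dvd_pow_self 2 (by omega))
  refine ⟨(z : (S : Subgroup G)), z.1.2, ?_, fun s hs => ?_⟩
  · rw [Subgroup.orderOf_coe, Subgroup.orderOf_coe, hz]
  · exact congrArg Subtype.val (Subgroup.mem_center_iff.mp z.2 ⟨s, hs⟩)

/-- The Gorenstein–Walter theorem for simple groups, from its parts. -/
theorem model_of_parts (h : GWHyp G)
    (hBG : ∀ (S : Sylow 2 G) (m : ℕ) (_ : (S : Subgroup G) ≃* DihedralGroup m) (t : G), orderOf t = 2 →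
      ∀ K : Subgroup G, Subgroup.centralizer ({t} : Set G) < K →
        generalizedFittingSubgroup K = fittingSubgroup K →
      Nonempty (G ≃* ↥(alternatingGroup (Fin 5))) ∨ Nonempty (G ≃* ↥(alternatingGroup (Fin 7))) ∨
      (∃ (F : Type) (_ : Field F) (_ : Fintype F), Fintype.card F = 2 ∧
        Nonempty (G ≃* Matrix.ProjectiveSpecialLinearGroup (Fin 3) F)) ∨
      (∃ (F : Type) (_ : Field F) (_ : Fintype F), Fintype.card F = 9 ∧
        Nonempty (G ≃* Matrix.ProjectiveSpecialLinearGroup (Fin 2) F)))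
    (hCK : ∀ (S : Sylow 2 G) (t : G), orderOf t = 2 → t ∈ (S : Subgroup G) →
      (∀ s ∈ (S : Subgroup G), s * t = t * s) → ∀ K : Subgroup G, IsCoatom K →
      Subgroup.centralizer ({t} : Set G) < K → ∀ L : Subgroup K, IsComponent L → False)
    (hmax : ∀ (S : Sylow 2 G) (t : G), orderOf t = 2 → t ∈ (S : Subgroup G) →
      (∀ s ∈ (S : Subgroup G), s * t = t * s) → IsCoatom (Subgroup.centralizer ({t} : Set G)) →
      FinalHyp S t) : GWModel G := by
  haveI := h.simple
  obtain ⟨S, n, hn, ⟨eS⟩⟩ := h.dihedral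
  obtain ⟨t, htS, ht, htZ⟩ := exists_center_involution S hn eS
  set C := Subgroup.centralizer ({t} : Set G) with hC
  have hCtop : C ≠ ⊤ := by
    intro e
    have htc : t ∈ Subgroup.center G := Subgroup.mem_center_iff.mpr fun x =>
      Subgroup.mem_centralizer_singleton_iff.mp (hC ▸ e ▸ Subgroup.mem_top x)
    rcases (inferInstance : (Subgroup.center G).Normal).eq_bot_or_eq_top with h0 | h1
    · rw [h0, Subgroup.mem_bot] at htc
      simp [htc] at ht
    · exact h.noncomm ⟨⟨fun a b => (Subgroup.mem_center_iff.mp (h1 ▸ Subgroup.mem_top b) a)⟩⟩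
  obtain ⟨K, hK, hCK'⟩ : ∃ K : Subgroup G, IsCoatom K ∧ C ≤ K :=
    (eq_top_or_exists_le_coatom C).resolve_left hCtop
  rcases hCK'.lt_or_eq with hlt | heq
  · by_cases hF : generalizedFittingSubgroup K = fittingSubgroup K
    · exact GWModel.of_small (hBG S n eS t ht K hlt hF)
    · obtain ⟨L, hL⟩ := h.exists_component K hF
      exact (hCK S t ht htS htZ K hK hlt L hL).elim
  · obtain ⟨ha, hb, hc⟩ := hmax S t ht htS htZ (by rw [← hC, heq]; exact hK)
    obtain ⟨F, hF, hFt, hodd, ⟨e⟩⟩ := Cfsg.Agent.S0508.result S n hn ⟨eS⟩ t ht htS htZ (coreC t) rfl ha hb hc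
    refine Or.inl ⟨F, hF, hFt, hodd, ?_, ⟨e⟩⟩
    by_contra h3
    push Not at h3
    have h1 : 1 < Fintype.card F := Fintype.one_lt_card
    have hF3 : Fintype.card F = 3 := by
      obtain ⟨k, hk⟩ := hodd
      omega
    exact h.not_three F hF3 e

end CfsgLib.GW
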