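import Cfsg.Agent.Lib.GW.Assemble
import Cfsg.Agent.Lib.GW.CltK.Main
import Cfsg.Agent.Lib.GW.IIb.LocalMain
import Cfsg.Agent.Lib.GW.IIb.Final
import Cfsg.Agent.Lib.GW.LChar.Main
import Cfsg.Agent.Lib.GW.Conseq.Basic
import Cfsg.Agent.S3287

/-!
# The Gorenstein–Walter theorem
-/

set_option autoImplicit false
set_option linter.unusedSectionVars false

namespace CfsgLib.GW

open Cfsg

universe u

/-- The simple case. -/
theorem GWHyp.model {G : Type u} [Group G] [Finite G] (h : GWHyp G) : GWModel G := by
  haveI := h.simple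
  exact model_of_parts h
    (fun S m eS t ht K hlt hK => Cfsg.Agent.S3287.result S m eS t ht K hlt hK)
    (fun S t ht htS htZ K hK hlt L hL => h.notCltK S t ht htS htZ K hK hlt L hL)
    (fun S t ht htS htZ hmax => h.finalHyp S t ht htS htZ hmax fun v p c => by
      obtain ⟨D, -⟩ := c.exists_data
      exact IIbData.«false» D)

/-- The theorem for perfect groups. -/
theorem gwThm : CfsgLib.GWConseq.GWThm.{u} := fun _X _ _ _ hd => reduction hd fun _G _ _ h => h.model

end CfsgLib.GW
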