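import Cfsg.Agent.Lib.GW.Main

/-!
The statement of the Gorenstein–Walter theorem for perfect groups from the simple case.
-/

set_option autoImplicit false

namespace CfsgLib.GW

open Cfsg

universe u

/-- The theorem for perfect groups, from the case of groups satisfying `GWHyp`. -/
theorem perfect_dihedral_of_main {X : Type u} [Group X] [Finite X] [Group.IsPerfect X]
    (S : Sylow 2 X) (n : ℕ) (hn : 2 ≤ n) (hS : Nonempty ((S : Subgroup X) ≃* DihedralGroup n))
    (main : ∀ (G : Type u) [Group G] [Finite G], GWHyp G → GWModel G) :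
    (∃ (F : Type) (_ : Field F) (_ : Fintype F), Odd (Fintype.card F) ∧ 3 < Fintype.card F ∧
        Nonempty (X ⧸ Cfsg.oddCore X ≃* Matrix.ProjectiveSpecialLinearGroup (Fin 2) F)) ∨
      Nonempty (X ⧸ Cfsg.oddCore X ≃* alternatingGroup (Fin 7)) :=
  reduction ⟨S, n, hn, hS⟩ main

/-- `GWHyp` from simplicity, given the theorem for perfect groups. -/
theorem gwHyp_of_simple {G : Type u} [Group G] [Finite G] (hs : IsSimpleGroup G) (hc : ¬ IsMulCommutative G)
    (hd : GWDihedral G)
    (main : ∀ (H : Type u) [Group H] [Finite H], GWHyp H → GWModel H) : GWHyp G :=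
  ⟨hs, hc, hd, fun _ _ _ _ _ hY => reduction hY main⟩

end CfsgLib.GW
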