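import Cfsg.Agent.S0948
import Cfsg.Agent.S4479
import Cfsg.Agent.S4480
import Cfsg.Agent.S4481
import Cfsg.Agent.S4482
import Cfsg.Agent.Lib.Blocks.DefectZeroProducts

/-!
The order formula of a simple group with dihedral Sylow 2-subgroups and one class of involutions,
packaged uniformly in the order of the Sylow 2-subgroup.
-/

set_option autoImplicit false
set_option maxHeartbeats 800000
set_option linter.unusedSectionVars false
set_option linter.style.haveILetI false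

namespace CfsgLib.GW

open Cfsg

universe u

/-- The two possible values of the ratio in the order formula; `m` is half the order of the Sylow
subgroup, `N` is the group order. -/
def Shape (m N : ℕ) (ρ : ℚ) : Prop :=
  (∃ (x : ℕ) (d : ℤ), (d = 1 ∨ d = -1) ∧ 1 < x ∧ x ∣ N ∧ 2 * (m : ℤ) ∣ (x : ℤ) - d ∧
      ρ = (x : ℚ) * ((x : ℚ) + d) / ((x : ℚ) - d) ^ 2) ∨
    (m = 2 ∧ ∃ x y z : ℕ, 3 ≤ y ∧ y ≤ z ∧ x + 1 = y + z ∧ x % 4 = 1 ∧ y % 4 = 3 ∧ z % 4 = 3 ∧
      x ∣ N ∧ y ∣ N ∧ z ∣ N ∧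
      ρ = ((x : ℚ) * y * z) / (((x : ℚ) + 1) * ((y : ℚ) - 1) * ((z : ℚ) - 1)))

theorem sub_ge {m x : ℕ} {d : ℤ} (hd : d = 1 ∨ d = -1) (hx : 1 < x)
    (hdvd : 2 * (m : ℤ) ∣ (x : ℤ) - d) : 2 * (m : ℚ) ≤ (x : ℚ) - d := by
  have h := Int.le_of_dvd (by omega) hdvd
  exact_mod_cast h

theorem ratio_le {x : ℕ} {d : ℤ} (hd : d = 1 ∨ d = -1) (hx : 1 < x) :
    (x : ℚ) * ((x : ℚ) + d) / ((x : ℚ) - d) ^ 2 ≤
      (1 + 1 / ((x : ℚ) - d)) * (1 + 2 / ((x : ℚ) - d)) := by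
  have h2 : (2 : ℚ) ≤ x := by exact_mod_cast hx
  rcases hd with rfl | rfl <;> push_cast
  · refine le_of_eq ?_
    have : (x : ℚ) - 1 ≠ 0 := by linarith
    field_simp
    ring
  · have h3 : (0 : ℚ) < (x : ℚ) + 1 := by linarith
    rw [sub_neg_eq_add, div_le_iff₀ (by positivity), ← sub_nonneg]
    have e : (1 + 1 / ((x : ℚ) + 1)) * (1 + 2 / ((x : ℚ) + 1)) * ((x : ℚ) + 1) ^ 2 -
        (x : ℚ) * ((x : ℚ) + -1) = 6 * x + 6 := by
      field_simp
      ring
    rw [e]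
    linarith

/-- The sharper bound in terms of a lower bound for `x - d`. -/
theorem ratio_le_of_le {x : ℕ} {d : ℤ} {M : ℚ} (hd : d = 1 ∨ d = -1) (hx : 1 < x) (hM : 0 < M)
    (h : M ≤ (x : ℚ) - d) :
    (x : ℚ) * ((x : ℚ) + d) / ((x : ℚ) - d) ^ 2 ≤ (1 + 1 / M) * (1 + 2 / M) := by
  have h0 : 0 < (x : ℚ) - d := hM.trans_le h
  refine (ratio_le hd hx).trans ?_
  have h1 : 1 / ((x : ℚ) - d) ≤ 1 / M := one_div_le_one_div_of_le hM h
  have h2 : 2 / ((x : ℚ) - d) ≤ 2 / M := by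
    rw [div_le_div_iff₀ h0 hM]; linarith
  exact mul_le_mul (by linarith) (by linarith) (by positivity) (by positivity)

theorem triple_le {x y z : ℕ} (hy : 3 ≤ y) (hz : 3 ≤ z) (hxy : x + 1 = y + z) :
    ((x : ℚ) * y * z) / (((x : ℚ) + 1) * ((y : ℚ) - 1) * ((z : ℚ) - 1)) ≤ 15 / 8 ∧
    ((x : ℚ) * y * z) / (((x : ℚ) + 1) * ((y : ℚ) - 1) * ((z : ℚ) - 1)) ≤
      (1 + 1 / ((y : ℚ) - 1)) * (1 + 1 / ((z : ℚ) - 1)) := by
  obtain ⟨a, ha, rfl⟩ : ∃ a : ℕ, 0 ≤ a ∧ y = a + 3 := ⟨y - 3, by omega, by omega⟩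
  obtain ⟨b, hb, rfl⟩ : ∃ b : ℕ, 0 ≤ b ∧ z = b + 3 := ⟨z - 3, by omega, by omega⟩
  obtain rfl : x = a + b + 5 := by omega
  push_cast
  have hA : (0 : ℚ) ≤ a := Nat.cast_nonneg a
  have hB : (0 : ℚ) ≤ b := Nat.cast_nonneg b
  have h2 : (0 : ℚ) < ((a : ℚ) + b + 5 + 1) * ((a : ℚ) + 3 - 1) * ((b : ℚ) + 3 - 1) := by
    have : (0 : ℚ) < (a : ℚ) + 3 - 1 := by linarith
    have : (0 : ℚ) < (b : ℚ) + 3 - 1 := by linarith
    positivity
  constructor
  · rw [div_le_div_iff₀ h2 (by norm_num)]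
    nlinarith [mul_nonneg hA hB, mul_nonneg (mul_nonneg hA hA) hB, mul_nonneg (mul_nonneg hA hB) hB]
  · have h3 : (a : ℚ) + 3 - 1 ≠ 0 := by linarith
    have h4 : (b : ℚ) + 3 - 1 ≠ 0 := by linarith
    have h5 : (a : ℚ) + b + 5 + 1 ≠ 0 := by linarith
    rw [← sub_nonneg]
    have e : (1 + 1 / ((a : ℚ) + 3 - 1)) * (1 + 1 / ((b : ℚ) + 3 - 1)) -
        ((a : ℚ) + b + 5) * ((a : ℚ) + 3) * ((b : ℚ) + 3) /
          (((a : ℚ) + b + 5 + 1) * ((a : ℚ) + 3 - 1) * ((b : ℚ) + 3 - 1)) =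
        ((a : ℚ) + 3) * ((b : ℚ) + 3) /
          (((a : ℚ) + b + 5 + 1) * ((a : ℚ) + 3 - 1) * ((b : ℚ) + 3 - 1)) := by
      field_simp
      ring
    rw [e]
    positivity

theorem Shape.pos {m N : ℕ} {ρ : ℚ} (h : Shape m N ρ) : 0 < ρ := by
  rcases h with ⟨x, d, hd, hx, -, -, rfl⟩ | ⟨-, x, y, z, hy, hyz, hxy, -, -, -, -, -, -, rfl⟩
  · have h2 : (2 : ℚ) ≤ x := by exact_mod_cast hx
    have hd' : -1 ≤ (d : ℚ) ∧ (d : ℚ) ≤ 1 := by rcases hd with rfl | rfl <;> norm_num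
    exact div_pos (mul_pos (by linarith) (by linarith)) (pow_pos (by linarith [hd'.2]) 2)
  · have h3 : (3 : ℚ) ≤ y := by exact_mod_cast hy
    have h4 : (3 : ℚ) ≤ z := by exact_mod_cast hy.trans hyz
    have h5 : (1 : ℚ) ≤ x := by exact_mod_cast (show 1 ≤ x by omega)
    have : (0 : ℚ) < (y : ℚ) - 1 := by linarith
    have : (0 : ℚ) < (z : ℚ) - 1 := by linarith
    positivity

theorem Shape.le {m N : ℕ} {ρ : ℚ} (hm : 2 ≤ m) (h : Shape m N ρ) : ρ ≤ 15 / 8 := by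
  rcases h with ⟨x, d, hd, hx, -, hdvd, rfl⟩ | ⟨-, x, y, z, hy, hyz, hxy, -, -, -, -, -, -, rfl⟩
  · have hm' : (2 : ℚ) ≤ m := by exact_mod_cast hm
    refine (ratio_le_of_le hd hx (M := 4) (by norm_num) ?_).trans (by norm_num)
    linarith [sub_ge hd hx hdvd]
  · exact (triple_le hy (hy.trans hyz) hxy).1

/-- For a Sylow subgroup of order at least eight only the first shape occurs. -/
theorem Shape.exists_x {m N : ℕ} {ρ : ℚ} (hm : m ≠ 2) (h : Shape m N ρ) :
    ∃ (x : ℕ) (d : ℤ), (d = 1 ∨ d = -1) ∧ 1 < x ∧ x ∣ N ∧ 2 * (m : ℤ) ∣ (x : ℤ) - d ∧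
      ρ = (x : ℚ) * ((x : ℚ) + d) / ((x : ℚ) - d) ^ 2 :=
  h.resolve_right fun h' => hm h'.1

section group

variable {G : Type u} [Group G] [Finite G]

/-- A Klein four Sylow subgroup. -/
theorem shape_four [IsSimpleGroup G] (hna : ¬ IsMulCommutative G) (S : Sylow 2 G)
    (eS : (S : Subgroup G) ≃* DihedralGroup 2) {t : G} (htS : t ∈ (S : Subgroup G))
    (ht : orderOf t = 2) :
    ∃ ρ : ℚ, Shape 2 (Nat.card G) ρ ∧
      (Nat.card G : ℚ) = 8 * ρ * (Nat.card (Subgroup.centralizer ({t} : Set G)) : ℚ) ^ 3 /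
        (Nat.card (Subgroup.centralizer ((S : Subgroup G) : Set G)) : ℚ) ^ 2 := by
  classical
  haveI := Fintype.ofFinite G
  haveI : Fact (Nat.Prime 2) := ⟨Nat.prime_two⟩
  have hS4 : Nat.card S = 4 := (Nat.card_congr eS.toEquiv).trans DihedralGroup.nat_card
  obtain ⟨g₀, hg⟩ : 4 ∣ Nat.card G := hS4 ▸ Subgroup.card_subgroup_dvd_card (S : Subgroup G)
  have hg0 : Odd g₀ := by
    refine Nat.not_even_iff_odd.1 fun he => S.not_dvd_index ?_
    obtain ⟨r, hr⟩ := he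
    have h := (S : Subgroup G).card_mul_index
    rw [show Nat.card (S : Subgroup G) = 4 from hS4, hg] at h
    have : (S : Subgroup G).index = g₀ := by omega
    exact ⟨r, by omega⟩
  have hnc : ¬ ∃ N : Subgroup G, N.Normal ∧ Nat.card N = g₀ := by
    rintro ⟨N, hN, hNc⟩
    rcases hN.eq_bot_or_eq_top with rfl | rfl
    · rw [Subgroup.card_bot] at hNc
      refine hna (IsPGroup.isMulCommutative_of_card_eq_prime_sq (p := 2) ?_)
      rw [hg, ← hNc]; norm_num
    · rw [Subgroup.card_top, hg] at hNc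
      have := hg0.pos
      omega
  obtain ⟨-, hexp, hone⟩ := CfsgLib.Blocks.klein_sylow_fusion hg0 hg hnc S
  have hK : IsKleinFour (S : Subgroup G) := by
    haveI : Nontrivial (S : Subgroup G) := Finite.one_lt_card_iff_nontrivial.1 (hS4 ▸ by norm_num)
    exact ⟨hS4, (Monoid.exponent_eq_prime_iff Nat.prime_two).2 fun x hx =>
      orderOf_eq_prime (by rw [sq]; exact hexp x) hx⟩
  obtain ⟨M, hM⟩ := CfsgLib.Blocks.exists_isPModular Nat.prime_two
  obtain ⟨ζ₂, ζ₃, ζ₄, ε, hε, h02, h03, h23, h24, h34, hB, hval, d2, d3, d4, hrel⟩ :=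
    Cfsg.Agent.S0948.result M hM S hK hone
  have h04 : (ζ₄ : G → ℂ) ≠ fun _ => 1 := fun e => by
    have h := (hval t ht).2.2
    rw [e] at h
    norm_num at h
  obtain ⟨v2, v3, v4⟩ := hval t ht
  have hdvd := fun χ : Cfsg.IrrCharacter G => CfsgLib.Blocks.charDegree_dvd_card χ
  have hrel1 := hrel 1 (by simp)
  simp only [← CfsgLib.Blocks.irr_charDegree_cast] at hrel1
  have hlin : 1 + (Cfsg.charDegree (ζ₂ : G → ℂ) : ℤ) + ε * (Cfsg.charDegree (ζ₃ : G → ℂ) : ℤ) -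
      (Cfsg.charDegree (ζ₄ : G → ℂ) : ℤ) = 0 := by exact_mod_cast hrel1
  rcases hε with rfl | rfl
  · obtain ⟨k, hk1, hk2⟩ := Cfsg.Agent.S4480.result M hM g₀ hg0 hg hnc S t htS ht ζ₂ ζ₃ ζ₄ 1 1 (-1)
      hB ⟨h02, h03, h04, h23, h24, h34⟩ ⟨Or.inl rfl, Or.inl rfl, Or.inr rfl⟩
      ⟨by simpa using v2, by simpa using v3, by simpa using v4⟩ (by norm_num) rfl
    set q := Cfsg.charDegree (ζ₄ : G → ℂ) with hq
    have hq1 : 1 < q := by omega
    refine ⟨(q : ℚ) * ((q : ℚ) + ((-1 : ℤ) : ℚ)) / ((q : ℚ) - ((-1 : ℤ) : ℚ)) ^ 2,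
      Or.inl ⟨q, -1, Or.inr rfl, hq1, hdvd ζ₄, by omega, rfl⟩, ?_⟩
    have hH : (Nat.card (Subgroup.centralizer ((S : Subgroup G) : Set G)) : ℚ) ≠ 0 :=
      Nat.cast_ne_zero.2 Nat.card_pos.ne'
    have e1 : (4 : ℚ) * Nat.card (Subgroup.centralizer ({t} : Set G)) =
        k * Nat.card (Subgroup.centralizer ((S : Subgroup G) : Set G)) * ((q : ℚ) + 1) := by
      exact_mod_cast hk1
    have hle : q ≤ q ^ 3 := Nat.le_self_pow (by norm_num) q
    have e2 : (8 : ℚ) * Nat.card G = (k : ℚ) ^ 3 *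
        Nat.card (Subgroup.centralizer ((S : Subgroup G) : Set G)) * ((q : ℚ) ^ 3 - q) := by
      have h := congrArg (fun n : ℕ => (n : ℚ)) hk2
      push_cast [Nat.cast_sub hle] at h
      exact h
    have e3 : (Nat.card (Subgroup.centralizer ({t} : Set G)) : ℚ) =
        k * Nat.card (Subgroup.centralizer ((S : Subgroup G) : Set G)) * ((q : ℚ) + 1) / 4 := by
      linarith
    have e4 : (Nat.card G : ℚ) = (k : ℚ) ^ 3 *
        Nat.card (Subgroup.centralizer ((S : Subgroup G) : Set G)) * ((q : ℚ) ^ 3 - q) / 8 := by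
      linarith
    have hq2 : (q : ℚ) + 1 ≠ 0 := by positivity
    rw [e3, e4]
    push_cast
    field_simp
    ring
  · have hord := Cfsg.Agent.S4479.result M hM g₀ hg0 hg hnc S t htS ht ζ₂ ζ₃ ζ₄ 1 (-1) (-1)
      hB ⟨h02, h03, h04, h23, h24, h34⟩ ⟨Or.inl rfl, Or.inr rfl, Or.inr rfl⟩
      ⟨by simpa using v2, by simpa using v3, by simpa using v4⟩
    set x := Cfsg.charDegree (ζ₂ : G → ℂ)
    set y := Cfsg.charDegree (ζ₃ : G → ℂ)
    set z := Cfsg.charDegree (ζ₄ : G → ℂ)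
    rcases le_total y z with hyz | hyz
    · refine ⟨((x : ℚ) * y * z) / (((x : ℚ) + 1) * ((y : ℚ) - 1) * ((z : ℚ) - 1)),
        Or.inr ⟨rfl, x, y, z, by omega, hyz, by omega, by omega, by omega, by omega, hdvd _, hdvd _,
          hdvd _, rfl⟩, ?_⟩
      rw [hord]
      push_cast
      simp only [← sub_eq_add_neg]
    · refine ⟨((x : ℚ) * z * y) / (((x : ℚ) + 1) * ((z : ℚ) - 1) * ((y : ℚ) - 1)),
        Or.inr ⟨rfl, x, z, y, by omega, hyz, by omega, by omega, by omega, by omega, hdvd _, hdvd _,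
          hdvd _, rfl⟩, ?_⟩
      rw [hord]
      push_cast
      simp only [← sub_eq_add_neg]
      ring

open CfsgLib.Blocks.Dihedral in
/-- A Sylow subgroup of order at least eight. -/
theorem shape_big (hone : ∀ s t : G, orderOf s = 2 → orderOf t = 2 → IsConj s t)
    (S : Sylow 2 G) {m : ℕ} (hm : 4 ≤ m) (eS : (S : Subgroup G) ≃* DihedralGroup m) {t : G}
    (ht : orderOf t = 2) (htS : t ∈ (S : Subgroup G)) (htZ : ∀ s ∈ (S : Subgroup G), s * t = t * s)
    {v₁ v₂ : G} (h₁ : v₁ ∈ (S : Subgroup G)) (h₂ : v₂ ∈ (S : Subgroup G)) (o₁ : orderOf v₁ = 2)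
    (o₂ : orderOf v₂ = 2) (ne₁ : v₁ ≠ t) (ne₂ : v₂ ≠ t) (o₁₂ : orderOf (v₁ * v₂) = m) :
    ∃ ρ : ℚ, Shape m (Nat.card G) ρ ∧
      (Nat.card G : ℚ) = 2 * ρ * (Nat.card (Subgroup.centralizer ({t} : Set G)) : ℚ) ^ 3 *
        (1 / (Nat.card (Subgroup.centralizer ({t, v₁} : Set G)) : ℚ) +
          1 / (Nat.card (Subgroup.centralizer ({t, v₂} : Set G)) : ℚ)) ^ 2 := by
  classical
  haveI := Fintype.ofFinite G
  haveI : Fact (Nat.Prime 2) := ⟨Nat.prime_two⟩
  have hScard : Nat.card S = 2 * m := (Nat.card_congr eS.toEquiv).trans DihedralGroup.nat_card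
  obtain ⟨k, hk⟩ := IsPGroup.iff_card.1 S.isPGroup'
  rw [show Nat.card (S : Subgroup G) = 2 * m from hScard] at hk
  obtain ⟨a, rfl⟩ : ∃ a, m = 2 ^ (a + 2) := by
    rcases k with _ | _ | _ | a
    · simp at hk
    · norm_num at hk; omega
    · norm_num at hk; omega
    · exact ⟨a, by rw [pow_succ] at hk; omega⟩
  set σ := v₂ * v₁ with hσ
  have i₁ : v₁⁻¹ = v₁ := inv_eq_of_mul_eq_one_right (by rw [← sq, ← o₁, pow_orderOf_eq_one])
  have i₂ : v₂⁻¹ = v₂ := inv_eq_of_mul_eq_one_right (by rw [← sq, ← o₂, pow_orderOf_eq_one])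
  have hσinv : σ⁻¹ = v₁ * v₂ := by rw [hσ, _root_.mul_inv_rev, i₁, i₂]
  have hσo : orderOf σ = 2 * 2 ^ (a + 1) := by
    rw [← orderOf_inv, hσinv, o₁₂, pow_succ]; ring
  have hσm : σ ∈ (S : Subgroup G) := mul_mem h₂ h₁
  have hrel : v₁ * σ * v₁⁻¹ = σ⁻¹ := by
    rw [hσinv, hσ, mul_assoc, mul_assoc, mul_inv_cancel, mul_one]
  have h2h : 2 ≤ 2 ^ (a + 1) := Nat.le_self_pow (by omega) 2
  -- the rotations
  obtain ⟨u, hu⟩ : ∃ u : G, u = σ ^ 2 ^ (a + 1) := ⟨_, rfl⟩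
  have hu2 : u * u = 1 := by
    rw [hu, ← pow_add, ← two_mul, ← hσo, pow_orderOf_eq_one]
  have hu1 : u ≠ 1 := fun e => by
    have := Nat.le_of_dvd (by omega) (orderOf_dvd_of_pow_eq_one (hu ▸ e : σ ^ 2 ^ (a + 1) = 1))
    omega
  have hh0 : Dih S σ (2 ^ (a + 1)) :=
    { hpow := ⟨a, rfl⟩
      iso := by
        rw [show 2 * 2 ^ (a + 1) = 2 ^ (a + 2) by ring]
        exact ⟨eS⟩
      mem := hσm
      ord := hσo }
  have htσ : t = u := by
    by_cases htz : t ∈ Subgroup.zpowers σ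
    · exact hu ▸ ((hh0.sq_eq_one htz (by rw [← sq, ← ht, pow_orderOf_eq_one])).resolve_left
        fun e => by rw [e, orderOf_one] at ht; omega)
    · exfalso
      have h := (hh0.out htS htz).2
      rw [← htZ σ hσm, mul_inv_cancel_right] at h
      have := Nat.le_of_dvd (by norm_num) (orderOf_dvd_of_pow_eq_one (x := σ) (n := 2)
        (by rw [sq]; exact mul_eq_one_iff_eq_inv.2 h))
      omega
  have hv₁ : v₁ ∉ Subgroup.zpowers σ := fun hz => by
    rcases hh0.sq_eq_one hz (by rw [← sq, ← o₁, pow_orderOf_eq_one]) with e | e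
    · rw [e, orderOf_one] at o₁; omega
    · exact ne₁ (e.trans (htσ.trans hu).symm)
  have hgen : Subgroup.closure ({σ, v₁} : Set G) = (S : Subgroup G) := by
    refine le_antisymm ((Subgroup.closure_le _).2 ?_) ?_
    · rintro x (rfl | hx)
      · exact hσm
      · rw [Set.mem_singleton_iff.1 hx]; exact h₁
    intro x hx
    have hσc : Subgroup.zpowers σ ≤ Subgroup.closure ({σ, v₁} : Set G) :=
      Subgroup.zpowers_le.2 (Subgroup.subset_closure (Set.mem_insert _ _))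
    have hvc : v₁ ∈ Subgroup.closure ({σ, v₁} : Set G) :=
      Subgroup.subset_closure (Set.mem_insert_of_mem _ rfl)
    by_cases hxz : x ∈ Subgroup.zpowers σ
    · exact hσc hxz
    have hxv : x * v₁ ∈ Subgroup.zpowers σ := by
      by_contra hc
      have j1 := hh0.invert hx hxz (Subgroup.mem_zpowers σ)
      have j2 := hh0.invert h₁ hv₁ (Subgroup.mem_zpowers σ)
      have j3 := hh0.invert (mul_mem hx h₁) hc (Subgroup.mem_zpowers σ)
      rw [show x * v₁ * σ * (x * v₁)⁻¹ = x * (v₁ * σ * v₁⁻¹) * x⁻¹ by group, j2,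
        show x * σ⁻¹ * x⁻¹ = (x * σ * x⁻¹)⁻¹ by group, j1, inv_inv] at j3
      have := Nat.le_of_dvd (by norm_num) (orderOf_dvd_of_pow_eq_one (x := σ) (n := 2)
        (by rw [sq]; exact mul_eq_one_iff_eq_inv.2 j3))
      omega
    have := Subgroup.mul_mem _ (hσc hxv) (inv_mem hvc)
    rwa [mul_inv_cancel_right] at this
  have hστ : σ * v₁ = v₂ := by rw [hσ, mul_assoc, ← sq, ← o₁, pow_orderOf_eq_one, mul_one]
  obtain ⟨M, hM⟩ := CfsgLib.Blocks.exists_isPModular Nat.prime_two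
  have hσo' : orderOf σ = 2 ^ (a + 3 - 1) := by
    rw [hσo, show a + 3 - 1 = a + 1 + 1 by omega, pow_succ]; ring
  obtain ⟨-, χ₁, χ₂, χ₃, χ', δ, δ₂, δ₃, hδ, -, -, -, h1, -, -, -, -, -, -, hB, hval, -⟩ :=
    Cfsg.Agent.S4481.result M hM (a + 3) (by omega) S
      ⟨eS.trans (MulEquiv.refl _)⟩ σ hσm hσo'
      (Complex.exp (2 * Real.pi * Complex.I / (2 ^ (a + 3 - 1) : ℕ)))
      (Complex.isPrimitiveRoot_exp _ (by positivity))
  have hmem : χ₁ ∈ Cfsg.principalBlock M G := by rw [hB]; exact Or.inr (Or.inl rfl)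
  have htpow : σ ^ 2 ^ (a + 3 - 2) = t := by
    rw [htσ, hu, show a + 3 - 2 = a + 1 by omega]
  obtain ⟨hne, hord⟩ := Cfsg.Agent.S4482.result M hM (a + 3) (by omega) S σ v₁ hσm h₁ hσo' o₁ hrel
    hgen ⟨by rw [htpow]; exact hone _ _ ht o₁, by rw [htpow, hστ]; exact hone _ _ ht o₂⟩ χ₁ hmem h1
    δ hδ (fun l h0 hl => (hval l h0 hl).1)
  rw [htpow, hστ] at hord
  set x := Cfsg.charDegree (χ₁ : G → ℂ) with hx
  have htval : (χ₁ : G → ℂ) t = δ := by
    rw [← htpow]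
    exact (hval _ (by positivity) (by
      rw [show a + 3 - 1 = a + 3 - 2 + 1 by omega, pow_succ]
      have : 0 < 2 ^ (a + 3 - 2) := by positivity
      omega)).1
  -- all non-identity elements of the Sylow subgroup take the value `δ`
  have hall : ∀ s : (S : Subgroup G), s ≠ 1 → (χ₁ : G → ℂ) s = δ := by
    intro s hs
    by_cases hsz : (s : G) ∈ Subgroup.zpowers σ
    · obtain ⟨l, hl⟩ := (IsOfFinOrder.mem_powers_iff_mem_zpowers (isOfFinOrder_of_finite σ)).2 hsz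
      have hl' : σ ^ (l % orderOf σ) = (s : G) := by rw [pow_mod_orderOf]; exact hl
      have h0 : 0 < l % orderOf σ := by
        by_contra h
        rw [show l % orderOf σ = 0 by omega, pow_zero] at hl'
        exact hs (Subtype.ext hl'.symm)
      rw [← hl']
      exact (hval _ h0 (hσo' ▸ Nat.mod_lt _ (orderOf_pos σ))).1
    · have ho : orderOf (s : G) = 2 := orderOf_eq_prime (by rw [sq]; exact (hh0.out s.2 hsz).1)
        fun e => hs (Subtype.ext e)
      obtain ⟨g, hg⟩ := isConj_iff.1 (hone _ _ ht ho)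
      rw [← hg, ← htval]
      exact CfsgLib.CharTheory.isClassFunction_irr χ₁.2 t g
  have hxpos : 0 < x := CfsgLib.Blocks.irr_charDegree_pos χ₁
  have hcong : 2 * ((2 ^ (a + 2) : ℕ) : ℤ) ∣ (x : ℤ) - δ := by
    obtain ⟨r, hr⟩ := CfsgLib.CharTheory.classInner_char_nat
      (CfsgLib.CharTheory.isCharacter_restrict (CfsgLib.CharTheory.isCharacter_of_irr χ₁.2)
        (S : Subgroup G))
      (CfsgLib.CharTheory.isCharacter_of_irr (G := (S : Subgroup G))
        CfsgLib.Blocks.isIrrCharacter_trivial)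
    simp only [Cfsg.classInner, map_one, mul_one] at hr
    rw [← Finset.add_sum_erase _ _ (Finset.mem_univ (1 : (S : Subgroup G))),
      Finset.sum_congr rfl fun s hs => hall s (Finset.ne_of_mem_erase hs), Finset.sum_const,
      Finset.card_erase_of_mem (Finset.mem_univ _), Finset.card_univ, ← Nat.card_eq_fintype_card,
      OneMemClass.coe_one, ← CfsgLib.Blocks.irr_charDegree_cast, ← hx,
      inv_mul_eq_iff_eq_mul₀ (Nat.cast_ne_zero.2 Nat.card_pos.ne'), nsmul_eq_mul,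
      show Nat.card (S : Subgroup G) = 2 * 2 ^ (a + 2) from hScard] at hr
    rw [Nat.cast_sub (Nat.one_le_iff_ne_zero.2 (by positivity))] at hr
    refine ⟨(r : ℤ) - δ, ?_⟩
    have h : ((x : ℤ) - δ : ℂ) = ((2 * ((2 ^ (a + 2) : ℕ) : ℤ) * ((r : ℤ) - δ) : ℤ) : ℂ) := by
      push_cast at hr ⊢
      linear_combination hr
    exact_mod_cast h
  have h1x : 1 < x := by
    by_contra h
    have hx1 : x = 1 := by omega
    rcases hδ with rfl | rfl
    · exact hne (by rw [hx1]; rfl)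
    · rw [hx1] at hcong
      have := Int.le_of_dvd (by norm_num) hcong
      have h4 : (4 : ℤ) ≤ ((2 ^ (a + 2) : ℕ) : ℤ) := by exact_mod_cast hm
      omega
  refine ⟨(x : ℚ) * ((x : ℚ) + δ) / ((x : ℚ) - δ) ^ 2,
    Or.inl ⟨x, δ, hδ, h1x, CfsgLib.Blocks.charDegree_dvd_card χ₁, hcong, rfl⟩, ?_⟩
  have hpos : (x : ℚ) - δ ≠ 0 := sub_ne_zero.2 (by exact_mod_cast hne)
  apply mul_right_cancel₀ (pow_ne_zero 2 hpos)
  rw [hord]
  field_simp

/-- The order formula of a simple group with dihedral Sylow `2`-subgroup `S` of order `2 m` and one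
class of involutions; `t` is the central involution, `v₁`, `v₂` reflections generating `S`. -/
theorem order_formula [IsSimpleGroup G] (hna : ¬ IsMulCommutative G)
    (hone : ∀ s t : G, orderOf s = 2 → orderOf t = 2 → IsConj s t)
    (S : Sylow 2 G) {m : ℕ} (hm : 2 ≤ m) (eS : (S : Subgroup G) ≃* DihedralGroup m) {t : G}
    (ht : orderOf t = 2) (htS : t ∈ (S : Subgroup G)) (htZ : ∀ s ∈ (S : Subgroup G), s * t = t * s)
    {v₁ v₂ : G} (h₁ : v₁ ∈ (S : Subgroup G)) (h₂ : v₂ ∈ (S : Subgroup G)) (o₁ : orderOf v₁ = 2)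
    (o₂ : orderOf v₂ = 2) (ne₁ : v₁ ≠ t) (ne₂ : v₂ ≠ t) (o₁₂ : orderOf (v₁ * v₂) = m) :
    ∃ ρ : ℚ, Shape m (Nat.card G) ρ ∧ 0 < ρ ∧ ρ ≤ 15 / 8 ∧
      (Nat.card G : ℚ) = 2 * ρ * (Nat.card (Subgroup.centralizer ({t} : Set G)) : ℚ) ^ 3 *
        (1 / (Nat.card (Subgroup.centralizer ({t, v₁} : Set G)) : ℚ) +
          1 / (Nat.card (Subgroup.centralizer ({t, v₂} : Set G)) : ℚ)) ^ 2 := by
  have hScard : Nat.card S = 2 * m := (Nat.card_congr eS.toEquiv).trans DihedralGroup.nat_card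
  obtain ⟨ρ, hρ, hf⟩ : ∃ ρ : ℚ, Shape m (Nat.card G) ρ ∧
      (Nat.card G : ℚ) = 2 * ρ * (Nat.card (Subgroup.centralizer ({t} : Set G)) : ℚ) ^ 3 *
        (1 / (Nat.card (Subgroup.centralizer ({t, v₁} : Set G)) : ℚ) +
          1 / (Nat.card (Subgroup.centralizer ({t, v₂} : Set G)) : ℚ)) ^ 2 := by
    rcases Nat.lt_or_ge m 4 with hm4 | hm4
    · obtain rfl : m = 2 := by
        haveI : Fact (Nat.Prime 2) := ⟨Nat.prime_two⟩
        obtain ⟨k, hk⟩ := IsPGroup.iff_card.1 S.isPGroup'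
        rw [show Nat.card (S : Subgroup G) = 2 * m from hScard] at hk
        by_contra hne
        obtain rfl : m = 3 := by omega
        have h := dvd_of_eq hk
        have := (Nat.prime_three.dvd_of_dvd_pow (dvd_trans ⟨2, rfl⟩ h))
        omega
      obtain ⟨ρ, hρ, hf⟩ := shape_four hna S eS htS ht
      refine ⟨ρ, hρ, ?_⟩
      haveI := Fintype.ofFinite G
      have hS4 : Nat.card (S : Subgroup G) = 4 := hScard
      have hC : ∀ {v : G}, v ∈ (S : Subgroup G) → orderOf v = 2 → v ≠ t →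
          Subgroup.centralizer ({t, v} : Set G) =
            Subgroup.centralizer ((S : Subgroup G) : Set G) := by
        intro v hv ov hvt
        refine le_antisymm (fun x hx => ?_) (Subgroup.centralizer_le (by
          rintro y (rfl | hy)
          · exact htS
          · rw [Set.mem_singleton_iff.1 hy]; exact hv))
        rw [Subgroup.mem_centralizer_iff] at hx ⊢
        intro s hs
        have ht1 : t ≠ 1 := fun e => by rw [e, orderOf_one] at ht; omega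
        have hv1 : v ≠ 1 := fun e => by rw [e, orderOf_one] at ov; omega
        have htx := hx t (Set.mem_insert _ _)
        have hvx := hx v (Set.mem_insert_of_mem _ rfl)
        rcases CfsgLib.Blocks.involution_cases hS4 htS hv ht1 hv1 hvt
            (by rw [← sq, ← ht, pow_orderOf_eq_one]) s hs with rfl | rfl | rfl | rfl
        · rw [one_mul, mul_one]
        · exact htx
        · exact hvx
        · rw [mul_assoc, hvx, ← mul_assoc, htx, mul_assoc]
      rw [hC h₁ o₁ ne₁, hC h₂ o₂ ne₂, hf]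
      ring
    · exact shape_big hone S hm4 eS ht htS htZ h₁ h₂ o₁ o₂ ne₁ ne₂ o₁₂
  exact ⟨ρ, hρ, hρ.pos, hρ.le hm, hf⟩

/-- Reflections as required by `order_formula` exist. -/
theorem exists_reflections (S : Sylow 2 G) {m : ℕ} (hm : 2 ≤ m)
    (eS : (S : Subgroup G) ≃* DihedralGroup m) {t : G} (htS : t ∈ (S : Subgroup G))
    (htZ : ∀ s ∈ (S : Subgroup G), s * t = t * s) :
    ∃ v₁ v₂ : G, v₁ ∈ (S : Subgroup G) ∧ v₂ ∈ (S : Subgroup G) ∧ orderOf v₁ = 2 ∧ orderOf v₂ = 2 ∧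
      v₁ ≠ t ∧ v₂ ≠ t ∧ orderOf (v₁ * v₂) = m := by
  have ho : ∀ d : DihedralGroup m, orderOf ((eS.symm d : (S : Subgroup G)) : G) = orderOf d :=
    fun d => by rw [Subgroup.orderOf_coe, MulEquiv.orderOf_eq]
  have hmul : ∀ i j : ZMod m,
      orderOf (((eS.symm (.sr i) : (S : Subgroup G)) : G) * (eS.symm (.sr j) : (S : Subgroup G))) =
        orderOf (DihedralGroup.r (j - i)) := fun i j => by
    rw [← Subgroup.coe_mul, ← map_mul, DihedralGroup.sr_mul_sr, ho]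
  have hord : ∀ i j : ZMod m, j - i = 1 →
      orderOf (((eS.symm (.sr i) : (S : Subgroup G)) : G) * (eS.symm (.sr j) : (S : Subgroup G))) =
        m := fun i j e => by
    rw [hmul, e, DihedralGroup.orderOf_r_one]
  rcases Nat.lt_or_ge m 3 with hm3 | hm3
  · -- the four group
    obtain rfl : m = 2 := by omega
    by_cases h0 : eS ⟨t, htS⟩ = .sr 0
    · refine ⟨((eS.symm (.r 1) : (S : Subgroup G)) : G), ((eS.symm (.sr 1) : (S : Subgroup G)) : G),
        (eS.symm _).2, (eS.symm _).2, ?_, ?_, fun e => ?_, fun e => ?_, ?_⟩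
      · rw [ho, DihedralGroup.orderOf_r_one]
      · rw [ho, DihedralGroup.orderOf_sr]
      · have := congrArg eS (Subtype.ext e : eS.symm (.r 1) = ⟨t, htS⟩)
        rw [MulEquiv.apply_symm_apply, h0] at this
        cases this
      · have := congrArg eS (Subtype.ext e : eS.symm (.sr 1) = ⟨t, htS⟩)
        rw [MulEquiv.apply_symm_apply, h0, DihedralGroup.sr.injEq] at this
        exact absurd this (by decide)
      · rw [← Subgroup.coe_mul, ← map_mul, DihedralGroup.r_mul_sr, ho, DihedralGroup.orderOf_sr]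
    by_cases h1 : eS ⟨t, htS⟩ = .sr 1
    · refine ⟨((eS.symm (.r 1) : (S : Subgroup G)) : G), ((eS.symm (.sr 0) : (S : Subgroup G)) : G),
        (eS.symm _).2, (eS.symm _).2, ?_, ?_, fun e => ?_, fun e => ?_, ?_⟩
      · rw [ho, DihedralGroup.orderOf_r_one]
      · rw [ho, DihedralGroup.orderOf_sr]
      · have := congrArg eS (Subtype.ext e : eS.symm (.r 1) = ⟨t, htS⟩)
        rw [MulEquiv.apply_symm_apply, h1] at this
        cases this
      · have := congrArg eS (Subtype.ext e : eS.symm (.sr 0) = ⟨t, htS⟩)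
        rw [MulEquiv.apply_symm_apply, h1, DihedralGroup.sr.injEq] at this
        exact absurd this (by decide)
      · rw [← Subgroup.coe_mul, ← map_mul, DihedralGroup.r_mul_sr, ho, DihedralGroup.orderOf_sr]
    refine ⟨((eS.symm (.sr 0) : (S : Subgroup G)) : G), ((eS.symm (.sr 1) : (S : Subgroup G)) : G),
      (eS.symm _).2, (eS.symm _).2, ?_, ?_, fun e => h0 ?_, fun e => h1 ?_, hord 0 1 (by simp)⟩
    · rw [ho, DihedralGroup.orderOf_sr]
    · rw [ho, DihedralGroup.orderOf_sr]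
    all_goals
      have := congrArg eS (Subtype.ext e : eS.symm _ = ⟨t, htS⟩)
      rw [MulEquiv.apply_symm_apply] at this
      exact this.symm
  · -- a reflection is not central
    have hne : ∀ i : ZMod m, ((eS.symm (.sr i) : (S : Subgroup G)) : G) ≠ t := fun i e => by
      have h := htZ _ (eS.symm (.r 1)).2
      rw [← e] at h
      have h' := congrArg eS (Subtype.ext h :
        eS.symm (.r 1) * eS.symm (.sr i) = eS.symm (.sr i) * eS.symm (.r 1))
      simp only [map_mul, MulEquiv.apply_symm_apply] at h'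
      have h2 := CfsgLib.DihedralFusion.comm_r_sr h'
      have := Nat.le_of_dvd (by norm_num) ((ZMod.natCast_eq_zero_iff 2 m).1 (by
        rw [Nat.cast_two, ← one_add_one_eq_two]; exact h2))
      omega
    refine ⟨((eS.symm (.sr 0) : (S : Subgroup G)) : G), ((eS.symm (.sr 1) : (S : Subgroup G)) : G),
      (eS.symm _).2, (eS.symm _).2, ?_, ?_, hne 0, hne 1, hord 0 1 (by simp)⟩
    · rw [ho, DihedralGroup.orderOf_sr]
    · rw [ho, DihedralGroup.orderOf_sr]

end group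

end CfsgLib.GW
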