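import Cfsg.Agent.Lib.GW.IIb.LocalFit
import Cfsg.Agent.Lib.PSolvable

/-!
# The core of an involution centraliser through its primary parts

What commutes with every `O_r(C(t))`, `r` odd, commutes with the Fitting subgroup of the core.
-/

set_option autoImplicit false
set_option linter.unusedSectionVars false

namespace CfsgLib.GW

open Cfsg
open CfsgLib.BenderMax (OO)

universe u

variable {G : Type u} [Group G] [Finite G]

theorem fitting_core_comm {C : Subgroup G} {s : G}
    (hF : ∀ r : ℕ, r.Prime → r ≠ 2 → ∀ x ∈ OO r C, x * s = s * x) :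
    ∀ z ∈ Cfsg.fittingSubgroup (oddCore C), ((z : C) : G) * s = s * ((z : C) : G) := by
  have hle : Cfsg.fittingSubgroup (oddCore C) ≤
      (Subgroup.centralizer ({s} : Set G)).comap (C.subtype.comp (oddCore C).subtype) := by
    rw [show Cfsg.fittingSubgroup (oddCore C) = _ from CfsgLib.fittingSubgroup_eq_iSup_pCore]
    refine iSup_le fun r z hz => ?_
    haveI := Fact.mk r.2
    refine Subgroup.mem_centralizer_singleton_iff.2 ?_
    by_cases hr2 : (r : ℕ) = 2
    · obtain ⟨k, hk⟩ := IsPGroup.iff_orderOf.1 (CfsgLib.isPGroup_pCore (G := oddCore C) (r : ℕ)) ⟨z, hz⟩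
      rw [Subgroup.orderOf_mk] at hk
      have h2k : orderOf z ∣ 2 ^ k := by rw [hk, hr2]
      have hz1 : z = 1 := orderOf_eq_one_iff.mp (Nat.eq_one_of_dvd_coprimes
        (Nat.Coprime.pow_left k (Nat.coprime_two_left.mpr CfsgLib.odd_card_oddCore))
        h2k (orderOf_dvd_natCard z))
      simp [hz1]
    · exact hF r r.2 hr2 _ ⟨z, CfsgLib.map_pCore_le (r : ℕ) (oddCore C) ⟨z, hz, rfl⟩, rfl⟩
  exact fun z hz => Subgroup.mem_centralizer_singleton_iff.1 (hle hz)

/-- Two elements of the core centralising every primary part of its Fitting subgroup commute. -/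
theorem core_comm_of_comm_OO {t x y : G} (hx : x ∈ coreC t) (hy : y ∈ coreC t)
    (hxF : ∀ r : ℕ, r.Prime → r ≠ 2 → ∀ f ∈ OO r (centI t), f * x = x * f)
    (hyF : ∀ r : ℕ, r.Prime → r ≠ 2 → ∀ f ∈ OO r (centI t), f * y = y * f) : x * y = y * x := by
  haveI : Group.IsSolvable (oddCore (centI t)) := CfsgLib.OddOrder.feitThompson CfsgLib.odd_card_oddCore
  obtain ⟨x', hx', rfl⟩ := hx
  refine fitting_core_comm hyF ⟨x', hx'⟩ ?_
  rw [← CfsgLib.generalizedFitting_eq_fitting]
  refine CfsgLib.centralizer_generalizedFitting_le (Subgroup.mem_centralizer_iff.mpr fun f hf => ?_)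
  rw [CfsgLib.generalizedFitting_eq_fitting] at hf
  exact Subtype.ext (Subtype.ext (fitting_core_comm hxF f hf))

/-- A 2-element of `C(t)` centralising every odd `O_r(C(t))` centralises the core. -/
theorem core_comm_of_two_element {t s : G} (hs : s ∈ centI t) (hs2 : ∃ k : ℕ, s ^ 2 ^ k = 1)
    (hF : ∀ r : ℕ, r.Prime → r ≠ 2 → ∀ x ∈ OO r (centI t), x * s = s * x) :
    ∀ x ∈ coreC t, x * s = s * x := by
  intro x hx
  set C := centI t with hC
  haveI : Group.IsSolvable (oddCore C) := CfsgLib.OddOrder.feitThompson CfsgLib.odd_card_oddCore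
  obtain ⟨x, hx, rfl⟩ := hx
  set s' : C := ⟨s, hs⟩
  set x' : oddCore C := ⟨x, hx⟩
  let φ : oddCore C →* oddCore C := (MulAut.conjNormal (H := oddCore C) s').toMonoidHom
  have hφ : ∀ y : oddCore C, ((φ y : oddCore C) : C) = s' * y * s'⁻¹ := fun y =>
    MulAut.conjNormal_apply s' y
  set F := Cfsg.fittingSubgroup (oddCore C)
  have hfixF : ∀ f ∈ F, φ f = f := fun f hf => Subtype.ext (Subtype.ext (by
    rw [hφ]
    exact conj_eq_of_comm (fitting_core_comm hF f hf).symm))
  have hy : φ x' * x'⁻¹ ∈ F := by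
    show φ x' * x'⁻¹ ∈ Cfsg.fittingSubgroup (oddCore C)
    rw [← CfsgLib.generalizedFitting_eq_fitting]
    refine CfsgLib.centralizer_generalizedFitting_le (Subgroup.mem_centralizer_iff.mpr fun f hf => ?_)
    rw [CfsgLib.generalizedFitting_eq_fitting] at hf
    have hn : (F : Subgroup (oddCore C)).Normal := inferInstance
    have h1 : φ (x'⁻¹ * f * x') = x'⁻¹ * f * x' := hfixF _ (by simpa using hn.conj_mem f hf x'⁻¹)
    rw [map_mul, map_mul, map_inv, hfixF f hf] at h1
    calc f * (φ x' * x'⁻¹) = φ x' * ((φ x')⁻¹ * f * φ x') * x'⁻¹ := by group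
      _ = φ x' * (x'⁻¹ * f * x') * x'⁻¹ := by rw [h1]
      _ = φ x' * x'⁻¹ * f := by group
  set f := φ x' * x'⁻¹ with hfdef
  have hfG : φ f = f := hfixF f hy
  have hiter : ∀ n : ℕ, ((φ^[n]) x') = f ^ n * x' := by
    intro n
    induction n with
    | zero => simp
    | succ n ih =>
      rw [Function.iterate_succ_apply', ih, map_mul, map_pow, hfG, pow_succ, mul_assoc]
      congr 1
      rw [hfdef, inv_mul_cancel_right]
  obtain ⟨k, hk⟩ := hs2
  have hit : ∀ n : ℕ, ∀ y : oddCore C, (((φ^[n]) y : oddCore C) : C) = s' ^ n * y * (s' ^ n)⁻¹ := by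
    intro n y
    induction n with
    | zero => simp
    | succ n ih => rw [Function.iterate_succ_apply', hφ, ih, pow_succ']; group
  have hf1 : f ^ 2 ^ k = 1 := by
    have h1 := hiter (2 ^ k)
    have h2 : (φ^[2 ^ k]) x' = x' := Subtype.ext (by
      rw [hit, show s' ^ 2 ^ k = 1 from Subtype.ext hk]; simp)
    rw [h2] at h1
    exact (mul_eq_right (b := x')).mp h1.symm
  have hf : f = 1 := orderOf_eq_one_iff.mp (Nat.eq_one_of_dvd_coprimes
    (Nat.Coprime.pow_left k (Nat.coprime_two_left.mpr CfsgLib.odd_card_oddCore))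
    (orderOf_dvd_of_pow_eq_one hf1) (orderOf_dvd_natCard f))
  rw [hfdef, mul_inv_eq_one] at hf
  exact (comm_of_conj_eq (congrArg Subtype.val ((hφ x').symm.trans (congrArg Subtype.val hf)))).symm

end CfsgLib.GW
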