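import Cfsg.Agent.Lib.GW.LChar
import Cfsg.Agent.Lib.Blocks.AbelianFreeThree

/-!
# Linear characters of the core of an involution centralizer: Sylow four groups

The version of `Twist.lchar` for a Sylow four group: the twisted block at the involution has four
characters with value `±1`, and one of them, or of the principal ones, has degree three.
-/

namespace CfsgLib.GW.Twist

open Cfsg CfsgLib.CharTheory CfsgLib.Blocks CfsgLib.Blocks.AbelianFree CfsgLib.Blocks.Dihedral
open scoped ComplexConjugate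

set_option linter.unusedVariables false
set_option linter.style.haveILetI false
set_option linter.unusedSectionVars false

universe u

variable {G : Type u} [Group G] [Fintype G] {M : Ideal AlgInt} {P : Sylow 2 G} {z : G}
  {L : G → ℂ} {B : Set (IrrCharacter G)} {K : Subgroup G}

/-- A linear character of `C(z)` fixed at the Sylow four group. -/
structure FixedFour (P : Sylow 2 G) (z : G) (L : G → ℂ) : Prop where
  lin : LinOn (Subgroup.centralizer ({z} : Set G)) L
  two : ∀ s ∈ (P : Subgroup G), L s = 1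
  fix : ∀ v ∈ (P : Subgroup G), v ≠ 1 → v ≠ z → ∃ y : G, y * z * y⁻¹ = v ∧
    y ∈ Subgroup.normalizer ((P : Subgroup G) : Set G) ∧
    ∀ k ∈ Subgroup.centralizer ((P : Subgroup G) : Set G), L (y * k * y⁻¹) = L k

/-- The hypotheses on the group. -/
structure KleinData (M : Ideal AlgInt) (P : Sylow 2 G) (z : G) (K : Subgroup G) : Prop where
  hM : IsPModular 2 M
  card : Nat.card P = 4
  sq : ∀ v ∈ (P : Subgroup G), v * v = 1
  mem : z ∈ (P : Subgroup G)
  ne : z ≠ 1
  core : Core P z K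
  one : ∀ v ∈ (P : Subgroup G), v ≠ 1 → IsConj z v

theorem FixedFour.trivial_twist (hF : FixedFour P z L) : FixedFour P z (fun _ => (1 : ℂ)) :=
  ⟨linOn_one, fun _ _ => rfl, fun v hv h1 hn =>
    let ⟨y, h1, h3, _⟩ := hF.fix v hv h1 hn
    ⟨y, h1, h3, fun _ _ => rfl⟩⟩

theorem KleinData.comm (D : KleinData M P z K) {a b : G} (ha : a ∈ (P : Subgroup G))
    (hb : b ∈ (P : Subgroup G)) : a * b = b * a := by
  have e : ∀ u ∈ (P : Subgroup G), u⁻¹ = u := fun u hu => inv_eq_of_mul_eq_one_right (D.sq u hu)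
  rw [← e _ (mul_mem ha hb), mul_inv_rev, e a ha, e b hb]

theorem KleinData.le (D : KleinData M P z K) :
    (P : Subgroup G) ≤ Subgroup.centralizer ({z} : Set G) := fun s hs =>
  Subgroup.mem_centralizer_singleton_iff.2 (D.comm hs D.mem)

theorem KleinData.z2 (D : KleinData M P z K) : z * z = 1 := D.sq z D.mem

theorem KleinData.reg (D : KleinData M P z K) {w : G} (hw : w ∈ K) : w ∈ regC 2 z :=
  mem_regC.2 ⟨D.core.comm w hw, fun hd => D.core.odd (hd.trans (Subgroup.orderOf_dvd_natCard K hw))⟩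

theorem KleinData.real (D : KleinData M P z K) (χ : IrrCharacter G) :
    conj ((χ : G → ℂ) z) = (χ : G → ℂ) z := by
  haveI := Fintype.ofFinite (P : Subgroup G)
  haveI := Fintype.ofFinite (Subgroup.normalizer ((P : Subgroup G) : Set G))
  obtain ⟨n, hn⟩ := involution_value (isCharacter_of_irr χ.2) D.z2
  rw [hn, map_intCast]

/-- The section of the twisted block at the involution. -/
theorem KleinData.exists_sec (D : KleinData M P z K) (hF : FixedFour P z L) :
    ∃ B, SecData (H := Subgroup.centralizer ({z} : Set G)) 2 M L B z := by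
  haveI : Fact (Nat.Prime 2) := ⟨Nat.prime_two⟩
  set H := Subgroup.centralizer ({z} : Set G) with hH
  have hzH : cz z ≤ H := (cz_eq z).ge
  obtain ⟨hCP, B, hmax⟩ := exists_block D.hM hF.lin P D.le D.mem hzH
  refine ⟨B, secData D.hM hF.lin P.isPGroup' D.le hCP hmax D.mem hzH (fun g hg => ?_) ?_⟩
  · by_cases hz : g * z * g⁻¹ = z
    · exact Or.inl (Subgroup.mem_centralizer_singleton_iff.2 (mul_inv_eq_iff_eq_mul.1 hz))
    · obtain ⟨y, hy, hyN, hyL⟩ := hF.fix _ hg (fun e => D.ne (conj_eq_one_iff.1 e)) hz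
      exact Or.inr ⟨y, (P : Subgroup G), le_rfl, D.mem, hg, hy, hyN, hyL⟩
  · refine ⟨K.subgroupOf (cz z), ⟨fun k hk c => ?_⟩, ?_, 2, ?_⟩
    · exact D.core.norm c ((isCentr_zpowers z _).1 c.2) _ hk
    · have hle : K ≤ cz z := fun k hk => (isCentr_zpowers z _).2 (D.core.comm k hk)
      rw [Nat.card_congr (Subgroup.subgroupOfEquivOfLe hle).toEquiv]
      exact D.core.odd
    · have hle : K ≤ cz z := fun k hk => (isCentr_zpowers z _).2 (D.core.comm k hk)
      have h1 := (K.subgroupOf (cz z)).card_mul_index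
      have h2 := D.core.card
      rw [D.card, cz_eq] at h2
      rw [Nat.card_congr (Subgroup.subgroupOfEquivOfLe hle).toEquiv, h2, mul_comm 4] at h1
      exact Nat.eq_of_mul_eq_mul_left Nat.card_pos h1

variable {H : Subgroup G}

theorem KleinData.sq_sum (D : KleinData M P z K) (S : SecData (H := Subgroup.centralizer ({z} : Set G)) 2 M L B z) :
    ∑ χ ∈ bset B, (χ : G → ℂ) z * conj ((χ : G → ℂ) z) = 4 := by
  classical
  have hle : K ≤ cz z := fun k hk => (isCentr_zpowers z _).2 (D.core.comm k hk)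
  have hreg : regC 2 z = Finset.univ.filter (· ∈ K) := by
    ext w
    refine ⟨fun hw => Finset.mem_filter.2 ⟨Finset.mem_univ _, ?_⟩, fun hw =>
      D.reg (Finset.mem_filter.1 hw).2⟩
    obtain ⟨hc, hr⟩ := mem_regC.1 hw
    haveI : Fact (Nat.Prime 2) := ⟨Nat.prime_two⟩
    haveI : (K.subgroupOf (cz z)).Normal :=
      ⟨fun k hk c => D.core.norm c ((isCentr_zpowers z _).1 c.2) _ hk⟩
    have hidx : (K.subgroupOf (cz z)).index = 2 ^ 2 := by
      have h1 := (K.subgroupOf (cz z)).card_mul_index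
      have h2 := D.core.card
      rw [D.card, cz_eq] at h2
      rw [Nat.card_congr (Subgroup.subgroupOfEquivOfLe hle).toEquiv, h2, mul_comm 4] at h1
      exact Nat.eq_of_mul_eq_mul_left Nat.card_pos h1
    exact (mem_iff_regular Nat.prime_two (K := K.subgroupOf (cz z))
      (by rw [Nat.card_congr (Subgroup.subgroupOfEquivOfLe hle).toEquiv]; exact D.core.odd) hidx
      ⟨w, (isCentr_zpowers z w).2 hc⟩).2 (by rwa [Subgroup.orderOf_mk])
  rw [S.norm D.hM]
  have h2 := D.core.card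
  rw [D.card, cz_eq] at h2
  rw [h2, hreg, ← Fintype.card_subtype, ← Nat.card_eq_fintype_card, Nat.cast_mul,
    mul_div_assoc, div_self (Nat.cast_ne_zero.2 Nat.card_pos.ne'), mul_one]
  rfl

theorem KleinData.orth_one (D : KleinData M P z K)
    (S : SecData (H := Subgroup.centralizer ({z} : Set G)) 2 M L B z) :
    ∑ χ ∈ bset B, (χ : G → ℂ) z * (χ : G → ℂ) 1 = 0 := by
  obtain ⟨k, hk⟩ := S.pord
  have := block_orth (g := z) (h := 1) D.hM S.blk
    ⟨1, mul_one _, Commute.one_right _, ⟨k, hk⟩, by simp⟩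
    ⟨1, one_mul _, Commute.one_left _, ⟨0, by simp⟩, by simp⟩ fun e => D.ne (isConj_one_left.1 e)
  simpa using this

/-- Products of two involutions in the section give trivial values of `L`. -/
theorem KleinData.pair_one (D : KleinData M P z K) (hF : FixedFour P z L) {w : G} (hw : w ∈ regC 2 z)
    (hne : pairCount z z (z * w) ≠ 0) : L w = 1 := by
  classical
  obtain ⟨⟨a, ha1, ha2⟩⟩ := (Nat.card_ne_zero.1 hne).1
  obtain ⟨hwc, hwr⟩ := mem_regC.1 hw
  have hsq : ∀ b, IsConj z b → b * b = 1 := by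
    intro b hb
    obtain ⟨g, rfl⟩ := isConj_iff.1 hb
    rw [show g * z * g⁻¹ * (g * z * g⁻¹) = g * (z * z) * g⁻¹ by group, D.z2]
    group
  have hinv : a * (z * w) * a⁻¹ = (z * w)⁻¹ := by
    refine eq_inv_of_mul_eq_one_left ?_
    rw [show a * (z * w) * a⁻¹ * (z * w) = a * (z * w) * (a⁻¹ * (z * w)) by group]
    nth_rewrite 1 [← inv_eq_of_mul_eq_one_left (hsq a ha1)]
    exact hsq _ ha2
  obtain ⟨q, hq⟩ : Odd (orderOf w) := Nat.odd_iff.2 (by omega)
  have hgm : (z * w) ^ orderOf w = z := by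
    rw [hwc.symm.mul_pow, pow_orderOf_eq_one, mul_one, hq, pow_succ, pow_mul,
      show z ^ 2 = 1 by rw [pow_two, D.z2], one_pow, one_mul]
  have haz : a * z * a⁻¹ = z := by
    conv_lhs => rw [← hgm]
    rw [← conj_pow, hinv, inv_pow, hgm]
    exact inv_eq_of_mul_eq_one_left D.z2
  have haH : a ∈ Subgroup.centralizer ({z} : Set G) :=
    Subgroup.mem_centralizer_singleton_iff.2 (mul_inv_eq_iff_eq_mul.1 haz)
  have hzH : z ∈ Subgroup.centralizer ({z} : Set G) := D.le D.mem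
  have hwH : w ∈ Subgroup.centralizer ({z} : Set G) := Subgroup.mem_centralizer_singleton_iff.2 hwc.eq
  have e := hF.lin.conjugate haH (mul_mem hzH hwH)
  rw [hinv, hF.lin.map_inv (mul_mem hzH hwH), hF.lin.mul _ hzH _ hwH, hF.two z D.mem, one_mul] at e
  have hw0 := hF.lin.ne_zero hwH
  have hsq2 : L w ^ 2 = 1 := by
    field_simp at e
    linear_combination -e
  have hodd : L w ^ orderOf w = 1 := by rw [← hF.lin.pow hwH, pow_orderOf_eq_one, hF.lin.one]
  rwa [hq, pow_succ, pow_mul, hsq2, one_pow, one_mul] at hodd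

/-- The weighted column sum at the involution. -/
noncomputable def zSum (B : Set (IrrCharacter G)) (z : G) : ℂ :=
  ∑ χ ∈ bset B, (χ : G → ℂ) z ^ 2 / (χ : G → ℂ) 1 * (χ : G → ℂ) z

theorem KleinData.zSum_count (D : KleinData M P z K) (hF : FixedFour P z L)
    (S : SecData (H := Subgroup.centralizer ({z} : Set G)) 2 M L B z) :
    ((Subgroup.centralizer ({z} : Set G)).index : ℂ) * ((regC 2 z).card : ℂ) * zSum B z =
      ∑ w ∈ regC 2 z, (pairCount z z (z * w) : ℂ) * (Nat.card (Subgroup.centralizer ({z} : Set G)) : ℂ) := by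
  classical
  have e : ∀ w ∈ regC 2 z, (pairCount z z (z * w) : ℂ) * (Nat.card (Subgroup.centralizer ({z} : Set G)) : ℂ) =
      ((Subgroup.centralizer ({z} : Set G)).index : ℂ) *
        ∑ χ : IrrCharacter G, (χ : G → ℂ) z ^ 2 / (χ : G → ℂ) 1 * (conj ((χ : G → ℂ) (z * w)) * L w) := by
    intro w hw
    have e0 : (pairCount z z (z * w) : ℂ) = (pairCount z z (z * w) : ℂ) * L w := by
      by_cases h0 : pairCount z z (z * w) = 0
      · simp [h0]
      · rw [D.pair_one hF hw h0, mul_one]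
    rw [e0, mul_right_comm, pairCount_mul, Finset.sum_mul, Finset.mul_sum]
    refine Finset.sum_congr rfl fun χ _ => ?_
    rw [clv, centralChar]
    ring
  rw [Finset.sum_congr rfl e, ← Finset.mul_sum, Finset.sum_comm, mul_assoc]
  congr 1
  have e2 : ∀ χ : IrrCharacter G,
      ∑ w ∈ regC 2 z, (χ : G → ℂ) z ^ 2 / (χ : G → ℂ) 1 * (conj ((χ : G → ℂ) (z * w)) * L w) =
        ((regC 2 z).card : ℂ) * (ind B χ * ((χ : G → ℂ) z ^ 2 / (χ : G → ℂ) 1 * (χ : G → ℂ) z)) := by
    intro χ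
    have := congrArg (starRingEnd ℂ) (S.average D.hM χ)
    simp only [map_sum, map_mul, map_natCast, Complex.conj_conj, D.real] at this
    rw [← Finset.mul_sum, this]
    have hi : conj (ind B χ) = ind B χ := by
      by_cases hm : χ ∈ B
      · rw [ind_of_mem hm, map_one]
      · rw [ind_of_notMem hm, map_zero]
    rw [hi]; ring
  rw [Finset.sum_congr rfl fun χ _ => e2 χ, ← Finset.mul_sum, sum_ind_mul, zSum]

/-- Four characters of value `±1` at the involution. -/
theorem KleinData.signed (D : KleinData M P z K) [IsSimpleGroup G]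
    (S : SecData (H := Subgroup.centralizer ({z} : Set G)) 2 M L B z) :
    ∃ (T : Finset (IrrCharacter G)) (a : IrrCharacter G → ℤ), T ⊆ bset B ∧ T.card = 4 ∧
      (∀ χ ∈ bset B, (χ : G → ℂ) z ≠ 0 → χ ∈ T) ∧
      (∀ χ ∈ T, (a χ : ℂ) = (χ : G → ℂ) z * (χ : G → ℂ) 1 ∧ (4 : ℤ) ∣ a χ - 1 ∧
        ∃ e : ℤ, (e = 1 ∨ e = -1) ∧ (χ : G → ℂ) z = e ∧ a χ = e * (charDegree (χ : G → ℂ) : ℤ)) ∧
      ∑ χ ∈ T, a χ = 0 ∧ zSum B z = ((∑ χ ∈ T, (1 : ℚ) / (a χ : ℚ) : ℚ) : ℂ) := by
  classical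
  haveI := Fintype.ofFinite (P : Subgroup G)
  haveI := Fintype.ofFinite (Subgroup.normalizer ((P : Subgroup G) : Set G))
  choose X hX using fun χ : IrrCharacter G => involution_value (isCharacter_of_irr χ.2) D.z2
  have hXX : ∑ χ ∈ bset B, X χ * X χ = 4 := by
    apply Int.cast_injective (α := ℂ)
    push_cast
    rw [← D.sq_sum S]
    exact Finset.sum_congr rfl fun χ _ => by rw [hX, map_intCast]
  have hXd : ∑ χ ∈ bset B, X χ * (charDegree (χ : G → ℂ) : ℤ) = 0 := by
    apply Int.cast_injective (α := ℂ)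
    push_cast
    rw [← D.orth_one S]
    exact Finset.sum_congr rfl fun χ _ => by rw [hX, irr_charDegree_cast]
  set T := (bset B).filter fun χ => X χ ≠ 0 with hT
  have hx1 : ∀ χ ∈ T, X χ = 1 ∨ X χ = -1 := by
    intro χ hχ
    obtain ⟨hχB, hχ0⟩ := Finset.mem_filter.1 hχ
    have hle : X χ * X χ ≤ 4 := hXX ▸ Finset.single_le_sum (f := fun ψ => X ψ * X ψ)
      (fun ψ _ => mul_self_nonneg (X ψ)) hχB
    have h2 : -2 ≤ X χ ∧ X χ ≤ 2 := ⟨by nlinarith, by nlinarith⟩
    by_contra hc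
    have hx2 : X χ = 2 ∨ X χ = -2 := by omega
    have hsq4 : X χ * X χ = 4 := by rcases hx2 with e | e <;> rw [e] <;> norm_num
    have h1 := hXX
    rw [← Finset.add_sum_erase _ _ hχB, hsq4, add_eq_left] at h1
    have h0 := (Finset.sum_eq_zero_iff_of_nonneg fun ψ _ => mul_self_nonneg (X ψ)).1 h1
    have h3 := hXd
    rw [← Finset.add_sum_erase _ _ hχB, Finset.sum_eq_zero fun ψ hψ => by
      rw [mul_self_eq_zero.1 (h0 ψ hψ), zero_mul], add_zero] at h3
    exact mul_ne_zero hχ0 (Int.natCast_ne_zero.2 (irr_charDegree_pos χ).ne') h3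
  have hcard : T.card = 4 := by
    have h1 := hXX
    rw [← Finset.sum_filter_of_ne (p := fun χ => X χ ≠ 0) fun χ _ h h0 => h (by rw [h0, mul_zero]),
      Finset.sum_congr rfl fun χ hχ => show X χ * X χ = 1 by
        rcases hx1 χ hχ with e | e <;> rw [e] <;> norm_num, Finset.sum_const, nsmul_one] at h1
    exact_mod_cast h1
  have hcong : ∀ χ : IrrCharacter G, (4 : ℤ) ∣ (charDegree (χ : G → ℂ) : ℤ) + 3 * X χ := by
    intro χ
    obtain ⟨n, hn⟩ := classInner_char_nat
      (isCharacter_restrict_irr (P : Subgroup G) χ)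
      (isCharacter_of_irr (oneIrr ↥(P : Subgroup G)).2)
    refine ⟨(n : ℤ), Int.cast_injective (α := ℂ) ?_⟩
    have hone' : ∀ x : (P : Subgroup G),
        conj (((oneIrr ↥(P : Subgroup G) : IrrCharacter ↥(P : Subgroup G)) : ↥(P : Subgroup G) → ℂ) x) = 1 :=
      fun x => map_one _
    have hcl : ∀ x ∈ (Finset.univ : Finset (P : Subgroup G)).erase 1, (χ : G → ℂ) x = (χ : G → ℂ) z := by
      intro x hx
      obtain ⟨g, hg⟩ := isConj_iff.1 (D.one x x.2 fun e => (Finset.mem_erase.1 hx).1 (Subtype.ext e))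
      rw [← hg]
      exact isClassFunction_irr χ.2 _ g
    have hs : ∑ x : (P : Subgroup G), (χ : G → ℂ) x = (χ : G → ℂ) 1 + 3 * (χ : G → ℂ) z := by
      rw [← Finset.add_sum_erase _ _ (Finset.mem_univ 1), OneMemClass.coe_one,
        Finset.sum_congr rfl hcl,
        Finset.sum_const, Finset.card_erase_of_mem (Finset.mem_univ _), Finset.card_univ,
        ← Nat.card_eq_fintype_card, show Nat.card (P : Subgroup G) = 4 from D.card, nsmul_eq_mul]
      norm_num
    rw [classInner, Finset.sum_congr rfl fun x _ => by rw [hone' x, mul_one],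
      show Nat.card (P : Subgroup G) = 4 from D.card, hs, hX, ← irr_charDegree_cast,
      inv_mul_eq_iff_eq_mul₀ (by norm_num)] at hn
    push_cast at hn ⊢
    linear_combination hn
  refine ⟨T, fun χ => X χ * (charDegree (χ : G → ℂ) : ℤ), Finset.filter_subset _ _, hcard,
    fun χ hχ h0 => Finset.mem_filter.2 ⟨hχ, fun e => h0 (by rw [hX, e, Int.cast_zero])⟩,
    fun χ hχ => ⟨?_, ?_, X χ, hx1 χ hχ, hX χ, rfl⟩, ?_, ?_⟩
  · push_cast
    rw [hX, irr_charDegree_cast]
  · have h1 := hcong χ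
    have h2 : (4 : ℤ) ∣ X χ * ((charDegree (χ : G → ℂ) : ℤ) + 3 * X χ) := dvd_mul_of_dvd_right h1 _
    rcases hx1 χ hχ with e | e <;> simp only [e] at h2 ⊢ <;> omega
  · rw [hT]
    exact (Finset.sum_filter_of_ne (p := fun χ => X χ ≠ 0) fun χ _ h h0 => h (by simp [h0])).trans hXd
  · rw [zSum, ← Finset.sum_subset (Finset.filter_subset _ _ : T ⊆ bset B) fun χ hχ hn => by
      have : X χ = 0 := by
        by_contra h0
        exact hn (Finset.mem_filter.2 ⟨hχ, h0⟩)
      rw [hX, this, Int.cast_zero, mul_zero]]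
    push_cast
    refine Finset.sum_congr rfl fun χ hχ => ?_
    rw [hX, ← irr_charDegree_cast]
    have hd : (charDegree (χ : G → ℂ) : ℂ) ≠ 0 := Nat.cast_ne_zero.2 (irr_charDegree_pos χ).ne'
    rcases hx1 χ hχ with e | e <;> rw [e] <;> push_cast <;> field_simp

/-- A character of degree three of value `-1` at the involution kills the fixed points. -/
theorem KleinData.fixed_point (D : KleinData M P z K) [IsSimpleGroup G] (hna : ¬ IsMulCommutative G)
    (hF : FixedFour P z L) (S : SecData (H := Subgroup.centralizer ({z} : Set G)) 2 M L B z)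
    {χ : IrrCharacter G} (hχ : χ ∈ B) (hχd : (χ : G → ℂ) 1 = 3) (hχz : (χ : G → ℂ) z = -1)
    {a : G} (haK : a ∈ K) (hap : ∀ p ∈ (P : Subgroup G), Commute a p) : a = 1 := by
  classical
  obtain ⟨v, hv, hv1, hvz⟩ : ∃ v ∈ (P : Subgroup G), v ≠ 1 ∧ v ≠ z := by
    by_contra hc
    push Not at hc
    have hle : ((P : Subgroup G) : Set G) ⊆ ({1, z} : Set G) := fun x hx => by
      by_cases hx1 : x = 1
      · exact Or.inl hx1
      · exact Or.inr (hc x hx hx1)
    have h1 := Set.ncard_le_ncard hle (Set.toFinite _)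
    rw [Set.ncard_pair D.ne.symm, ← Nat.card_coe_set_eq] at h1
    have h4 : Nat.card (P : Subgroup G) = 4 := D.card
    rw [SetLike.coe_sort_coe] at h1
    omega
  have hzv : Commute z v := D.comm D.mem hv
  have hza : Commute a z := hap z D.mem
  have hreg := D.reg haK
  have hzaux : (χ : G → ℂ) (z * a) = -L a := by
    rw [S.const D.hM hχ hreg, hχz]; ring
  have hval : ∀ v ∈ (P : Subgroup G), v ≠ 1 → v ≠ z →
      (χ : G → ℂ) v = -1 ∧ (χ : G → ℂ) (v * a) = -L a := by
    intro v hv hv1 hvz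
    obtain ⟨y, hy1, hyN, hyL⟩ := hF.fix v hv hv1 hvz
    refine ⟨by rw [← hy1, isClassFunction_irr χ.2 _ y, hχz], ?_⟩
    set k := y⁻¹ * a * y
    have hkP : ∀ q ∈ (P : Subgroup G), Commute k q := fun q hq => by
      have hq' : y * q * y⁻¹ ∈ (P : Subgroup G) := (Subgroup.mem_normalizer_iff.1 hyN q).1 hq
      calc k * q = y⁻¹ * (a * (y * q * y⁻¹)) * y := by simp only [k]; group
        _ = y⁻¹ * ((y * q * y⁻¹) * a) * y := by rw [(hap _ hq').eq]
        _ = q * k := by simp only [k]; group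
    have hka : y * k * y⁻¹ = a := by simp only [k]; group
    have hkr : k ∈ regC 2 z := mem_regC.2 ⟨hkP z D.mem, by
      have : orderOf k = orderOf a := by rw [← hka, conj_orderOf]
      rw [this]; exact (mem_regC.1 hreg).2⟩
    have hLk : L k = L a := by
      rw [← hka, hyL k (Subgroup.mem_centralizer_iff.2 fun q hq => (hkP q hq).symm)]
    rw [show v * a = y * (z * k) * y⁻¹ from
      (congrArg₂ (· * ·) hy1.symm hka.symm).trans (by group), isClassFunction_irr χ.2 _ y,
      S.const D.hM hχ hkr, hχz, hLk]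
    ring
  obtain ⟨q1, q1a⟩ := hval v hv hv1 hvz
  obtain ⟨q2, q2a⟩ := hval (z * v) (mul_mem D.mem hv)
    (fun e => hvz (by rw [mul_eq_one_iff_eq_inv] at e; rw [← inv_inj, ← e, inv_eq_of_mul_eq_one_right D.z2]))
    (fun e => hv1 (mul_eq_left.1 e))
  have hsum := klein_translate (χ := χ) D.z2 (D.sq v hv) hzv hza (hap v hv)
    (by rw [hχd, hχz, q1, q2]; norm_num)
  rw [hzaux, q1a, q2a] at hsum
  have hχa : (χ : G → ℂ) a = 3 * L a := by linear_combination hsum
  have hL1 : ‖L a‖ = 1 := Complex.norm_eq_one_of_pow_eq_one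
    (by rw [← hF.lin.pow (Subgroup.mem_centralizer_singleton_iff.2 hza.eq), pow_orderOf_eq_one, hF.lin.one])
    (orderOf_pos a).ne'
  have hcen := central_of_norm (χ := χ) (a := a) (g := z) (by rw [hχz, hχd]; norm_num)
    (by rw [hχa, hχd, norm_mul, hL1, mul_one])
  rcases (Subgroup.center G).normal_of_characteristic.eq_bot_or_eq_top with hc | hc
  · exact Subgroup.mem_bot.1 (hc ▸ Subgroup.mem_center_iff.2 fun b => (hcen b).symm)
  · exact absurd ⟨⟨fun x y => (Subgroup.mem_center_iff.1 (hc ▸ Subgroup.mem_top y) x)⟩⟩ hna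

theorem inv_le_fifth {a : ℤ} (h4 : (4 : ℤ) ∣ a - 1) (h3 : 3 ≤ |a|) (hne : a ≠ -3) :
    (1 : ℚ) / a ≤ 1 / 5 ∧ -(1 / 7) ≤ (1 : ℚ) / a ∧ (a < 0 → (1 : ℚ) / a ≤ 0) ∧ (0 < a → 0 ≤ (1 : ℚ) / a) := by
  have h : 5 ≤ a ∨ a ≤ -7 := by
    rw [le_abs] at h3
    omega
  rcases h with h | h
  · have hq : (5 : ℚ) ≤ a := by exact_mod_cast h
    have h0 : 0 ≤ (1 : ℚ) / a := by positivity
    exact ⟨one_div_le_one_div_of_le (by norm_num) hq, by linarith, fun hn => by omega, fun _ => h0⟩
  · have hq : (a : ℚ) ≤ -7 := by exact_mod_cast h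
    have h1 : (1 : ℚ) / a ≤ 0 := div_nonpos_of_nonneg_of_nonpos one_pos.le (by linarith)
    have h2 : -(1 / 7) ≤ (1 : ℚ) / a := by
      rw [← one_div_neg_eq_neg_one_div, one_div_le_one_div_of_neg (by norm_num) (by linarith)]
      exact hq
    exact ⟨h1.trans (by norm_num), h2, fun _ => h1, fun hp => by omega⟩

/-- **L-CHAR for Sylow four groups.** -/
theorem lchar_four (D : KleinData M P z K) [IsSimpleGroup G] (hna : ¬ IsMulCommutative G)
    (hF : FixedFour P z L) {w : G} (hwK : w ∈ K) : L w = 1 := by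
  classical
  obtain ⟨B, S⟩ := D.exists_sec hF
  obtain ⟨B1, S1⟩ := D.exists_sec hF.trivial_twist
  by_cases hB : oneIrr G ∈ B
  · have := S.const D.hM hB (D.reg hwK)
    simpa [oneIrr] using this.symm
  have hB1 : oneIrr G ∈ B1 := by
    by_contra hn
    have := S1.average D.hM (oneIrr G)
    rw [ind_of_notMem hn, zero_mul, mul_zero, Finset.sum_congr rfl fun w hw => show
      ((oneIrr G : IrrCharacter G) : G → ℂ) (z * w) * conj (1 : ℂ) = 1 by
        rw [map_one]; exact one_mul _,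
      Finset.sum_const, nsmul_eq_mul, mul_one] at this
    exact S1.card_ne D.hM this
  suffices hfp : ∀ a ∈ K, (∀ p ∈ (P : Subgroup G), Commute a p) → a = 1 by
    -- a fixed point in the coset of the kernel
    have hKH : ∀ u ∈ K, u ∈ Subgroup.centralizer ({z} : Set G) := fun u hu =>
      Subgroup.mem_centralizer_singleton_iff.2 (D.core.comm u hu).eq
    have hPz : ∀ p ∈ (P : Subgroup G), Commute p z := fun p hp => D.comm hp D.mem
    haveI : Fact (Nat.Prime 2) := ⟨Nat.prime_two⟩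
    let A := {u : K // L u = L w}
    letI : MulAction (P : Subgroup G) A :=
      { smul := fun p u => ⟨⟨(p : G) * (u.1 : G) * (p : G)⁻¹, D.core.norm _ (hPz _ p.2) _ u.1.2⟩, by
          show L ((p : G) * (u.1 : G) * (p : G)⁻¹) = L w
          rw [hF.lin.conjugate (D.le p.2) (hKH _ u.1.2)]
          exact u.2⟩
        one_smul := fun u => Subtype.ext (Subtype.ext (by
          show ((1 : (P : Subgroup G)) : G) * (u.1 : G) * ((1 : (P : Subgroup G)) : G)⁻¹ = u.1
          simp))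
        mul_smul := fun p q u => Subtype.ext (Subtype.ext (by
          show ((p * q : (P : Subgroup G)) : G) * (u.1 : G) * ((p * q : (P : Subgroup G)) : G)⁻¹ =
            (p : G) * ((q : G) * (u.1 : G) * (q : G)⁻¹) * (p : G)⁻¹
          simp [mul_assoc])) }
    let Kl : Subgroup K :=
      { carrier := {u | L u = 1}
        one_mem' := hF.lin.one
        mul_mem' := fun {a b} (ha : L a = 1) (hb : L b = 1) => show L ((a : G) * b) = 1 by
          rw [hF.lin.mul _ (hKH _ a.2) _ (hKH _ b.2), ha, hb, one_mul]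
        inv_mem' := fun {a} (ha : L a = 1) => show L ((a : G)⁻¹) = 1 by
          rw [hF.lin.map_inv (hKH _ a.2), ha, inv_one] }
    have hLw := hF.lin.ne_zero (hKH w hwK)
    have hcardA : Nat.card A = Nat.card Kl := Nat.card_congr
      { toFun := fun u => ⟨(⟨w, hwK⟩ : K)⁻¹ * u.1, by
          show L (w⁻¹ * (u.1 : G)) = 1
          rw [hF.lin.mul _ (inv_mem (hKH w hwK)) _ (hKH _ u.1.2), hF.lin.map_inv (hKH w hwK), u.2,
            inv_mul_cancel₀ hLw]⟩
        invFun := fun u => ⟨(⟨w, hwK⟩ : K) * u.1, by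
          show L (w * (u.1 : G)) = L w
          rw [hF.lin.mul _ (hKH w hwK) _ (hKH _ u.1.2), show L (u.1 : G) = 1 from u.2, mul_one]⟩
        left_inv := fun u => Subtype.ext (mul_inv_cancel_left _ _)
        right_inv := fun u => Subtype.ext (inv_mul_cancel_left _ _) }
    obtain ⟨a, ha⟩ := (P.2).nonempty_fixed_point_of_prime_not_dvd_card A (by
      rw [hcardA]
      exact fun hd => D.core.odd (hd.trans Kl.card_subgroup_dvd_card))
    have ha1 : (a.1 : G) = 1 := hfp _ a.1.2 fun p hp => by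
      have := congrArg (fun u : A => (u.1 : G)) (ha ⟨p, hp⟩)
      exact (mul_inv_eq_iff_eq_mul.1 this).symm
    rw [← a.2, ha1, hF.lin.one]
  obtain ⟨T, a, hTB, hT4, hTc, hTa, hTs, hTz⟩ := D.signed S
  obtain ⟨T1, b, hT1B, hT14, hT1c, hT1a, hT1s, hT1z⟩ := D.signed S1
  have hdeg : ∀ {χ : IrrCharacter G} {c e : ℤ}, (e = 1 ∨ e = -1) → (χ : G → ℂ) z = e →
      c = e * (charDegree (χ : G → ℂ) : ℤ) → c = -3 →
      (χ : G → ℂ) 1 = 3 ∧ (χ : G → ℂ) z = -1 := by
    intro χ c e he hez hc h3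
    have hpos := irr_charDegree_pos χ
    rcases he with rfl | rfl
    · omega
    · have : charDegree (χ : G → ℂ) = 3 := by omega
      exact ⟨by rw [← irr_charDegree_cast, this]; norm_num, by rw [hez]; norm_num⟩
  by_cases h1 : ∃ χ ∈ T, a χ = -3
  · obtain ⟨χ, hχ, h3⟩ := h1
    obtain ⟨-, -, e, he, hez, hc⟩ := hTa χ hχ
    obtain ⟨hd, hz⟩ := hdeg he hez hc h3
    exact fun u hu hp => D.fixed_point hna hF S (mem_bset.1 (hTB hχ)) hd hz hu hp
  by_cases h2 : ∃ χ ∈ T1, b χ = -3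
  · obtain ⟨χ, hχ, h3⟩ := h2
    obtain ⟨-, -, e, he, hez, hc⟩ := hT1a χ hχ
    obtain ⟨hd, hz⟩ := hdeg he hez hc h3
    exact fun u hu hp => D.fixed_point hna hF.trivial_twist S1 (mem_bset.1 (hT1B hχ)) hd hz hu hp
  exfalso
  push Not at h1 h2
  have habs : ∀ {χ : IrrCharacter G} {c e : ℤ}, χ ≠ oneIrr G → (e = 1 ∨ e = -1) →
      c = e * (charDegree (χ : G → ℂ) : ℤ) → (4 : ℤ) ∣ c - 1 → 3 ≤ |c| := by
    intro χ c e hne he hc h4
    obtain ⟨k, hk⟩ := h4
    exact hc ▸ three_le_signed hna he hne (hc ▸ ⟨2 * k, by linarith⟩)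
  -- the twisted sum is at most three fifths
  have hup : (∑ χ ∈ T, (1 : ℚ) / (a χ : ℚ)) ≤ 3 / 5 := by
    have hf : ∀ χ ∈ T, (1 : ℚ) / (a χ : ℚ) ≤ 1 / 5 ∧ (a χ < 0 → (1 : ℚ) / (a χ : ℚ) ≤ 0) := fun χ hχ => by
      obtain ⟨-, h4, e, he, hez, hc⟩ := hTa χ hχ
      have h := inv_le_fifth h4 (habs (fun q => hB (q ▸ mem_bset.1 (hTB hχ))) he hc h4) (h1 χ hχ)
      exact ⟨h.1, h.2.2.1⟩
    obtain ⟨χ, hχ, hneg⟩ : ∃ χ ∈ T, a χ < 0 := by
      by_contra hc
      push Not at hc
      have h0 := (Finset.sum_eq_zero_iff_of_nonneg hc).1 hTs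
      obtain ⟨χ, hχ⟩ := Finset.card_pos.1 (by rw [hT4]; norm_num : 0 < T.card)
      obtain ⟨-, h4, -⟩ := hTa χ hχ
      rw [h0 χ hχ] at h4
      norm_num at h4
    rw [← Finset.add_sum_erase _ _ hχ]
    have h3 : ∑ ψ ∈ T.erase χ, (1 : ℚ) / (a ψ : ℚ) ≤ ∑ ψ ∈ T.erase χ, (1 / 5 : ℚ) :=
      Finset.sum_le_sum fun ψ hψ => (hf ψ (Finset.mem_of_mem_erase hψ)).1
    rw [Finset.sum_const, Finset.card_erase_of_mem hχ, hT4] at h3
    have := (hf χ hχ).2 hneg
    norm_num at h3
    simp only [one_div] at h3 this ⊢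
    push_cast at h3 this ⊢
    linarith
  -- the principal sum is at least five sevenths
  have hlow : 5 / 7 ≤ ∑ χ ∈ T1, (1 : ℚ) / (b χ : ℚ) := by
    have h1T : oneIrr G ∈ T1 := hT1c _ (mem_bset.2 hB1) (by simp [oneIrr])
    have hb1 : b (oneIrr G) = 1 := by
      have := (hT1a _ h1T).1
      simp [oneIrr] at this
      exact_mod_cast this
    have hf : ∀ χ ∈ T1.erase (oneIrr G), -(1 / 7) ≤ (1 : ℚ) / (b χ : ℚ) ∧
        (0 < b χ → 0 ≤ (1 : ℚ) / (b χ : ℚ)) ∧ (b χ < 0 → b χ ≤ -7) := fun χ hχ => by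
      obtain ⟨hne, hχT⟩ := Finset.mem_erase.1 hχ
      obtain ⟨-, h4, e, he, hez, hc⟩ := hT1a χ hχT
      have h3 := habs hne he hc h4
      have h := inv_le_fifth h4 h3 (h2 χ hχT)
      refine ⟨h.2.1, h.2.2.2, fun hn => ?_⟩
      have := h2 χ hχT
      rw [abs_of_neg hn] at h3
      omega
    have hc3 : (T1.erase (oneIrr G)).card = 3 := by rw [Finset.card_erase_of_mem h1T, hT14]
    have hs := hT1s
    rw [← Finset.add_sum_erase _ _ h1T, hb1] at hs
    rw [← Finset.add_sum_erase _ _ h1T, hb1]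
    obtain ⟨χ, hχ, hpos⟩ : ∃ χ ∈ T1.erase (oneIrr G), 0 ≤ b χ := by
      by_contra hc
      push Not at hc
      have h7 : ∑ ψ ∈ T1.erase (oneIrr G), b ψ ≤ ∑ ψ ∈ T1.erase (oneIrr G), (-7 : ℤ) :=
        Finset.sum_le_sum fun ψ hψ => (hf ψ hψ).2.2 (hc ψ hψ)
      rw [Finset.sum_const, hc3] at h7
      norm_num at h7
      linarith
    rw [← Finset.add_sum_erase _ _ hχ]
    have h3 : ∑ ψ ∈ (T1.erase (oneIrr G)).erase χ, (-(1 / 7) : ℚ) ≤
        ∑ ψ ∈ (T1.erase (oneIrr G)).erase χ, (1 : ℚ) / (b ψ : ℚ) :=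
      Finset.sum_le_sum fun ψ hψ => (hf ψ (Finset.mem_of_mem_erase hψ)).1
    rw [Finset.sum_const, Finset.card_erase_of_mem hχ, hc3] at h3
    have hb0 : b χ ≠ 0 := fun e => by
      have := (hT1a χ (Finset.mem_of_mem_erase hχ)).2.1
      rw [e] at this
      norm_num at this
    have := (hf χ hχ).2.1 (lt_of_le_of_ne hpos hb0.symm)
    norm_num at h3
    simp only [one_div] at h3 this ⊢
    push_cast at h3 this ⊢
    linarith
  have heq : (∑ χ ∈ T, (1 : ℚ) / (a χ : ℚ)) = ∑ χ ∈ T1, (1 : ℚ) / (b χ : ℚ) := by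
    apply Rat.cast_injective (α := ℂ)
    rw [← hTz, ← hT1z]
    exact mul_left_cancel₀ (mul_ne_zero (Nat.cast_ne_zero.2 Subgroup.index_ne_zero_of_finite)
      (S.card_ne D.hM)) ((D.zSum_count hF S).trans (D.zSum_count hF.trivial_twist S1).symm)
  linarith

end CfsgLib.GW.Twist
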