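import Cfsg.Agent.Lib.GW.LChar
import Cfsg.Agent.Lib.GW.LCharFour
import Cfsg.Agent.Lib.GW.Hyp
import Cfsg.Agent.Lib.DihedralClasses
import Cfsg.Agent.Lib.Palfy.Deg
import Cfsg.Agent.Lib.OddOrder.FeitThompson

/-!
# The core of an involution centralizer is the commutator with the Sylow subgroup

If the core of `C(t)` is centralised by the rotations of the Sylow subgroup, then `O(C(t)) = [O(C(t)), S]`.
-/

set_option autoImplicit false
set_option linter.unusedSectionVars false
set_option linter.style.haveILetI false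

namespace CfsgLib.GW

open Cfsg
open CfsgLib.Blocks CfsgLib.Blocks.Dihedral
open CfsgLib.DihedralFusion (isKleinFour_of_sq)
open scoped commutatorElement

universe u

variable {G : Type u} [Group G] [Finite G]

theorem isKleinFour_closure_pair {a b : G} (ha : a * a = 1) (hb : b * b = 1) (ha1 : a ≠ 1) (hb1 : b ≠ 1)
    (hab : a ≠ b) (hc : a * b = b * a) : IsKleinFour (Subgroup.closure ({a, b} : Set G)) := by
  classical
  let V : Subgroup G :=
    { carrier := {1, a, b, a * b}
      one_mem' := Or.inl rfl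
      mul_mem' := by
        have e1 : ∀ x, a * (a * x) = x := fun x => by rw [← mul_assoc, ha, one_mul]
        have e2 : ∀ x, b * (b * x) = x := fun x => by rw [← mul_assoc, hb, one_mul]
        have e3 : ∀ x, b * (a * x) = a * (b * x) := fun x => by rw [← mul_assoc, ← hc, mul_assoc]
        rintro x y (rfl | rfl | rfl | rfl) (rfl | rfl | rfl | rfl) <;>
          simp [mul_assoc, ha, hb, hc.symm, e1, e3]
      inv_mem' := by
        have ea : a⁻¹ = a := inv_eq_of_mul_eq_one_right ha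
        have eb : b⁻¹ = b := inv_eq_of_mul_eq_one_right hb
        rintro x (rfl | rfl | rfl | rfl) <;> simp [ea, eb, hc] }
  have hV : Subgroup.closure ({a, b} : Set G) = V := by
    refine le_antisymm ((Subgroup.closure_le _).2 ?_) ?_
    · rintro x (rfl | rfl)
      · exact Or.inr (Or.inl rfl)
      · exact Or.inr (Or.inr (Or.inl rfl))
    · rintro x (rfl | rfl | rfl | rfl)
      · exact one_mem _
      · exact Subgroup.subset_closure (Or.inl rfl)
      · exact Subgroup.subset_closure (Or.inr rfl)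
      · exact mul_mem (Subgroup.subset_closure (Or.inl rfl)) (Subgroup.subset_closure (Or.inr rfl))
  rw [hV]
  refine isKleinFour_of_sq ?_ ?_
  · show Nat.card ↥({1, a, b, a * b} : Set G) = 4
    rw [Nat.card_coe_set_eq, Set.ncard_insert_of_notMem, Set.ncard_insert_of_notMem, Set.ncard_pair]
    · intro e; exact ha1 (right_eq_mul.1 e)
    · rintro (e | e)
      · exact hab e
      · exact hb1 (left_eq_mul.1 e)
    · rintro (e | e | e)
      · exact ha1 e.symm
      · exact hb1 e.symm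
      · exact hab (mul_eq_one_iff_eq_inv.1 e.symm |>.trans (inv_eq_of_mul_eq_one_right hb))
  · rintro ⟨x, rfl | rfl | rfl | rfl⟩ <;> refine Subtype.ext ?_
    · exact one_mul 1
    · exact ha
    · exact hb
    · show a * b * (a * b) = 1
      rw [hc.symm.trans hc |>.symm |> fun _ => show a * b * (a * b) = a * (b * a) * b by group,
        ← hc, show a * (a * b) * b = (a * a) * (b * b) by group, ha, hb, mul_one]

/-- Rotations of a dihedral Sylow subgroup of order at least eight, with `t` as their involution. -/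
theorem exists_dih (hG : GWDihedral G) (S : Sylow 2 G) (hS : Nat.card S ≠ 4) {t : G}
    (ht : orderOf t = 2) (htS : t ∈ (S : Subgroup G)) (htZ : ∀ s ∈ (S : Subgroup G), s * t = t * s) :
    ∃ (σ : G) (k : ℕ), Dih S σ k ∧ t = σ ^ k := by
  haveI : Fact (Nat.Prime 2) := ⟨Nat.prime_two⟩
  obtain ⟨n, hn, ⟨eS⟩⟩ := hG.shape S
  have hcard : Nat.card S = 2 * n := (Nat.card_congr eS.toEquiv).trans DihedralGroup.nat_card
  obtain ⟨k, hk⟩ := IsPGroup.iff_card.1 S.isPGroup'
  rw [show Nat.card (S : Subgroup G) = 2 * n from hcard] at hk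
  obtain ⟨a, rfl⟩ : ∃ a, n = 2 * 2 ^ (a + 1) := by
    rcases k with _ | _ | _ | a
    · simp at hk
    · norm_num at hk; omega
    · norm_num at hk; omega
    · exact ⟨a, by rw [pow_succ] at hk; rw [pow_succ] at hk ⊢; omega⟩
  set σ : G := ((eS.symm (DihedralGroup.r 1) : (S : Subgroup G)) : G) with hσdef
  have hσm : σ ∈ (S : Subgroup G) := (eS.symm (DihedralGroup.r 1)).2
  have hσo : orderOf σ = 2 * 2 ^ (a + 1) := by
    rw [hσdef, Subgroup.orderOf_coe, MulEquiv.orderOf_eq, DihedralGroup.orderOf_r_one]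
  have hh : Dih S σ (2 ^ (a + 1)) := ⟨⟨a, rfl⟩, ⟨eS⟩, hσm, hσo⟩
  refine ⟨σ, _, hh, ?_⟩
  have ht2 : t * t = 1 := by rw [← sq, ← ht, pow_orderOf_eq_one]
  by_cases htz : t ∈ Subgroup.zpowers σ
  · exact (hh.sq_eq_one htz ht2).resolve_left fun e => by rw [e, orderOf_one] at ht; omega
  · exfalso
    have h := (hh.out htS htz).2
    rw [← htZ σ hσm, mul_inv_cancel_right] at h
    have := Nat.le_of_dvd (by norm_num) (orderOf_dvd_of_pow_eq_one (x := σ) (n := 2)
      (by rw [sq]; exact mul_eq_one_iff_eq_inv.2 h))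
    have := hh.two_le
    omega

/-- If every linear character of `C(t)` trivial on `S` is trivial on the core, then the core is
`[O(C(t)), S]`. -/
theorem core_eq_commutator_of_hom (hG : GWDihedral G) (S : Sylow 2 G) {t : G} (ht : orderOf t = 2)
    (htZ : ∀ s ∈ (S : Subgroup G), s * t = t * s)
    (key : ∀ f : Subgroup.centralizer ({t} : Set G) →* ℂˣ,
      (∀ s : Subgroup.centralizer ({t} : Set G), (s : G) ∈ (S : Subgroup G) → f s = 1) →
      ∀ x : Subgroup.centralizer ({t} : Set G), (x : G) ∈ coreC t → f x = 1) :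
    ⁅coreC t, (S : Subgroup G)⁆ = coreC t := by
  classical
  haveI : Fact (Nat.Prime 2) := ⟨Nat.prime_two⟩
  set O := coreC t
  set C := Subgroup.centralizer ({t} : Set G)
  have hOC : O ≤ C := fun x hx => Subgroup.mem_centralizer_singleton_iff.2 ((mem_coreC hG ht).1 hx).1
  have hSC : (S : Subgroup G) ≤ C := fun s hs => Subgroup.mem_centralizer_singleton_iff.2 (htZ s hs)
  have hnorm : ∀ c ∈ C, ∀ x ∈ O, c * x * c⁻¹ ∈ O := fun c hc x hx => by
    rw [mem_coreC hG ht] at hx ⊢
    refine ⟨?_, (MulEquiv.orderOf_eq (MulAut.conj c) x).symm ▸ hx.2⟩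
    have h1 : Commute (c * x * c⁻¹) (c * t * c⁻¹) := (Commute.conj_iff c).2 hx.1
    rwa [mul_inv_eq_iff_eq_mul.2 (Subgroup.mem_centralizer_singleton_iff.1 hc)] at h1
  set K := ⁅O, (S : Subgroup G)⁆
  have hKO : K ≤ O := Subgroup.commutator_le.2 fun x hx s hs => by
    rw [commutatorElement_def, mul_assoc x s, mul_assoc x]
    exact mul_mem hx (hnorm s (hSC hs) _ (inv_mem hx))
  have hKn : ∀ o ∈ O, ∀ x ∈ K, o * x * o⁻¹ ∈ K := by
    intro o ho
    suffices hle : K.map (MulAut.conj o).toMonoidHom ≤ K from fun x hx => hle ⟨x, hx, rfl⟩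
    rw [show K = Subgroup.closure {g | ∃ g₁ ∈ O, ∃ g₂ ∈ (S : Subgroup G), ⁅g₁, g₂⁆ = g} from
      Subgroup.commutator_def _ _, MonoidHom.map_closure, Subgroup.closure_le, ← Subgroup.commutator_def]
    rintro _ ⟨_, ⟨x, hx, s, hs, rfl⟩, rfl⟩
    show o * ⁅x, s⁆ * o⁻¹ ∈ K
    rw [show o * ⁅x, s⁆ * o⁻¹ = ⁅o * x, s⁆ * ⁅o, s⁆⁻¹ by simp only [commutatorElement_def]; group]
    exact mul_mem (Subgroup.commutator_mem_commutator (mul_mem ho hx) hs)
      (inv_mem (Subgroup.commutator_mem_commutator ho hs))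
  let N := K ⊔ (S : Subgroup G)
  have hNC : N ≤ C := sup_le (hKO.trans hOC) hSC
  have hNn : ∀ c ∈ C, ∀ x ∈ N, c * x * c⁻¹ ∈ N := by
    intro c hc
    obtain ⟨o, ho, s, hs, rfl⟩ := centralizer_eq_core_mul hG S ht htZ
      (Subgroup.mem_centralizer_singleton_iff.1 hc)
    have h1 : N.map (MulAut.conj o).toMonoidHom ≤ N := by
      rw [Subgroup.map_sup]
      refine sup_le ?_ ?_
      · rintro _ ⟨x, hx, rfl⟩
        exact Subgroup.mem_sup_left (hKn o ho x hx)
      · rintro _ ⟨r, hr, rfl⟩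
        show o * r * o⁻¹ ∈ N
        rw [show o * r * o⁻¹ = ⁅o, r⁆ * r by rw [commutatorElement_def]; group]
        exact mul_mem (Subgroup.mem_sup_left (Subgroup.commutator_mem_commutator ho hr))
          (Subgroup.mem_sup_right hr)
    intro x hx
    rw [show o * s * x * (o * s)⁻¹ = o * (s * x * s⁻¹) * o⁻¹ by group]
    exact h1 ⟨_, mul_mem (mul_mem (Subgroup.mem_sup_right hs) hx) (inv_mem (Subgroup.mem_sup_right hs)), rfl⟩
  let N' : Subgroup C := N.subgroupOf C
  haveI hN' : N'.Normal := ⟨fun x hx c => hNn _ c.2 _ hx⟩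
  have hodd : Odd (Nat.card (C ⧸ N')) := by
    rw [← Nat.not_even_iff_odd, even_iff_two_dvd, ← Subgroup.index_eq_card]
    intro h2
    exact (S.subtype hSC).not_dvd_index (h2.trans (Subgroup.index_dvd_of_le
      (Subgroup.comap_mono (f := C.subtype) (le_sup_right : (S : Subgroup G) ≤ N))))
  have htop : ∀ x ∈ C, x ∈ N := by
    intro x hx
    by_contra hxN
    haveI : Group.IsSolvable (C ⧸ N') := CfsgLib.OddOrder.feitThompson hodd
    haveI : Nontrivial (C ⧸ N') := ⟨⟨QuotientGroup.mk ⟨x, hx⟩, 1, fun e => hxN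
      ((QuotientGroup.eq_one_iff (N := N') (⟨x, hx⟩ : C)).1 e)⟩⟩
    obtain ⟨q, -, hq⟩ := SetLike.exists_of_lt (Group.IsSolvable.commutator_lt_top_of_nontrivial (C ⧸ N'))
    obtain ⟨φ, hφ⟩ := CfsgLib.Palfy.exists_hom_ne_one' hq
    obtain ⟨c, rfl⟩ := QuotientGroup.mk_surjective q
    have hf : ∀ d : C, (d : G) ∈ (S : Subgroup G) → φ (QuotientGroup.mk d) = 1 := fun d hd => by
      rw [(QuotientGroup.eq_one_iff (N := N') d).2 (Subgroup.mem_sup_right hd), map_one]
    obtain ⟨o, ho, s, hs, e⟩ := centralizer_eq_core_mul hG S ht htZ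
      (Subgroup.mem_centralizer_singleton_iff.1 c.2)
    refine hφ ?_
    have ec : c = (⟨o, hOC ho⟩ : C) * ⟨s, hSC hs⟩ := Subtype.ext e
    rw [ec, QuotientGroup.mk_mul, map_mul, hf ⟨s, hSC hs⟩ hs, mul_one]
    exact key (φ.comp (QuotientGroup.mk' N')) hf ⟨o, hOC ho⟩ ho
  refine le_antisymm hKO fun x hx => ?_
  have hSN : (S : Subgroup G) ≤ Subgroup.normalizer (K : Set G) := fun s hs => by
    rw [Subgroup.mem_normalizer_iff]
    have key' : ∀ r ∈ (S : Subgroup G), ∀ y ∈ K, r * y * r⁻¹ ∈ K := by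
      intro r hr
      suffices hle : K.map (MulAut.conj r).toMonoidHom ≤ K from fun y hy => hle ⟨y, hy, rfl⟩
      rw [Subgroup.map_commutator]
      refine Subgroup.commutator_mono ?_ ?_
      · rintro _ ⟨y, hy, rfl⟩; exact hnorm r (hSC hr) y hy
      · rintro _ ⟨y, hy, rfl⟩; exact mul_mem (mul_mem hr hy) (inv_mem hr)
    refine fun y => ⟨key' s hs y, fun hy => ?_⟩
    have := key' s⁻¹ (inv_mem hs) _ hy
    rwa [show s⁻¹ * (s * y * s⁻¹) * s⁻¹⁻¹ = y by group] at this
  have hxN := htop x (hOC hx)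
  rw [← SetLike.mem_coe, Subgroup.coe_mul_of_right_le_normalizer_left _ _ hSN] at hxN
  obtain ⟨k, hk, s, hs, rfl⟩ := hxN
  have hsO : s ∈ O := by
    have := mul_mem (inv_mem (hKO hk)) hx
    rwa [inv_mul_cancel_left] at this
  have hs1 : s = 1 := by
    obtain ⟨j, hj⟩ := IsPGroup.iff_orderOf.1 S.isPGroup' ⟨s, hs⟩
    rw [Subgroup.orderOf_mk] at hj
    have ho := ((mem_coreC hG ht).1 hsO).2
    rw [hj] at ho
    rcases j with _ | j
    · exact orderOf_eq_one_iff.1 (by simpa using hj)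
    · exact absurd ho (Nat.not_odd_iff_even.2 (Nat.even_pow.2 ⟨even_two, j.succ_ne_zero⟩))
  rw [hs1]
  simpa using hk

/-- **L-CHAR-s.**  If the centralisers in the core of the noncentral involutions of `S` are centralised
by `S`, then the core is `[O(C(t)), S]`. -/
theorem GWHyp.core_eq_commutator (h : GWHyp G) (S : Sylow 2 G) (hS : Nat.card S ≠ 4) {t : G}
    (ht : orderOf t = 2) (htS : t ∈ (S : Subgroup G)) (htZ : ∀ s ∈ (S : Subgroup G), s * t = t * s)
    (hfix : ∀ v ∈ (S : Subgroup G), orderOf v = 2 → v ≠ t → ∀ x ∈ coreC t, x * v = v * x →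
      ∀ s ∈ (S : Subgroup G), x * s = s * x) :
    ⁅coreC t, (S : Subgroup G)⁆ = coreC t := by
  classical
  haveI : Fact (Nat.Prime 2) := ⟨Nat.prime_two⟩
  letI := Fintype.ofFinite G
  obtain ⟨M, hM⟩ := CfsgLib.Blocks.exists_isPModular Nat.prime_two
  obtain ⟨σ, k, hh, rfl⟩ := exists_dih h.dihedral S hS ht htS htZ
  haveI := h.simple
  set C := Subgroup.centralizer ({σ ^ k} : Set G)
  refine core_eq_commutator_of_hom h.dihedral S ht htZ fun f hf x hx => ?_
  have hX := h.dihedral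
  have hSC : (S : Subgroup G) ≤ C := fun s hs => Subgroup.mem_centralizer_singleton_iff.2 (htZ s hs)
  let L : G → ℂ := fun g => if hg : g ∈ C then (f ⟨g, hg⟩ : ℂ) else 1
  have hL : ∀ g (hg : g ∈ C), L g = (f ⟨g, hg⟩ : ℂ) := fun g hg => dif_pos hg
  have hlin : Twist.LinOn C L := by
    refine ⟨?_, fun a ha b hb => ?_⟩
    · rw [hL 1 (one_mem C), show (⟨1, one_mem C⟩ : C) = 1 from rfl, map_one, Units.val_one]
    · rw [hL _ (mul_mem ha hb), hL a ha, hL b hb, ← Units.val_mul, ← map_mul]; rfl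
  have htwo : ∀ s ∈ (S : Subgroup G), L s = 1 := fun s hs => by
    rw [hL s (hSC hs), hf ⟨s, hSC hs⟩ hs, Units.val_one]
  have hnorm : Subgroup.normalizer ((S : Subgroup G) : Set G) ≤ C := by
    intro n hn
    have hm : n * σ ^ k * n⁻¹ ∈ (S : Subgroup G) := (Subgroup.mem_normalizer_iff.1 hn _).1 htS
    have hc : ∀ s ∈ (S : Subgroup G), Commute s (n * σ ^ k * n⁻¹) := fun s hs => by
      have h1 : n⁻¹ * s * n ∈ (S : Subgroup G) := by
        have := (Subgroup.mem_normalizer_iff.1 (inv_mem hn) s).1 hs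
        simpa using this
      have h2 := (Commute.conj_iff n).2 (show Commute (n⁻¹ * s * n) (σ ^ k) from htZ _ h1)
      rwa [show n * (n⁻¹ * s * n) * n⁻¹ = s by group] at h2
    have he : n * σ ^ k * n⁻¹ = σ ^ k := by
      have h2 : n * σ ^ k * n⁻¹ * (n * σ ^ k * n⁻¹) = 1 := by
        rw [show n * σ ^ k * n⁻¹ * (n * σ ^ k * n⁻¹) = n * (σ ^ k * σ ^ k) * n⁻¹ by group, hh.z_ne.2]
        group
      by_cases hz : n * σ ^ k * n⁻¹ ∈ Subgroup.zpowers σ
      · exact (hh.sq_eq_one hz h2).resolve_left fun e => hh.z_ne.1 (conj_eq_one_iff.1 e)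
      · exfalso
        have h' := (hh.out hm hz).2
        rw [← (hc σ hh.mem).eq, mul_inv_cancel_right] at h'
        have := Nat.le_of_dvd (by norm_num) (orderOf_dvd_of_pow_eq_one (x := σ) (n := 2)
          (by rw [sq]; exact mul_eq_one_iff_eq_inv.2 h'))
        have := hh.ord
        have := hh.two_le
        omega
    exact Subgroup.mem_centralizer_singleton_iff.2 (mul_inv_eq_iff_eq_mul.1 he)
  have hF : Twist.Fixed S σ k L := by
    refine ⟨hlin, htwo, fun v hv hv2 hvn _ => ?_⟩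
    have hv1 : v ≠ 1 := fun e => hvn (e ▸ one_mem _)
    have hvt : v ≠ σ ^ k := fun e => hvn (e ▸ Subgroup.npow_mem_zpowers σ k)
    have hV : IsKleinFour (Subgroup.closure ({σ ^ k, v} : Set G)) :=
      isKleinFour_closure_pair hh.z_ne.2 hv2 hh.z_ne.1 hv1 (Ne.symm hvt) (htZ v hv).symm
    set V := Subgroup.closure ({σ ^ k, v} : Set G) with hVdef
    have htV : σ ^ k ∈ V := Subgroup.subset_closure (Set.mem_insert _ _)
    have hvV : v ∈ V := Subgroup.subset_closure (Set.mem_insert_of_mem _ rfl)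
    have hVS : V ≤ (S : Subgroup G) := by
      rw [hVdef, Subgroup.closure_le]
      rintro _ (rfl | rfl) <;> assumption
    obtain ⟨g, hg, -, -, hcyc⟩ := h.exists_three hV
    obtain ⟨y, hyN, hyv⟩ : ∃ y ∈ Subgroup.normalizer (V : Set G), y * σ ^ k * y⁻¹ = v := by
      by_cases e : g * σ ^ k * g⁻¹ = v
      · exact ⟨g, hg, e⟩
      · refine ⟨g * g, mul_mem hg hg, ?_⟩
        obtain ⟨h1, h2⟩ := hcyc _ htV hh.z_ne.1
        rw [show g * g * σ ^ k * (g * g)⁻¹ = g * (g * σ ^ k * g⁻¹) * g⁻¹ by group, h2]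
        haveI := hV
        have h3 := congrArg Subtype.val (IsKleinFour.eq_mul_of_ne_all (x := (⟨σ ^ k, htV⟩ : V))
          (y := ⟨v, hvV⟩) (z := ⟨g * σ ^ k * g⁻¹, (Subgroup.mem_normalizer_iff.1 hg _).1 htV⟩)
          (fun q => hh.z_ne.1 (congrArg Subtype.val q)) (fun q => hv1 (congrArg Subtype.val q))
          (fun q => hvt (congrArg Subtype.val q).symm)
          (fun q => hh.z_ne.1 (conj_eq_one_iff.1 (congrArg Subtype.val q)))
          (fun q => h1 (congrArg Subtype.val q)) (fun q => e (congrArg Subtype.val q)))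
        simp only [Subgroup.coe_mul] at h3
        rw [h3, ← mul_assoc, hh.z_ne.2, one_mul]
    refine ⟨y, hyv, hyN, fun q hqt hqv => ?_⟩
    have hcV : ∀ a ∈ Subgroup.centralizer (V : Set G), y * a * y⁻¹ ∈ Subgroup.centralizer (V : Set G) := by
      intro a ha
      refine Subgroup.mem_centralizer_iff.2 fun p hp => ?_
      have hp' : y⁻¹ * p * y ∈ V := by simpa using (Subgroup.mem_normalizer_iff.1 (inv_mem hyN) p).1 hp
      have := Subgroup.mem_centralizer_iff.1 ha _ hp'
      calc p * (y * a * y⁻¹) = y * ((y⁻¹ * p * y) * a) * y⁻¹ := by group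
        _ = y * (a * (y⁻¹ * p * y)) * y⁻¹ := by rw [this]
        _ = y * a * y⁻¹ * p := by group
    have hqV : q ∈ Subgroup.centralizer (V : Set G) := by
      rw [hVdef, Subgroup.centralizer_closure, Subgroup.mem_centralizer_iff]
      rintro _ (rfl | rfl)
      · exact hqt.symm.eq
      · exact hqv.symm.eq
    have hcomm : ∀ a ∈ coreT V, ∀ s ∈ (S : Subgroup G), a * s = s * a := fun a ha => by
      obtain ⟨h1, h2⟩ := (mem_coreT hX hV).1 ha
      exact hfix v hv (orderOf_eq_prime (by rw [sq, hv2]) hv1) hvt a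
        ((mem_coreC hX ht).2 ⟨(Subgroup.mem_centralizer_iff.1 h1 _ htV).symm, h2⟩)
        (Subgroup.mem_centralizer_iff.1 h1 v hvV).symm
    obtain ⟨a, ha, b, hb, rfl⟩ := centralizer_klein_eq hX hV hqV
    obtain ⟨hb1, hb2⟩ := (mem_coreT hX hV).1 hb
    have hb' : y * b * y⁻¹ ∈ coreT V := (mem_coreT hX hV).2 ⟨hcV b hb1, by rwa [conj_orderOf]⟩
    have hbC : b ∈ C := mem_centralizer_involution htV hb1
    have hb'C : y * b * y⁻¹ ∈ C := mem_centralizer_involution htV (hcV b hb1)
    have hcS : ∀ c ∈ coreT V, c ∈ Subgroup.centralizer ((S : Subgroup G) : Set G) := fun c hc =>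
      Subgroup.mem_centralizer_iff.2 fun s hs => (hcomm c hc s hs).symm
    obtain ⟨n, hn, hnb⟩ := Sylow.conj_eq_normalizer_conj_of_mem_centralizer S b y⁻¹ (hcS b hb)
      (by rw [inv_inv]; exact hcS _ hb')
    rw [inv_inv] at hnb
    have hya : y * a * y⁻¹ ∈ (S : Subgroup G) := hVS ((Subgroup.mem_normalizer_iff.1 hyN a).1 ha)
    rw [show y * (a * b) * y⁻¹ = y * a * y⁻¹ * (y * b * y⁻¹) by group, hlin.mul _ (hSC hya) _ hb'C,
      hlin.mul _ (hSC (hVS ha)) _ hbC, htwo _ hya, htwo _ (hVS ha), hnb]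
    congr 1
    have hnC : n ∈ C := hnorm hn
    have := hlin.conjugate (inv_mem hnC) hbC
    rwa [inv_inv] at this
  have hone : ∀ v ∈ (S : Subgroup G), v * v = 1 → v ≠ 1 → IsConj (σ ^ k) v := fun v _ h2 h1 =>
    h.all_conj _ _ ht (orderOf_eq_prime (by rw [sq, h2]) h1)
  obtain ⟨hxc, hxo⟩ := (mem_coreC hX ht).1 hx
  have hres := Twist.lchar h.noncomm hM hh hone hF (w := (x : G)) hxc hxo
  rw [hL _ x.2] at hres
  exact Units.ext hres

/-- **L-CHAR-s**, the form with the rotations: if they centralise the core then it is `[O(C(t)), S]`. -/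
theorem GWHyp.core_eq_commutator_of_rot (h : GWHyp G) (S : Sylow 2 G) (hS : Nat.card S ≠ 4) {t : G}
    (ht : orderOf t = 2) (htS : t ∈ (S : Subgroup G)) (htZ : ∀ s ∈ (S : Subgroup G), s * t = t * s)
    (hrot : ∀ s ∈ (S : Subgroup G), orderOf s ≠ 2 → ∀ x ∈ coreC t, x * s = s * x) :
    ⁅coreC t, (S : Subgroup G)⁆ = coreC t := by
  refine h.core_eq_commutator S hS ht htS htZ fun v hv hv2 hvt x hx hxv s hs => ?_
  obtain ⟨σ, k, hh, rfl⟩ := exists_dih h.dihedral S hS ht htS htZ
  have hσ : x * σ = σ * x := hrot σ hh.mem (by rw [hh.ord]; have := hh.two_le; omega) x hx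
  have hrotc : ∀ r ∈ Subgroup.zpowers σ, Commute x r := by
    rintro _ ⟨j, rfl⟩
    exact (show Commute x σ from hσ).zpow_right j
  by_cases hz : s ∈ Subgroup.zpowers σ
  · exact hrotc s hz
  · have hvn : v ∉ Subgroup.zpowers σ := fun e => by
      rcases hh.sq_eq_one e (by rw [← sq, ← hv2, pow_orderOf_eq_one]) with q | q
      · rw [q, orderOf_one] at hv2; omega
      · exact hvt q
    have hsv : s * v ∈ Subgroup.zpowers σ := by
      by_contra hc
      have j1 := hh.invert (mul_mem hs hv) hc (Subgroup.mem_zpowers σ)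
      have j2 := hh.invert hs hz (Subgroup.mem_zpowers σ)
      have j3 := hh.invert hv hvn (Subgroup.mem_zpowers σ)
      rw [show s * v * σ * (s * v)⁻¹ = s * (v * σ * v⁻¹) * s⁻¹ by group, j3,
        show s * σ⁻¹ * s⁻¹ = (s * σ * s⁻¹)⁻¹ by group, j2, inv_inv] at j1
      have := Nat.le_of_dvd (by norm_num) (orderOf_dvd_of_pow_eq_one (x := σ) (n := 2)
        (by rw [sq]; exact mul_eq_one_iff_eq_inv.2 j1))
      have := hh.ord
      have := hh.two_le
      omega
    have := (hrotc _ hsv).mul_right (show Commute x v⁻¹ from (show Commute x v from hxv).inv_right)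
    rwa [mul_inv_cancel_right] at this

/-- The core with a Sylow four group. -/
theorem core_of_four (hG : GWDihedral G) (S : Sylow 2 G) {t : G} (ht : orderOf t = 2)
    (htZ : ∀ s ∈ (S : Subgroup G), s * t = t * s) : Core S t (coreC t) := by
  haveI : Fact (Nat.Prime 2) := ⟨Nat.prime_two⟩
  have hcard : Odd (Nat.card (coreC t)) := by
    rw [coreC, Subgroup.card_map_of_injective (Subgroup.centralizer ({t} : Set G)).subtype_injective]
    exact CfsgLib.odd_card_oddCore
  have hSO : ∀ s ∈ (S : Subgroup G), s ∈ coreC t → s = 1 := fun s hs hsO => by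
    obtain ⟨j, hj⟩ := IsPGroup.iff_orderOf.1 S.isPGroup' ⟨s, hs⟩
    rw [Subgroup.orderOf_mk] at hj
    have ho := ((mem_coreC hG ht).1 hsO).2
    rw [hj] at ho
    rcases j with _ | j
    · exact orderOf_eq_one_iff.1 (by simpa using hj)
    · exact absurd ho (Nat.not_odd_iff_even.2 (Nat.even_pow.2 ⟨even_two, j.succ_ne_zero⟩))
  have hO : ∀ x ∈ coreC t, x ∈ Subgroup.centralizer ({t} : Set G) := fun x hx =>
    Subgroup.mem_centralizer_singleton_iff.2 ((mem_coreC hG ht).1 hx).1
  refine ⟨fun k hk => ((mem_coreC hG ht).1 hk).1, fun h2 => (Nat.not_even_iff_odd.2 hcard) (even_iff_two_dvd.2 h2),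
    fun c hc k hk => ?_, fun g hg => centralizer_eq_core_mul hG S ht htZ hg.eq, ?_⟩
  · rw [mem_coreC hG ht] at hk ⊢
    refine ⟨?_, (MulEquiv.orderOf_eq (MulAut.conj c) k).symm ▸ hk.2⟩
    have h1 : Commute (c * k * c⁻¹) (c * t * c⁻¹) := (Commute.conj_iff c).2 hk.1
    rwa [mul_inv_eq_iff_eq_mul.2 hc.eq] at h1
  · let f : coreC t × (S : Subgroup G) → Subgroup.centralizer ({t} : Set G) := fun p =>
      ⟨(p.1 : G) * p.2, mul_mem (hO _ p.1.2) (Subgroup.mem_centralizer_singleton_iff.2 (htZ _ p.2.2))⟩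
    have hf : Function.Bijective f := by
      refine ⟨fun p q e => ?_, fun c => ?_⟩
      · have e' : (p.1 : G) * p.2 = q.1 * q.2 := congrArg Subtype.val e
        have e1 : (q.1 : G)⁻¹ * p.1 = (q.2 : G) * (p.2 : G)⁻¹ := by
          rw [eq_mul_inv_iff_mul_eq, mul_assoc, e', inv_mul_cancel_left]
        have e2 := hSO _ (e1.symm ▸ mul_mem q.2.2 (inv_mem p.2.2)) (mul_mem (inv_mem q.1.2) p.1.2)
        rw [inv_mul_eq_one] at e2
        exact Prod.ext (Subtype.ext e2.symm) (Subtype.ext (mul_left_cancel (e2 ▸ e')))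
      · obtain ⟨y, hy, s, hs, e⟩ := centralizer_eq_core_mul hG S ht htZ
          (Subgroup.mem_centralizer_singleton_iff.1 c.2)
        exact ⟨(⟨y, hy⟩, ⟨s, hs⟩), Subtype.ext e.symm⟩
    rw [← Nat.card_eq_of_bijective f hf, Nat.card_prod, mul_comm]

/-- **L-CHAR-s for a Sylow four group.**  If some element normalising `S` and moving `t` centralises
`C(S) ∩ O(C(t))`, then the core is `[O(C(t)), S]`. -/
theorem GWHyp.core_eq_commutator_four (h : GWHyp G) (S : Sylow 2 G) (hS : Nat.card S = 4) {t : G}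
    (ht : orderOf t = 2) (htS : t ∈ (S : Subgroup G))
    (hg : ∃ g ∈ Subgroup.normalizer ((S : Subgroup G) : Set G), g * t * g⁻¹ ≠ t ∧
      ∀ x ∈ coreC t, (∀ s ∈ (S : Subgroup G), x * s = s * x) → g * x = x * g) :
    ⁅coreC t, (S : Subgroup G)⁆ = coreC t := by
  classical
  haveI : Fact (Nat.Prime 2) := ⟨Nat.prime_two⟩
  letI := Fintype.ofFinite G
  obtain ⟨M, hM⟩ := CfsgLib.Blocks.exists_isPModular Nat.prime_two
  obtain ⟨n, hn, ⟨eS⟩⟩ := h.dihedral.shape S
  obtain rfl : n = 2 := by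
    have h1 : Nat.card S = 2 * n := (Nat.card_congr eS.toEquiv).trans DihedralGroup.nat_card
    omega
  have hsq : ∀ v ∈ (S : Subgroup G), v * v = 1 := fun v hv => by
    have h1 : ∀ x : DihedralGroup 2, x * x = 1 := by decide
    exact congrArg Subtype.val (eS.injective (by rw [map_mul, map_one]; exact h1 _) :
      (⟨v, hv⟩ : (S : Subgroup G)) * ⟨v, hv⟩ = 1)
  have hcomm : ∀ a ∈ (S : Subgroup G), ∀ b ∈ (S : Subgroup G), a * b = b * a := fun a ha b hb => by
    have e : ∀ u ∈ (S : Subgroup G), u⁻¹ = u := fun u hu => inv_eq_of_mul_eq_one_right (hsq u hu)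
    rw [← e _ (mul_mem ha hb), mul_inv_rev, e a ha, e b hb]
  have htZ : ∀ s ∈ (S : Subgroup G), s * t = t * s := fun s hs => hcomm s hs t htS
  have hX := h.dihedral
  have hT : IsKleinFour (S : Subgroup G) := isKleinFour_of_sq hS fun x => Subtype.ext (hsq x x.2)
  obtain ⟨g, hgN, hgt, hgx⟩ := hg
  have hg3 : g ^ 3 ∈ Subgroup.centralizer ((S : Subgroup G) : Set G) := by
    have h3 := h.relIndex_normalizer S hT
    rw [if_pos hS] at h3
    haveI : ((Subgroup.centralizer ((S : Subgroup G) : Set G)).subgroupOf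
        (Subgroup.normalizer ((S : Subgroup G) : Set G))).Normal := by
      rw [← Subgroup.normalizerMonoidHom_ker]; infer_instance
    have := Subgroup.pow_index_mem ((Subgroup.centralizer ((S : Subgroup G) : Set G)).subgroupOf
        (Subgroup.normalizer ((S : Subgroup G) : Set G))) (⟨g, hgN⟩ : Subgroup.normalizer ((S : Subgroup G) : Set G))
    rw [show Subgroup.index _ = 3 from h3] at this
    exact Subgroup.mem_subgroupOf.1 this
  haveI := h.simple
  set C := Subgroup.centralizer ({t} : Set G)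
  refine core_eq_commutator_of_hom h.dihedral S ht htZ fun f hf x hx => ?_
  have hSC : (S : Subgroup G) ≤ C := fun s hs => Subgroup.mem_centralizer_singleton_iff.2 (htZ s hs)
  let L : G → ℂ := fun g => if hg : g ∈ C then (f ⟨g, hg⟩ : ℂ) else 1
  have hL : ∀ g (hg : g ∈ C), L g = (f ⟨g, hg⟩ : ℂ) := fun g hg => dif_pos hg
  have hlin : Twist.LinOn C L := by
    refine ⟨?_, fun a ha b hb => ?_⟩
    · rw [hL 1 (one_mem C), show (⟨1, one_mem C⟩ : C) = 1 from rfl, map_one, Units.val_one]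
    · rw [hL _ (mul_mem ha hb), hL a ha, hL b hb, ← Units.val_mul, ← map_mul]; rfl
  have htwo : ∀ s ∈ (S : Subgroup G), L s = 1 := fun s hs => by
    rw [hL s (hSC hs), hf ⟨s, hSC hs⟩ hs, Units.val_one]
  have ht1 : t ≠ 1 := fun e => by rw [e, orderOf_one] at ht; omega
  have hF : Twist.FixedFour S t L := by
    refine ⟨hlin, htwo, fun v hv hv1 hvt => ?_⟩
    have hmem : ∀ u ∈ (S : Subgroup G), g * u * g⁻¹ ∈ (S : Subgroup G) := fun u hu =>
      (Subgroup.mem_normalizer_iff.1 hgN u).1 hu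
    obtain ⟨y, hyN, hyv, hyx⟩ : ∃ y ∈ Subgroup.normalizer ((S : Subgroup G) : Set G), y * t * y⁻¹ = v ∧
        ∀ b, g * b = b * g → y * b * y⁻¹ = b := by
      by_cases e : g * t * g⁻¹ = v
      · exact ⟨g, hgN, e, fun b hb => mul_inv_eq_iff_eq_mul.2 hb⟩
      refine ⟨g * g, mul_mem hgN hgN, ?_, fun b hb => ?_⟩
      · have hne : g * g * t * (g * g)⁻¹ ≠ g * t * g⁻¹ := fun q => hgt (by
          rw [show g * g * t * (g * g)⁻¹ = g * (g * t * g⁻¹) * g⁻¹ by group] at q
          exact mul_left_cancel (mul_right_cancel q))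
        have hne' : g * g * t * (g * g)⁻¹ ≠ t := fun q => hgt (by
          have h3 : g ^ 3 * t * (g ^ 3)⁻¹ = t := mul_inv_eq_iff_eq_mul.2
            (Subgroup.mem_centralizer_iff.1 hg3 t htS).symm
          rwa [show g ^ 3 * t * (g ^ 3)⁻¹ = g * (g * g * t * (g * g)⁻¹) * g⁻¹ by
            simp [pow_succ, mul_assoc], q] at h3)
        have ne1 : ∀ a : G, a * t * a⁻¹ ≠ 1 := fun a q => ht1 (conj_eq_one_iff.1 q)
        haveI := hT
        have e1 := congrArg Subtype.val (IsKleinFour.eq_mul_of_ne_all (x := (⟨t, htS⟩ : (S : Subgroup G)))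
          (y := ⟨g * t * g⁻¹, hmem t htS⟩) (z := ⟨v, hv⟩)
          (fun q => ht1 (congrArg Subtype.val q)) (fun q => ne1 g (congrArg Subtype.val q))
          (fun q => hgt (congrArg Subtype.val q).symm) (fun q => hv1 (congrArg Subtype.val q))
          (fun q => hvt (congrArg Subtype.val q)) (fun q => e (congrArg Subtype.val q).symm))
        have e2 := congrArg Subtype.val (IsKleinFour.eq_mul_of_ne_all (x := (⟨t, htS⟩ : (S : Subgroup G)))
          (y := ⟨g * t * g⁻¹, hmem t htS⟩) (z := ⟨g * g * t * (g * g)⁻¹,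
            (Subgroup.mem_normalizer_iff.1 (mul_mem hgN hgN) t).1 htS⟩)
          (fun q => ht1 (congrArg Subtype.val q)) (fun q => ne1 g (congrArg Subtype.val q))
          (fun q => hgt (congrArg Subtype.val q).symm) (fun q => ne1 (g * g) (congrArg Subtype.val q))
          (fun q => hne' (congrArg Subtype.val q)) (fun q => hne (congrArg Subtype.val q)))
        exact e2.trans e1.symm
      · exact mul_inv_eq_iff_eq_mul.2 ((show Commute g b from hb).mul_left (show Commute g b from hb)).eq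
    refine ⟨y, hyv, hyN, fun q hq => ?_⟩
    obtain ⟨a, ha, b, hb, rfl⟩ := centralizer_klein_eq hX hT hq
    obtain ⟨hb1, hb2⟩ := (mem_coreT hX hT).1 hb
    have hbC : b ∈ C := mem_centralizer_involution htS hb1
    have hbS : ∀ s ∈ (S : Subgroup G), b * s = s * b := fun s hs =>
      (Subgroup.mem_centralizer_iff.1 hb1 s hs).symm
    have hgb := hgx b ((mem_coreC hX ht).2 ⟨hbS t htS, hb2⟩) hbS
    have hya : y * a * y⁻¹ ∈ (S : Subgroup G) := (Subgroup.mem_normalizer_iff.1 hyN a).1 ha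
    rw [show y * (a * b) * y⁻¹ = y * a * y⁻¹ * (y * b * y⁻¹) by group, hyx b hgb,
      hlin.mul _ (hSC hya) _ hbC, hlin.mul _ (hSC ha) _ hbC, htwo _ hya, htwo _ ha]
  have D : Twist.KleinData M S t (coreC t) :=
    ⟨hM, hS, hsq, htS, ht1, core_of_four hX S ht htZ, fun v hv h1 =>
      h.all_conj _ _ ht (orderOf_eq_prime (by rw [pow_two, hsq v hv]) h1)⟩
  have hres := Twist.lchar_four D h.noncomm hF hx
  rw [hL _ x.2] at hres
  exact Units.ext hres

end CfsgLib.GW
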