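import Cfsg.Agent.Lib.GW.Twist
import Cfsg.Agent.Lib.Blocks.Dihedral.Main
import Cfsg.Agent.Lib.Blocks.Star.Inst

/-!
# Sections in the block of a twisted principal pair

For `x` in a Sylow subgroup `P` with centraliser in `H`, whose fusion into `P` respects `L`, the only
subsection of the twisted block at `x` is the twisted principal one.
-/

namespace CfsgLib.GW.Twist

open Cfsg CfsgLib.CharTheory CfsgLib.Blocks CfsgLib.Blocks.AbelianFree
open scoped ComplexConjugate

set_option linter.unusedVariables false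
set_option linter.style.haveILetI false
set_option linter.unusedSectionVars false

universe u

variable {G : Type u} [Group G] [Fintype G] {p : ℕ} {M : Ideal AlgInt} {H : Subgroup G}
  {L : G → ℂ} {P : Subgroup G}

/-- The centralizer of the cyclic group of an element. -/
abbrev cz (x : G) : Subgroup G := Subgroup.centralizer ((Subgroup.zpowers x : Subgroup G) : Set G)

/-- Pairs below a given pair at the same subgroup are equal. -/
theorem below_unique (hM : IsPModular p M) {c d e : BrauerPairIdx G} (hp : IsPGroup p e.1)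
    (he : IsPBlock M e.2) (hc : Relation.ReflTransGen (NormalSubpairRel p M) c e)
    (hd : Relation.ReflTransGen (NormalSubpairRel p M) d e) (h : c.1 = d.1) : c = d := by
  rw [← subIdx_unique hM hp he hc, ← subIdx_unique hM hp he hd, h]

/-- Fusion of `x` into `P` respects `L`. -/
def Good (H : Subgroup G) (L : G → ℂ) (P : Subgroup G) (x : G) : Prop :=
  ∀ g : G, g * x * g⁻¹ ∈ P → g ∈ H ∨ ∃ (y : G) (V : Subgroup G), V ≤ P ∧ x ∈ V ∧ g * x * g⁻¹ ∈ V ∧
    y * x * y⁻¹ = g * x * g⁻¹ ∧ y ∈ Subgroup.normalizer (V : Set G) ∧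
    ∀ k ∈ Subgroup.centralizer (V : Set G), L (y * k * y⁻¹) = L k

theorem conjIdx_fst (g x : G) (a : BrauerPairIdx G) (ha : a.1 = Subgroup.zpowers x) :
    (conjIdx g a).1 = Subgroup.zpowers (g * x * g⁻¹) := by
  show a.1.map (MulAut.conj g).toMonoidHom = _
  rw [ha, MonoidHom.map_zpowers]
  rfl

/-- A subsection at `x` carried below the maximal pair by `g` respecting `L` is the twisted principal one. -/
theorem pair_lin_at (hM : IsPModular p M) (hL : LinOn H L) (hP : IsPGroup p P) (hPH : P ≤ H)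
    (hCP : Subgroup.centralizer (P : Set G) ≤ H) {x : G} (hxH : cz x ≤ H) {a : BrauerPairIdx G}
    (ha1 : a.1 = Subgroup.zpowers x) {g : G}
    (hg : Relation.ReflTransGen (NormalSubpairRel p M) (conjIdx g a) (linPair M hL P hCP))
    (hgood : g ∈ H ∨ ∃ (y : G) (V : Subgroup G), V ≤ P ∧ x ∈ V ∧ g * x * g⁻¹ ∈ V ∧
      y * x * y⁻¹ = g * x * g⁻¹ ∧ y ∈ Subgroup.normalizer (V : Set G) ∧
      ∀ k ∈ Subgroup.centralizer (V : Set G), L (y * k * y⁻¹) = L k) : IsLin L a := by
  have hE : IsPBlock M (linPair M hL P hCP).2 := linPair_block hM hL hCP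
  set v := g * x * g⁻¹ with hv
  have hvP : v ∈ P := subpairLE_le hg (by rw [conjIdx_fst g x a ha1]; exact Subgroup.mem_zpowers v)
  have hback : a = conjIdx g⁻¹ (conjIdx g a) := by
    rw [conjIdx_mul, inv_mul_cancel, conjIdx_one]
  rcases hgood with hgH | ⟨y, V, hVP, hxV, hvV, hyx, hyN, hyL⟩
  · have hvH : cz v ≤ H := by
      intro k hk
      have h1 : g⁻¹ * k * g ∈ H := hxH ((isCentr_zpowers x _).2 (by
        have h2 : Commute k v := (isCentr_zpowers v k).1 hk
        calc g⁻¹ * k * g * x = g⁻¹ * (k * v) * g := by rw [hv]; group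
          _ = g⁻¹ * (v * k) * g := by rw [h2.eq]
          _ = x * (g⁻¹ * k * g) := by rw [hv]; group))
      have := mul_mem (mul_mem hgH h1) (inv_mem hgH)
      rwa [show g * (g⁻¹ * k * g) * g⁻¹ = k by group] at this
    have h1 : conjIdx g a = linPair M hL (Subgroup.zpowers v) hvH :=
      below_unique hM (e := linPair M hL P hCP) hP hE hg
        (linPair_subpair hM hL hP (Subgroup.zpowers_le.2 hvP) hvH hPH) (conjIdx_fst g x a ha1)
    rw [hback, h1]
    exact isLin_conj g⁻¹ (linPair_lin hM hL hvH) fun k hk =>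
      hL.conjugate (inv_mem hgH) (hvH hk)
  · have hzV : Subgroup.zpowers x ≤ V := Subgroup.zpowers_le.2 hxV
    have hVH : Subgroup.centralizer (V : Set G) ≤ H := (centralizer_anti hzV).trans hxH
    have hfix : conjIdx y (linPair M hL V hVH) = linPair M hL V hVH :=
      isLin_unique hM (map_conj_normalizer hyN) (isPBlock_conjIdx (linPair_block hM hL hVH) y)
        (linPair_block hM hL hVH) (isLin_conj y (linPair_lin hM hL hVH) hyL) (linPair_lin hM hL hVH)
    have h2 := subpair_conj hM (linPair_subpair hM hL (hP.to_le hVP) hzV hxH (hVP.trans hPH)) y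
    rw [hfix] at h2
    have h1 : conjIdx g a = conjIdx y (linPair M hL (Subgroup.zpowers x) hxH) := by
      refine below_unique hM (e := linPair M hL P hCP) hP hE hg
        (h2.trans (linPair_subpair hM hL hP hVP hVH hPH)) ?_
      rw [conjIdx_fst g x a ha1, conjIdx_fst y x (linPair M hL (Subgroup.zpowers x) hxH) rfl, hyx]
    rw [hback, h1, conjIdx_mul]
    have hc : g⁻¹ * y ∈ H := hxH ((isCentr_zpowers x _).2 (by
      calc g⁻¹ * y * x = g⁻¹ * (y * x * y⁻¹) * y := by group
        _ = x * (g⁻¹ * y) := by rw [hyx, hv]; group))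
    exact isLin_conj _ (linPair_lin hM hL hxH) fun k hk => hL.conjugate hc (hxH hk)


/-- The only subsection at `x` is the twisted principal one. -/
theorem pair_lin (hM : IsPModular p M) (hL : LinOn H L) (hP : IsPGroup p P) (hPH : P ≤ H)
    (hCP : Subgroup.centralizer (P : Set G) ≤ H) {B : Set (IrrCharacter G)}
    (hmax : IsMaximalBrauerPair p M B P (linPair M hL P hCP).2) {x : G} (hxP : x ∈ P)
    (hxH : cz x ≤ H)
    (hgood : Good H L P x) {a : BrauerPairIdx G} (ha1 : a.1 = Subgroup.zpowers x)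
    (ha : IsBrauerPairOf p M B a.1 a.2) : IsLin L a := by
  obtain ⟨g, hg⟩ := exists_conj_subpair hM (m := linPair M hL P hCP) hmax ha
  have hvP : g * x * g⁻¹ ∈ P :=
    subpairLE_le hg (by rw [conjIdx_fst g x a ha1]; exact Subgroup.mem_zpowers _)
  exact pair_lin_at hM hL hP hPH hCP hxH ha1 hg (hgood g hvP)

/-- The twisted block. -/
theorem exists_block (hM : IsPModular p M) (hL : LinOn H L) [Fact p.Prime] (S : Sylow p G)
    (hSH : (S : Subgroup G) ≤ H) {x : G} (hxS : x ∈ (S : Subgroup G))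
    (hxH : cz x ≤ H) :
    ∃ (hCP : Subgroup.centralizer ((S : Subgroup G) : Set G) ≤ H) (B : Set (IrrCharacter G)),
      IsMaximalBrauerPair p M B (S : Subgroup G) (linPair M hL (S : Subgroup G) hCP).2 := by
  classical
  have hxP : Subgroup.zpowers x ≤ (S : Subgroup G) := Subgroup.zpowers_le.2 hxS
  obtain ⟨ξ, hξ⟩ := bne hM (linPair_block hM hL hxH)
  haveI := Fintype.ofFinite (cz x)
  obtain ⟨k, hk⟩ := IsPGroup.iff_orderOf.1 S.isPGroup' ⟨x, hxS⟩
  obtain ⟨χ, hχ⟩ := exists_induced_centr hM (isCentr_zpowers x)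
    ⟨k, by rw [← hk, Subgroup.orderOf_mk]⟩ (ξ : IrrCharacter
      (cz x))
  have hind : IsInducedBlock M (cz x)
      (linPair M hL (Subgroup.zpowers x) hxH).2 (blockOf M (χ : G → ℂ)) :=
    isInducedBlock_of_congr _ hM (linPair_block hM hL hxH) (blockOf_isPBlock χ) hξ
      (mem_blockOf_self hM χ) hχ
  have h1 := (pairOf_subpair_iff hM (linPair_subpair hM hL S.isPGroup' hxP hxH hSH)
    (blockOf M (χ : G → ℂ))).1 ((induced_centralizer_iff hM (S.isPGroup'.to_le hxP)).1 hind)
  exact ⟨(centralizer_anti hxP).trans hxH, _, h1, fun R g hR hle =>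
    S.is_maximal' hR.1.1 (subpairLE_le (a := linPair M hL (S : Subgroup G) _) (b := ⟨R, g⟩) hle)⟩

/-- A section governed by `L` in the block `B`. -/
structure SecData (p : ℕ) (M : Ideal AlgInt) (L : G → ℂ) (B : Set (IrrCharacter G)) (x : G) :
    Prop where
  pord : ∃ k, orderOf x = p ^ k
  blk : IsPBlock M B
  comp : ∃ K : Subgroup (cz x),
    K.Normal ∧ ¬ p ∣ Nat.card K ∧ ∃ k, K.index = p ^ k
  inH : cz x ≤ H
  lin : LinOn H L
  iff : ∀ b : Set (IrrCharacter (cz x)),
    IsPBlock M b → (IsInducedBlock M (cz x) b B ↔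
      b = twSet lin inH (principalBlock M (cz x)))

theorem secData (hM : IsPModular p M) (hL : LinOn H L) (hP : IsPGroup p P) (hPH : P ≤ H)
    (hCP : Subgroup.centralizer (P : Set G) ≤ H) {B : Set (IrrCharacter G)}
    (hmax : IsMaximalBrauerPair p M B P (linPair M hL P hCP).2) {x : G} (hxP : x ∈ P)
    (hxH : cz x ≤ H)
    (hgood : Good H L P x)
    (hcomp : ∃ K : Subgroup (cz x),
      K.Normal ∧ ¬ p ∣ Nat.card K ∧ ∃ k, K.index = p ^ k) :
    SecData (H := H) p M L B x := by
  have hz : Subgroup.zpowers x ≤ P := Subgroup.zpowers_le.2 hxP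
  haveI : Fact p.Prime := ⟨hM.1⟩
  haveI := Fintype.ofFinite (cz x)
  obtain ⟨k, hk⟩ := IsPGroup.iff_orderOf.1 hP ⟨x, hxP⟩
  refine ⟨⟨k, by rw [← hk, Subgroup.orderOf_mk]⟩, hmax.1.2.1, hcomp, hxH, hL, fun b hb => ?_⟩
  rw [induced_centralizer_iff hM (hP.to_le hz)]
  constructor
  · intro h
    have e := eq_linPair hM hL (a := ⟨Subgroup.zpowers x, b⟩) hb
      (pair_lin hM hL hP hPH hCP hmax hxP hxH hgood rfl h) hxH
    exact eq_of_heq (Sigma.mk.inj_iff.1 e).2
  · rintro rfl
    exact (pairOf_subpair_iff hM (linPair_subpair hM hL hP hz hxH hPH) B).2 hmax.1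

variable {x : G}
  {B : Set (IrrCharacter G)}

theorem sum_regC_image (hp : p.Prime)
    {K : Subgroup (cz x)} [K.Normal]
    [Fintype K] (hK : ¬ p ∣ Nat.card K) {k : ℕ} (hidx : K.index = p ^ k) (f : G → ℂ) :
    ∑ v ∈ regC p x, f v =
      ∑ c : K, f ((c : cz x) : G) := by
  symm
  refine Finset.sum_bij
    (fun c _ => ((c : cz x) : G))
    (fun c _ => mem_regC.2 ⟨(isCentr_zpowers x _).1 c.1.2, ?_⟩)
    (fun a _ b _ e => Subtype.ext (Subtype.ext e)) (fun v hv => ?_) (fun _ _ => rfl)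
  · rw [Subgroup.orderOf_coe]; exact (mem_iff_regular hp hK hidx _).1 c.2
  · obtain ⟨hc, hr⟩ := mem_regC.1 hv
    exact ⟨⟨⟨v, (isCentr_zpowers x v).2 hc⟩, (mem_iff_regular hp hK hidx _).2
      (by rwa [Subgroup.orderOf_mk])⟩, Finset.mem_univ _, rfl⟩

theorem SecData.regC_mem (D : SecData (H := H) p M L B x) {v : G} (hv : v ∈ regC p x) : v ∈ H :=
  D.inH ((isCentr_zpowers x v).2 (mem_regC.1 hv).1)

/-- On the section the characters of `B` are `L` times a constant, the others average to zero. -/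
theorem SecData.key (D : SecData (H := H) p M L B x) (hM : IsPModular p M) (χ : IrrCharacter G)
    {v : G} (hv : v ∈ regC p x) :
    ((regC p x).card : ℂ) * (ind B χ * (χ : G → ℂ) (x * v)) =
      L v * ∑ w ∈ regC p x, (χ : G → ℂ) (x * w) * conj (L w) := by
  classical
  haveI : Fact p.Prime := ⟨hM.1⟩
  haveI := Fintype.ofFinite (cz x)
  obtain ⟨K, hKn, hK, k, hidx⟩ := D.comp
  haveI := hKn
  have hc := isCentr_zpowers x
  obtain ⟨hvc, hvr⟩ := mem_regC.1 hv
  set v' : (cz x) := ⟨v, (hc v).2 hvc⟩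
  have hvr' : ¬ p ∣ orderOf v' := by rw [← Subgroup.orderOf_coe]; exact hvr
  have hvK : v' ∈ K := (mem_iff_regular hM.1 hK hidx v').2 hvr'
  have hover : overBlocks M (cz x) B = twSet D.lin D.inH (principalBlock M (cz x)) := by
    ext ψ
    show IsInducedBlock M (cz x) (blockOf M (ψ : (cz x) → ℂ)) B ↔ _
    rw [D.iff _ (blockOf_isPBlock ψ)]
    exact ⟨fun h => h ▸ mem_blockOf_self hM ψ,
      fun h => (eq_blockOf hM (isPBlock_twSet hM D.lin D.inH principalBlock_isPBlock) h).symm⟩
  have h1 := sec_eq_overBlocks hM hc D.pord D.blk χ hvr'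
  rw [hover, principalBlock_of_complement (G := (cz x)) hM hK ⟨k, hidx⟩, blockPart_apply] at h1
  have himg : bset (twSet D.lin D.inH
      {φ : IrrCharacter (cz x) | ∀ n ∈ K, (φ : (cz x) → ℂ) n = (φ : (cz x) → ℂ) 1}) =
      (bset {φ : IrrCharacter (cz x) | ∀ n ∈ K, (φ : (cz x) → ℂ) n = (φ : (cz x) → ℂ) 1}).image
        (twIrr D.lin D.inH) := by
    ext φ; simp [twSet, mem_bset]
  rw [himg, Finset.sum_image (twIrr_injective D.lin D.inH).injOn] at h1
  rw [← h1, Finset.sum_congr rfl fun φ hφ => by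
    rw [twIrr_apply D.lin D.inH φ v', (mem_bset.1 hφ) v' hvK]]
  have e : ∀ φ : IrrCharacter (cz x),
      classInner (sec x (cz x) (χ : G → ℂ)) (twIrr D.lin D.inH φ : (cz x) → ℂ) *
          (L (v' : G) * (φ : (cz x) → ℂ) 1) =
        (Nat.card (cz x) : ℂ)⁻¹ * L v * ∑ c : (cz x), sec x (cz x) (χ : G → ℂ) c * conj (L c) *
          ((φ : (cz x) → ℂ) 1 * conj ((φ : (cz x) → ℂ) c)) := by
    intro φ
    simp only [classInner, twIrr_apply, map_mul, v', Finset.mul_sum, Finset.sum_mul]
    exact Finset.sum_congr rfl fun c _ => by ring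
  rw [Finset.sum_congr rfl fun φ _ => e φ, ← Finset.mul_sum, Finset.sum_comm,
    Finset.sum_congr rfl fun c _ => by rw [← Finset.mul_sum, kernel_sum K c, mul_ite, mul_zero],
    ← Finset.sum_filter, ← Finset.sum_mul]
  rw [Finset.sum_subtype (Finset.univ.filter fun c : (cz x) => c ∈ K) (p := fun c => c ∈ K)
    (fun c => by simp), sum_regC_image hM.1 hK hidx (fun w => (χ : G → ℂ) (x * w) * conj (L w))]
  have hcard : ((regC p x).card : ℂ) = (Nat.card K : ℂ) := by
    have := sum_regC_image hM.1 hK hidx (fun _ => (1 : ℂ))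
    simpa [Nat.card_eq_fintype_card] using this
  rw [hcard, ← K.index_mul_card, Nat.cast_mul]
  have hN' : (Nat.card K : ℂ) ≠ 0 := Nat.cast_ne_zero.2 Nat.card_pos.ne'
  have hI : (K.index : ℂ) ≠ 0 := Nat.cast_ne_zero.2 Subgroup.index_ne_zero_of_finite
  simp only [sec]
  field_simp

theorem SecData.card_ne (D : SecData (H := H) p M L B x) (hM : IsPModular p M) :
    ((regC p x).card : ℂ) ≠ 0 :=
  Nat.cast_ne_zero.2 (Finset.card_pos.2 ⟨1, one_mem_regC hM.1 x⟩).ne'

theorem SecData.const (D : SecData (H := H) p M L B x) (hM : IsPModular p M) {χ : IrrCharacter G}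
    (hχ : χ ∈ B) {v : G} (hv : v ∈ regC p x) : (χ : G → ℂ) (x * v) = L v * (χ : G → ℂ) x := by
  have h1 := D.key hM χ hv
  have h2 := D.key hM χ (one_mem_regC hM.1 x)
  rw [ind_of_mem hχ, one_mul] at h1 h2
  rw [mul_one, D.lin.one, one_mul] at h2
  rw [← h2] at h1
  refine mul_left_cancel₀ (D.card_ne hM) ?_
  linear_combination h1

/-- The twisted average over the section. -/
theorem SecData.average (D : SecData (H := H) p M L B x) (hM : IsPModular p M) (χ : IrrCharacter G) :
    ∑ w ∈ regC p x, (χ : G → ℂ) (x * w) * conj (L w) =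
      ((regC p x).card : ℂ) * (ind B χ * (χ : G → ℂ) x) := by
  have h2 := D.key hM χ (one_mem_regC hM.1 x)
  rw [mul_one, D.lin.one, one_mul] at h2
  exact h2.symm

/-- The squared length of the column of `B` at the element. -/
theorem SecData.norm (D : SecData (H := H) p M L B x) (hM : IsPModular p M) :
    ∑ χ ∈ bset B, (χ : G → ℂ) x * conj ((χ : G → ℂ) x) =
      (Nat.card (cz x) : ℂ) /
        ((regC p x).card : ℂ) := by
  classical
  have hone : ∀ w ∈ regC p x, IsConj (x * w) x → w = 1 := by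
    intro w hw hc
    obtain ⟨g, hg⟩ := isConj_iff.1 hc
    obtain ⟨hwc, hwr⟩ := mem_regC.1 hw
    obtain ⟨j, hj⟩ := D.pord
    have e : g * x * g⁻¹ * (g * w * g⁻¹) = x * 1 := by
      rw [mul_one, show g * x * g⁻¹ * (g * w * g⁻¹) = g * (x * w) * g⁻¹ by group, hg]
    have h := (pPart_unique hM.1 ((Commute.conj_iff g).2 hwc.symm) (Commute.one_right x)
      ⟨j, by rw [conj_orderOf, hj]⟩ ⟨j, hj⟩
      (by rwa [conj_orderOf]) (by simp [hM.1.ne_one]) e).2
    exact conj_eq_one_iff.1 h
  have hC : (Nat.card (Subgroup.centralizer ({x} : Set G)) : ℂ) =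
      Nat.card (cz x) := by
    have e : Subgroup.centralizer ({x} : Set G) = cz x :=
      Subgroup.ext fun g => (isCentr_singleton x g).trans (isCentr_zpowers x g).symm
    rw [e]
  have h1 : ∑ χ : IrrCharacter G, ∑ w ∈ regC p x,
      (χ : G → ℂ) (x * w) * conj (L w) * conj ((χ : G → ℂ) x) =
      (Nat.card (cz x) : ℂ) := by
    rw [← hC, Finset.sum_comm,
      Finset.sum_congr rfl fun w hw => show _ = conj (L w) * ∑ χ : IrrCharacter G,
        (χ : G → ℂ) (x * w) * conj ((χ : G → ℂ) x) by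
          rw [Finset.mul_sum]; exact Finset.sum_congr rfl fun χ _ => by ring,
      Finset.sum_congr rfl fun w hw => by rw [sum_irr_mul_conj (x * w) x],
      Finset.sum_eq_single_of_mem 1 (one_mem_regC hM.1 x)
        fun w hw hw1 => by rw [if_neg fun e => hw1 (hone w hw e), mul_zero]]
    rw [mul_one, if_pos (IsConj.refl x), D.lin.one, map_one, one_mul]
  rw [Finset.sum_congr rfl fun χ _ => by rw [← Finset.sum_mul, D.average hM χ]] at h1
  rw [eq_div_iff (D.card_ne hM), ← h1, mul_comm, Finset.mul_sum, ← sum_ind_mul]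
  exact Finset.sum_congr rfl fun χ _ => by ring

end CfsgLib.GW.Twist
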