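import Cfsg.Agent.Lib.GW.Reduction
import Cfsg.Agent.Lib.BSW.Dihedral
import Cfsg.Agent.Lib.Components
import Cfsg.Agent.S0514

/-!
Involution centralisers and four groups in groups with dihedral Sylow 2-subgroups.

* `GWDihedral.no_eight`: the 2-rank is two.
* `mem_coreC`: `O(C(t))` is the set of elements of odd order of `C(t)`; `centralizer_eq_core_mul`: `C(t) = O S`.
* `mem_coreT`, `centralizer_klein_eq`, `card_centralizer_klein`: `C(T) = T × C_O(T)`.
-/

set_option autoImplicit false
set_option linter.unusedSectionVars false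

namespace CfsgLib.GW

open Cfsg DihedralGroup
open CfsgLib.DihedralFusion

universe u

variable {X : Type u} [Group X] [Finite X]

/-- `O(C(t))` as a subgroup of the whole group. -/
def coreC (t : X) : Subgroup X :=
  (oddCore (Subgroup.centralizer ({t} : Set X))).map (Subgroup.centralizer ({t} : Set X)).subtype

/-- `O(C(T))` as a subgroup of the whole group. -/
def coreT (T : Subgroup X) : Subgroup X :=
  (oddCore (Subgroup.centralizer (T : Set X))).map (Subgroup.centralizer (T : Set X)).subtype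

/-- There is no elementary abelian subgroup of order eight. -/
theorem GWDihedral.no_eight (hX : GWDihedral X) {U : Subgroup X} (hU : IsKleinFour U) {c : X} (hc : orderOf c = 2)
    (hcU : ∀ u ∈ U, c * u = u * c) : c ∈ U := by
  haveI := hU
  by_contra hcn
  haveI : Fact (Nat.Prime 2) := ⟨Nat.prime_two⟩
  obtain ⟨S, n, hn, ⟨eS⟩⟩ := hX
  haveI : NeZero n := ⟨by omega⟩
  have hcc : c * c = 1 := Involutions.mul_self_eq_one_of_orderOf hc
  have hci : c⁻¹ = c := inv_eq_of_mul_eq_one_left hcc
  have hUsq : ∀ u ∈ U, u * u = 1 := fun u hu => congrArg Subtype.val (IsKleinFour.mul_self (⟨u, hu⟩ : U))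
  have hUcomm : ∀ u ∈ U, ∀ w ∈ U, u * w = w * u := fun u hu w hw => by
    haveI := IsKleinFour.isMulCommutative (G := U)
    exact setLike_mul_comm hu hw
  let E : Subgroup X :=
    { carrier := {x | x ∈ U ∨ c * x ∈ U}
      one_mem' := Or.inl (one_mem U)
      mul_mem' := by
        rintro a b (ha | ha) (hb | hb)
        · exact Or.inl (mul_mem ha hb)
        · refine Or.inr ?_
          rw [← mul_assoc, hcU a ha, mul_assoc]
          exact mul_mem ha hb
        · refine Or.inr ?_
          rw [← mul_assoc]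
          exact mul_mem ha hb
        · refine Or.inl ?_
          have : a * b = c * a * (c * b) := by
            rw [show a = c * (c * a) by rw [← mul_assoc, hcc, one_mul]]
            rw [show b = c * (c * b) by rw [← mul_assoc, hcc, one_mul]]
            calc c * (c * a) * (c * (c * b)) = c * ((c * a) * c) * (c * b) := by simp [mul_assoc]
              _ = c * (c * (c * a)) * (c * b) := by rw [← hcU _ ha]
              _ = _ := by simp [← mul_assoc, hcc]
          rw [this]
          exact mul_mem ha hb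
      inv_mem' := by
        rintro a (ha | ha)
        · exact Or.inl (inv_mem ha)
        · refine Or.inr ?_
          have h := hcU _ (inv_mem ha)
          rw [mul_inv_rev, hci] at h
          rw [show c * a⁻¹ = c * (a⁻¹ * c) * c by rw [mul_assoc, mul_assoc a⁻¹, hcc, mul_one], h, mul_assoc, hcc,
            mul_one]
          have h' := inv_mem ha
          rwa [mul_inv_rev, hci] at h' }
  have hmem : ∀ x ∈ E, ∃ u ∈ U, x = u ∨ x = c * u := by
    rintro x (hx | hx)
    · exact ⟨x, hx, Or.inl rfl⟩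
    · exact ⟨c * x, hx, Or.inr (by rw [← mul_assoc, hcc, one_mul])⟩
  have hsq : ∀ x ∈ E, x * x = 1 := by
    intro x hx
    obtain ⟨u, hu, rfl | rfl⟩ := hmem x hx
    · exact hUsq _ hu
    · calc c * u * (c * u) = c * (u * c) * u := by simp [mul_assoc]
        _ = c * (c * u) * u := by rw [hcU u hu]
        _ = u * u := by simp [← mul_assoc, hcc]
        _ = 1 := hUsq u hu
  have hE2 : IsPGroup 2 E := fun x => ⟨1, Subtype.ext (by
    show (x : X) ^ 2 ^ 1 = 1
    rw [pow_one, sq]; exact hsq _ x.2)⟩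
  have hcard : 5 ≤ Nat.card E := by
    have hlt : U < E := lt_of_le_of_ne (fun x hx => Or.inl hx) fun e => hcn (e ▸ Or.inr (hcc ▸ one_mem U))
    have hne : Nat.card U ≠ Nat.card E := fun e => hlt.ne (Subgroup.eq_of_le_of_card_ge hlt.le e.ge)
    have := Subgroup.card_le_of_le hlt.le
    rw [hU.card_four] at hne this
    omega
  obtain ⟨g, hg⟩ := exists_conj_le (S := S) hE2
  set Q := E.map (MulAut.conj g).toMonoidHom
  let e : E ≃* toD eS Q := (E.equivMapOfInjective _ (MulAut.conj g).injective).trans (equivD eS hg)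
  have hsq' : ∀ y : toD eS Q, y * y = 1 := fun y => by
    obtain ⟨x, rfl⟩ := e.surjective y
    rw [← map_mul, show x * x = 1 from Subtype.ext (hsq _ x.2), map_one]
  rw [Nat.card_congr e.toEquiv] at hcard
  rcases DihedralShape.subgroup_shape (toD eS Q) with h | ⟨k, hk, ⟨f⟩⟩
  · haveI := h
    obtain ⟨z, hz⟩ := IsCyclic.exists_generator (α := toD eS Q)
    have hcz : Nat.card (toD eS Q) = orderOf z := (orderOf_eq_card_of_forall_mem_zpowers hz).symm
    have := Nat.le_of_dvd two_pos (orderOf_dvd_of_pow_eq_one (by rw [sq]; exact hsq' z) : orderOf z ∣ 2)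
    omega
  · have h1 : (r 1 : DihedralGroup k) ^ 2 = 1 := by
      rw [sq, ← f.apply_symm_apply (r 1), ← map_mul, hsq', map_one]
    have := Nat.le_of_dvd two_pos (orderOf_dvd_of_pow_eq_one h1)
    rw [orderOf_r_one] at this
    rw [Nat.card_congr f.toEquiv, DihedralGroup.nat_card] at hcard
    omega

/-- Overgroups of nontrivial perfect subgroups have dihedral Sylow 2-subgroups. -/
theorem GWDihedral.of_perfect_sub (hX : GWDihedral X) (H : Subgroup X) (L : Subgroup H) [Group.IsPerfect L]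
    (hL : L ≠ ⊥) : GWDihedral H := by
  haveI : Fact (Nat.Prime 2) := ⟨Nat.prime_two⟩
  obtain ⟨P⟩ : Nonempty (Sylow 2 H) := inferInstance
  refine (hX.sub_shape P).resolve_left fun hc => ?_
  haveI := hc
  haveI : Group.IsPerfect (L.map H.subtype) := Group.IsPerfect.map H.subtype
  have hL' : GWDihedral (L.map H.subtype) :=
    hX.perfect_sub _ fun e => hL ((Subgroup.map_eq_bot_iff_of_injective _ H.subtype_injective).mp e)
  obtain ⟨Q, k, hk, ⟨eQ⟩⟩ := hL'
  haveI : NeZero k := ⟨by omega⟩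
  let j : L.map H.subtype →* H := Subgroup.inclusion (Subgroup.map_subtype_le L)
  obtain ⟨g, hg⟩ := exists_conj_le (S := P) (Q.2.map j)
  let f : (Q : Subgroup (L.map H.subtype)) →* (P : Subgroup H) :=
    (((MulAut.conj g).toMonoidHom.comp j).comp (Q : Subgroup (L.map H.subtype)).subtype).codRestrict _
      fun x => hg ⟨j x, ⟨x, x.2, rfl⟩, rfl⟩
  have hf : Function.Injective f := fun a b hab => by
    have h := (MulAut.conj g).injective (congrArg Subtype.val hab)
    exact Subtype.ext (Subgroup.inclusion_injective _ h)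
  haveI : IsCyclic (Q : Subgroup (L.map H.subtype)) := isCyclic_of_injective f hf
  haveI : IsCyclic (DihedralGroup k) := isCyclic_of_surjective eQ.toMonoidHom eQ.surjective
  exact DihedralGroup.not_isCyclic (show k ≠ 1 by omega) inferInstance

theorem oddCore_index_two_pow (hX : GWDihedral X) {t : X} (ht : orderOf t = 2)
    (H : Subgroup X) (hH : H ≤ Subgroup.centralizer ({t} : Set X)) : ∃ k : ℕ, (oddCore H).index = 2 ^ k := by
  obtain ⟨S, n, hn, hS⟩ := hX
  set C := Subgroup.centralizer ({t} : Set X)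
  obtain ⟨N, hN, hNodd, k, hk⟩ : ∃ N : Subgroup C, N.Normal ∧ Odd (Nat.card N) ∧ ∃ k : ℕ, N.index = 2 ^ k :=
    Cfsg.Agent.S0514.result S n hn hS t ht
  haveI := hN
  set j : H →* C := Subgroup.inclusion hH
  have hM : (N.comap j) ≤ oddCore H := CfsgLib.le_oddCore (hNodd.of_dvd_nat
    (Subgroup.card_dvd_of_injective (j.subgroupComap N) fun a b e =>
      Subtype.ext (Subgroup.inclusion_injective hH (congrArg Subtype.val e))))
  have h1 : (oddCore H).index ∣ 2 ^ k := by
    refine (Subgroup.index_dvd_of_le hM).trans ?_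
    rw [Subgroup.index_comap, ← hk]
    exact Subgroup.relIndex_dvd_index_of_normal N j.range
  obtain ⟨l, -, hl⟩ := (Nat.dvd_prime_pow Nat.prime_two).mp h1
  exact ⟨l, hl⟩

theorem mem_oddCore_of_odd {H : Subgroup X} {k : ℕ} (hk : (oddCore H).index = 2 ^ k) (x : H)
    (hx : Odd (orderOf x)) : x ∈ oddCore H := by
  have h1 : orderOf ((QuotientGroup.mk' (oddCore H)) x) ∣ 2 ^ k := hk ▸ orderOf_dvd_natCard _
  have h2 := orderOf_map_dvd (QuotientGroup.mk' (oddCore H)) x
  have h3 := Nat.eq_one_of_dvd_coprimes (Nat.Coprime.pow_left k (Nat.coprime_two_left.mpr hx)) h1 h2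
  exact (QuotientGroup.eq_one_iff x).mp (orderOf_eq_one_iff.mp h3)

/-- `O(C(t))` consists of the elements of odd order of `C(t)`. -/
theorem mem_coreC (hX : GWDihedral X) {t : X} (ht : orderOf t = 2) {x : X} :
    x ∈ coreC t ↔ x * t = t * x ∧ Odd (orderOf x) := by
  constructor
  · rintro ⟨y, hy, rfl⟩
    refine ⟨Subgroup.mem_centralizer_singleton_iff.mp y.2, ?_⟩
    show Odd (orderOf (y : X))
    rw [Subgroup.orderOf_coe]
    exact CfsgLib.odd_card_oddCore.of_dvd_nat (Subgroup.orderOf_dvd_natCard _ hy)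
  · rintro ⟨hc, ho⟩
    obtain ⟨k, hk⟩ := oddCore_index_two_pow hX ht _ (le_refl (Subgroup.centralizer ({t} : Set X)))
    exact ⟨⟨x, Subgroup.mem_centralizer_singleton_iff.mpr hc⟩,
      mem_oddCore_of_odd hk _ (by rwa [Subgroup.orderOf_mk]), rfl⟩

/-- The core of an involution centraliser is equivariant. -/
theorem map_coreC (hX : GWDihedral X) {t : X} (ht : orderOf t = 2) (g : X) :
    (coreC t).map (MulAut.conj g).toMonoidHom = coreC (g * t * g⁻¹) := by
  have ht' : orderOf (g * t * g⁻¹) = 2 := (MulEquiv.orderOf_eq (MulAut.conj g) t).trans ht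
  ext x
  rw [Subgroup.mem_map_equiv, mem_coreC hX ht, mem_coreC hX ht', MulAut.conj_symm_apply]
  have he : orderOf (g⁻¹ * x * g) = orderOf x := by
    simpa using MulEquiv.orderOf_eq (MulAut.conj g⁻¹) x
  rw [he]
  constructor
  · rintro ⟨h, ho⟩
    refine ⟨?_, ho⟩
    calc x * (g * t * g⁻¹) = g * (g⁻¹ * x * g * t) * g⁻¹ := by group
      _ = g * (t * (g⁻¹ * x * g)) * g⁻¹ := by rw [h]
      _ = g * t * g⁻¹ * x := by group
  · rintro ⟨h, ho⟩
    refine ⟨?_, ho⟩
    calc g⁻¹ * x * g * t = g⁻¹ * (x * (g * t * g⁻¹)) * g := by group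
      _ = g⁻¹ * (g * t * g⁻¹ * x) * g := by rw [h]
      _ = t * (g⁻¹ * x * g) := by group

theorem eq_top_of_dvd_two_pow_of_odd {A : Type*} [Group A] {K : Subgroup A} {k : ℕ} (h : K.index ∣ 2 ^ k)
    (hodd : ¬ 2 ∣ K.index) : K = ⊤ := by
  obtain ⟨l, -, hl⟩ := (Nat.dvd_prime_pow Nat.prime_two).mp h
  rcases l with _ | l
  · exact Subgroup.index_eq_one.mp (hl.trans (pow_zero 2))
  · exact absurd (hl ▸ dvd_pow_self 2 (Nat.succ_ne_zero l)) hodd

/-- `C(t) = O(C(t)) S` when `t` is central in the Sylow subgroup `S`. -/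
theorem centralizer_eq_core_mul (hX : GWDihedral X) (S : Sylow 2 X) {t : X} (ht : orderOf t = 2)
    (htZ : ∀ s ∈ (S : Subgroup X), s * t = t * s) {c : X} (hc : c * t = t * c) :
    ∃ y ∈ coreC t, ∃ s ∈ (S : Subgroup X), c = y * s := by
  haveI : Fact (Nat.Prime 2) := ⟨Nat.prime_two⟩
  set C := Subgroup.centralizer ({t} : Set X) with hC
  have hSC : (S : Subgroup X) ≤ C := fun s hs => Subgroup.mem_centralizer_singleton_iff.mpr (htZ s hs)
  obtain ⟨k, hk⟩ := oddCore_index_two_pow hX ht C le_rfl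
  let S' : Sylow 2 C := S.subtype hSC
  have htop : oddCore C ⊔ (S' : Subgroup C) = ⊤ :=
    eq_top_of_dvd_two_pow_of_odd (k := k) (hk ▸ Subgroup.index_dvd_of_le le_sup_left)
      fun h => S'.not_dvd_index (h.trans (Subgroup.index_dvd_of_le le_sup_right))
  have hmem : (⟨c, Subgroup.mem_centralizer_singleton_iff.mpr hc⟩ : C) ∈ oddCore C ⊔ (S' : Subgroup C) :=
    htop ▸ Subgroup.mem_top _
  obtain ⟨a, ha, b, hb, hab⟩ := Subgroup.mem_sup_of_normal_left.mp hmem
  exact ⟨a, ⟨a, ha, rfl⟩, b, Subgroup.mem_subgroupOf.mp hb, (congrArg Subtype.val hab).symm⟩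

theorem mem_centralizer_involution {T : Subgroup X} {t : X} (htT : t ∈ T) {c : X}
    (hc : c ∈ Subgroup.centralizer (T : Set X)) : c ∈ Subgroup.centralizer ({t} : Set X) :=
  Subgroup.mem_centralizer_singleton_iff.mpr (Subgroup.mem_centralizer_iff.mp hc t htT).symm

theorem exists_involution_klein {T : Subgroup X} (hT : IsKleinFour T) : ∃ t ∈ T, orderOf t = 2 := by
  haveI : Fact (Nat.Prime 2) := ⟨Nat.prime_two⟩
  obtain ⟨x, hx⟩ := exists_prime_orderOf_dvd_card' (G := T) 2 (by rw [hT.card_four]; norm_num)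
  exact ⟨x, x.2, by rwa [Subgroup.orderOf_coe]⟩

/-- `O(C(T))` consists of the elements of odd order of `C(T)`. -/
theorem mem_coreT (hX : GWDihedral X) {T : Subgroup X} (hT : IsKleinFour T) {x : X} :
    x ∈ coreT T ↔ x ∈ Subgroup.centralizer (T : Set X) ∧ Odd (orderOf x) := by
  obtain ⟨t, htT, ht⟩ := exists_involution_klein hT
  constructor
  · rintro ⟨y, hy, rfl⟩
    refine ⟨y.2, ?_⟩
    show Odd (orderOf (y : X))
    rw [Subgroup.orderOf_coe]
    exact CfsgLib.odd_card_oddCore.of_dvd_nat (Subgroup.orderOf_dvd_natCard _ hy)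
  · rintro ⟨hc, ho⟩
    obtain ⟨k, hk⟩ := oddCore_index_two_pow hX ht (Subgroup.centralizer (T : Set X))
      fun c hc => mem_centralizer_involution htT hc
    exact ⟨⟨x, hc⟩, mem_oddCore_of_odd hk _ (by rwa [Subgroup.orderOf_mk]), rfl⟩

/-- `O(C(T)) = C(T) ∩ O(C(t))` for every involution `t` of `T`. -/
theorem coreT_eq (hX : GWDihedral X) {T : Subgroup X} (hT : IsKleinFour T) {t : X} (htT : t ∈ T)
    (ht : orderOf t = 2) : coreT T = Subgroup.centralizer (T : Set X) ⊓ coreC t := by
  ext x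
  rw [Subgroup.mem_inf, mem_coreT hX hT, mem_coreC hX ht]
  exact ⟨fun ⟨h, ho⟩ => ⟨h, (Subgroup.mem_centralizer_iff.mp h t htT).symm, ho⟩, fun ⟨h, _, ho⟩ => ⟨h, ho⟩⟩

/-- A four group is a Sylow 2-subgroup of its centraliser. -/
theorem sylow_centralizer_klein (hX : GWDihedral X) {T : Subgroup X} (hT : IsKleinFour T)
    (P : Sylow 2 (Subgroup.centralizer (T : Set X))) :
    (P : Subgroup (Subgroup.centralizer (T : Set X))).map (Subgroup.centralizer (T : Set X)).subtype = T := by
  haveI : Fact (Nat.Prime 2) := ⟨Nat.prime_two⟩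
  revert P
  set C := Subgroup.centralizer (T : Set X)
  intro P
  have hTC : T ≤ C := le_centralizer_klein hT
  set T' : Subgroup C := T.subgroupOf C
  haveI hTn : T'.Normal := ⟨fun a ha g => by
    rw [Subgroup.mem_subgroupOf] at ha ⊢
    have := Subgroup.mem_centralizer_iff.mp g.2 (a : X) ha
    show (g : X) * a * (g : X)⁻¹ ∈ T
    rwa [← this, mul_inv_cancel_right]⟩
  let eT : T' ≃* T := Subgroup.subgroupOfEquivOfLe hTC
  have hT' : IsKleinFour T' := by haveI := hT; exact isKleinFour_of_equiv eT.symm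
  have hTp : IsPGroup 2 T' := isPGroup_klein hT'
  obtain ⟨Q, hQ⟩ := hTp.exists_le_sylow
  obtain ⟨g, hg⟩ := MulAction.exists_smul_eq C Q P
  have hTP : T' ≤ (P : Subgroup C) := fun a ha => by
    rw [← hg, Sylow.coe_subgroup_smul]
    have h1 : g⁻¹ * a * g ∈ T' := by simpa using hTn.conj_mem a ha g⁻¹
    have h2 := Subgroup.smul_mem_pointwise_smul _ (MulAut.conj g) _ (hQ h1)
    simpa [mul_assoc] using h2
  suffices hcard : Nat.card (P : Subgroup C) = 4 by
    have : (P : Subgroup C) = T' :=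
      (Subgroup.eq_of_le_of_card_ge hTP (by rw [hcard, hT'.card_four])).symm
    rw [this, Subgroup.subgroupOf_map_subtype, inf_eq_left.mpr hTC]
  rcases hX.sub_shape P with hc | ⟨Q', k, hk, ⟨eQ⟩⟩
  · haveI := hc
    haveI : IsCyclic T' := isCyclic_of_injective (Subgroup.inclusion hTP) (Subgroup.inclusion_injective hTP)
    exact absurd (inferInstance : IsCyclic T') (IsKleinFour.not_isCyclic (G := T'))
  · let eP : (P : Subgroup C) ≃* DihedralGroup k := (Sylow.equiv P Q').trans eQ
    by_cases h2 : k = 2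
    · rw [Nat.card_congr eP.toEquiv, DihedralGroup.nat_card, h2]
    exfalso
    have hcen : ∀ a ∈ T', ∀ x ∈ (P : Subgroup C), x * a = a * x := fun a ha x _ =>
      Subtype.ext (Subgroup.mem_centralizer_iff.mp x.2 (a : X) ha).symm
    haveI := hT'
    obtain ⟨a, ha⟩ : ∃ a : T', a ≠ 1 := by
      haveI : Nontrivial T' := Finite.one_lt_card_iff_nontrivial.mp (by rw [IsKleinFour.card_four]; norm_num)
      exact exists_ne 1
    obtain ⟨b, hb1, hba⟩ : ∃ b : T', b ≠ 1 ∧ b ≠ a := by
      classical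
      haveI := Fintype.ofFinite T'
      have h4 : Fintype.card T' = 4 := by rw [← Nat.card_eq_fintype_card, IsKleinFour.card_four]
      obtain ⟨b, -, hb⟩ := Finset.exists_mem_notMem_of_card_lt_card (s := ({1, a} : Finset T')) (t := Finset.univ)
        (by rw [Finset.card_univ, h4]; exact lt_of_le_of_lt (Finset.card_insert_le _ _) (by simp))
      simp only [Finset.mem_insert, Finset.mem_singleton, not_or] at hb
      exact ⟨b, hb.1, hb.2⟩
    have ho : ∀ z : T', z ≠ 1 → orderOf (z : C) = 2 := fun z hz => by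
      rw [Subgroup.orderOf_coe]
      exact orderOf_eq_prime (by rw [sq]; exact IsKleinFour.mul_self z) hz
    have e1 := CfsgLib.BSW.central_shape eP hk h2 (hTP a.2) (ho a ha) (fun x hx => hcen _ a.2 x hx)
    have e2 := CfsgLib.BSW.central_shape eP hk h2 (hTP b.2) (ho b hb1) (fun x hx => hcen _ b.2 x hx)
    have e3 := congrArg Subtype.val (eP.injective (e2.trans e1.symm))
    exact hba (Subtype.ext e3)

/-- `C(T) = T × O(C(T))`. -/
theorem centralizer_klein_eq (hX : GWDihedral X) {T : Subgroup X} (hT : IsKleinFour T) {c : X}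
    (hc : c ∈ Subgroup.centralizer (T : Set X)) : ∃ a ∈ T, ∃ x ∈ coreT T, c = a * x := by
  haveI : Fact (Nat.Prime 2) := ⟨Nat.prime_two⟩
  set C := Subgroup.centralizer (T : Set X)
  obtain ⟨t, htT, ht⟩ := exists_involution_klein hT
  obtain ⟨k, hk⟩ := oddCore_index_two_pow hX ht C fun c hc => mem_centralizer_involution htT hc
  obtain ⟨P⟩ : Nonempty (Sylow 2 C) := inferInstance
  have hP := sylow_centralizer_klein hX hT P
  have htop : oddCore C ⊔ (P : Subgroup C) = ⊤ :=
    eq_top_of_dvd_two_pow_of_odd (k := k) (hk ▸ Subgroup.index_dvd_of_le le_sup_left)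
      fun h => P.not_dvd_index (h.trans (Subgroup.index_dvd_of_le le_sup_right))
  have hmem : (⟨c, hc⟩ : C) ∈ oddCore C ⊔ (P : Subgroup C) := htop ▸ Subgroup.mem_top _
  obtain ⟨x, hx, a, ha, hxa⟩ := Subgroup.mem_sup_of_normal_left.mp hmem
  have haT : (a : X) ∈ T := hP ▸ ⟨a, ha, rfl⟩
  refine ⟨a, haT, x, ⟨x, hx, rfl⟩, ?_⟩
  have e : (x : X) * a = c := congrArg Subtype.val hxa
  rw [← e]
  exact (Subgroup.mem_centralizer_iff.mp x.2 (a : X) haT).symm

theorem card_centralizer_klein (hX : GWDihedral X) {T : Subgroup X} (hT : IsKleinFour T) :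
    Nat.card (Subgroup.centralizer (T : Set X)) = 4 * Nat.card (coreT T) := by
  haveI := hT
  set C := Subgroup.centralizer (T : Set X)
  have hodd : ∀ x ∈ coreT T, x ∈ T → x = 1 := fun x hx hxT => by
    have h1 : orderOf x ∣ 2 := orderOf_dvd_of_pow_eq_one (by
      rw [sq]; exact congrArg Subtype.val (IsKleinFour.mul_self (⟨x, hxT⟩ : T)))
    have h2 := ((mem_coreT hX hT).mp hx).2
    exact orderOf_eq_one_iff.mp (Nat.eq_one_of_dvd_coprimes (Nat.coprime_two_left.mpr h2) h1 dvd_rfl)
  let f : T × coreT T → C := fun p =>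
    ⟨(p.1 : X) * (p.2 : X), mul_mem (le_centralizer_klein hT p.1.2) ((mem_coreT hX hT).mp p.2.2).1⟩
  have hf : Function.Bijective f := by
    refine ⟨fun p q h => ?_, fun c => ?_⟩
    · have h' : (p.1 : X) * p.2 = (q.1 : X) * q.2 := congrArg Subtype.val h
      have e : (q.1 : X)⁻¹ * p.1 = (q.2 : X) * (p.2 : X)⁻¹ := by
        rw [eq_mul_inv_iff_mul_eq, mul_assoc, h', inv_mul_cancel_left]
      have e1 := hodd _ (e ▸ mul_mem q.2.2 (inv_mem p.2.2)) (mul_mem (inv_mem q.1.2) p.1.2)
      rw [inv_mul_eq_one] at e1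
      rw [e1] at h'
      exact Prod.ext (Subtype.ext e1.symm) (Subtype.ext (mul_left_cancel h'))
    · obtain ⟨a, ha, x, hx, e⟩ := centralizer_klein_eq hX hT c.2
      exact ⟨(⟨a, ha⟩, ⟨x, hx⟩), Subtype.ext e.symm⟩
  rw [← Nat.card_eq_of_bijective f hf, Nat.card_prod, hT.card_four]

end CfsgLib.GW
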