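import Cfsg.Agent.Lib.Blocks.MaxPairs
import Cfsg.Agent.Lib.Blocks.FongLocal
import Cfsg.Agent.Lib.Blocks.BlockFusion
import Cfsg.Agent.Lib.CharTheory.AbelianInertia
import Cfsg.Agent.Lib.Blocks.PrincipalLinear

/-!
# Twisting principal Brauer pairs by a linear character of a subgroup

A linear character `L` of a subgroup `H` carries principal pairs with centraliser in `H` to pairs
with the same inclusions; the twisted pair is the one whose block contains the restriction of `L`.
-/

namespace CfsgLib.GW.Twist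

open Cfsg CfsgLib.CharTheory CfsgLib.Blocks
open scoped ComplexConjugate

set_option linter.unusedVariables false
set_option linter.style.haveILetI false
set_option linter.unusedSectionVars false

universe u

variable {G : Type u} [Group G] [Fintype G] {p : ℕ} {M : Ideal AlgInt}

/-- `L` is multiplicative on `H`. -/
structure LinOn (H : Subgroup G) (L : G → ℂ) : Prop where
  one : L 1 = 1
  mul : ∀ a ∈ H, ∀ b ∈ H, L (a * b) = L a * L b

variable {H : Subgroup G} {L : G → ℂ}

theorem LinOn.pow (hL : LinOn H L) {a : G} (ha : a ∈ H) (n : ℕ) : L (a ^ n) = L a ^ n := by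
  induction n with
  | zero => simp [hL.one]
  | succ n ih => rw [pow_succ, hL.mul _ (pow_mem ha n) _ ha, ih, pow_succ]

theorem LinOn.ne_zero (hL : LinOn H L) {a : G} (ha : a ∈ H) : L a ≠ 0 := fun e => by
  have h := hL.pow ha (orderOf a)
  rw [pow_orderOf_eq_one, hL.one, e, zero_pow (orderOf_pos a).ne'] at h
  exact one_ne_zero h

theorem LinOn.map_inv (hL : LinOn H L) {a : G} (ha : a ∈ H) : L a⁻¹ = (L a)⁻¹ := by
  refine eq_inv_of_mul_eq_one_left ?_
  rw [← hL.mul _ (inv_mem ha) _ ha, inv_mul_cancel, hL.one]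

theorem LinOn.conj_inv (hL : LinOn H L) {a : G} (ha : a ∈ H) : conj (L a) * L a = 1 := by
  have h : L a ^ orderOf a = 1 := by rw [← hL.pow ha, pow_orderOf_eq_one, hL.one]
  have hn := Complex.norm_eq_one_of_pow_eq_one h (orderOf_pos a).ne'
  rw [mul_comm, Complex.mul_conj', hn]; norm_num

theorem LinOn.conj_eq (hL : LinOn H L) {a : G} (ha : a ∈ H) : conj (L a) = L a⁻¹ := by
  rw [hL.map_inv ha]
  exact eq_inv_of_mul_eq_one_left (hL.conj_inv ha)

theorem LinOn.conjugate (hL : LinOn H L) {x k : G} (hx : x ∈ H) (hk : k ∈ H) :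
    L (x * k * x⁻¹) = L k := by
  rw [hL.mul _ (mul_mem hx hk) _ (inv_mem hx), hL.mul _ hx _ hk, hL.map_inv hx]
  have := hL.ne_zero hx
  field_simp

/-- The inverse character. -/
theorem LinOn.inverse (hL : LinOn H L) : LinOn H (fun g => (L g)⁻¹) where
  one := by simp [hL.one]
  mul a ha b hb := by simp only [hL.mul a ha b hb, mul_inv]

/-- The trivial character. -/
theorem linOn_one : LinOn H (fun _ => (1 : ℂ)) := ⟨rfl, fun _ _ _ _ => (one_mul 1).symm⟩

variable {K : Subgroup G}

/-- The restriction as a homomorphism. -/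
noncomputable def LinOn.hom (hL : LinOn H L) (hK : K ≤ H) : K →* ℂˣ where
  toFun k := Units.mk0 (L k) (hL.ne_zero (hK k.2))
  map_one' := Units.ext hL.one
  map_mul' a b := Units.ext (hL.mul _ (hK a.2) _ (hK b.2))

theorem LinOn.hom_apply (hL : LinOn H L) (hK : K ≤ H) (k : K) : (hL.hom hK k : ℂ) = L k := rfl

/-- The twist of an irreducible character. -/
noncomputable def twIrr (hL : LinOn H L) (hK : K ≤ H) (ξ : IrrCharacter K) : IrrCharacter K :=
  ⟨fun k => L k * (ξ : K → ℂ) k, by
    haveI := Fintype.ofFinite K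
    have h := isIrrCharacter_mul_linear ξ.2 (isIrrCharacter_linear (hL.hom hK))
      (by simp [LinOn.hom, hL.one])
    convert h using 1
    funext k
    rw [Pi.mul_apply, mul_comm]
    rfl⟩

theorem twIrr_apply (hL : LinOn H L) (hK : K ≤ H) (ξ : IrrCharacter K) (k : K) :
    (twIrr hL hK ξ : K → ℂ) k = L k * (ξ : K → ℂ) k := rfl

theorem twIrr_one (hL : LinOn H L) (hK : K ≤ H) (ξ : IrrCharacter K) :
    (twIrr hL hK ξ : K → ℂ) 1 = (ξ : K → ℂ) 1 := by
  rw [twIrr_apply, Subgroup.coe_one, hL.one, one_mul]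

theorem twIrr_inverse (hL : LinOn H L) (hK : K ≤ H) (ξ : IrrCharacter K) :
    twIrr hL hK (twIrr hL.inverse hK ξ) = ξ := Subtype.ext (funext fun k => by
  rw [twIrr_apply, twIrr_apply, ← mul_assoc, mul_inv_cancel₀ (hL.ne_zero (hK k.2)), one_mul])

theorem twIrr_injective (hL : LinOn H L) (hK : K ≤ H) : Function.Injective (twIrr (K := K) hL hK) :=
  fun a b h => Subtype.ext (funext fun k => by
    have := congrFun (congrArg Subtype.val h) k
    exact mul_left_cancel₀ (hL.ne_zero (hK k.2)) this)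

theorem memRing_L (hM : IsPModular p M) (hL : LinOn H L) (hK : K ≤ H) (k : K) :
    MemLocalRing M (L k) := by
  haveI := Fintype.ofFinite K
  exact memRing_irr hM (⟨_, isIrrCharacter_linear (hL.hom hK)⟩ : IrrCharacter K) k

theorem sameBlock_twist (hM : IsPModular p M) (hL : LinOn H L) (hK : K ≤ H) {χ ψ : IrrCharacter K}
    (h : SameBlock M (χ : K → ℂ) (ψ : K → ℂ)) :
    SameBlock M (twIrr hL hK χ : K → ℂ) (twIrr hL hK ψ : K → ℂ) := by
  intro g
  have e : centralChar (twIrr hL hK χ : K → ℂ) g - centralChar (twIrr hL hK ψ : K → ℂ) g =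
      L g * (centralChar (χ : K → ℂ) g - centralChar (ψ : K → ℂ) g) := by
    simp only [centralChar, twIrr_one]
    rw [twIrr_apply, twIrr_apply]
    ring
  rw [e]
  exact memIdeal_mul_left hM (memRing_L hM hL hK g) (h g)

/-- The twist of a set of characters. -/
noncomputable def twSet (hL : LinOn H L) (hK : K ≤ H) (f : Set (IrrCharacter K)) :
    Set (IrrCharacter K) := twIrr hL hK '' f

theorem isPBlock_twSet (hM : IsPModular p M) (hL : LinOn H L) (hK : K ≤ H)
    {f : Set (IrrCharacter K)} (hf : IsPBlock M f) : IsPBlock M (twSet hL hK f) := by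
  obtain ⟨χ, rfl⟩ := hf
  refine ⟨twIrr hL hK χ, Set.ext fun ψ => ⟨?_, fun h => ?_⟩⟩
  · rintro ⟨φ, hφ, rfl⟩
    exact sameBlock_twist hM hL hK hφ
  · refine ⟨twIrr hL.inverse hK ψ, ?_, twIrr_inverse hL hK ψ⟩
    have h' := sameBlock_twist hM hL.inverse hK (χ := twIrr hL hK χ) h
    have e : (twIrr hL.inverse hK (twIrr hL hK χ) : K → ℂ) = (χ : K → ℂ) := funext fun k => by
      rw [twIrr_apply, twIrr_apply, ← mul_assoc, inv_mul_cancel₀ (hL.ne_zero (hK k.2)), one_mul]
    rw [e] at h'
    exact h'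

theorem blockCoeff_twSet (hL : LinOn H L) (hK : K ≤ H) (f : Set (IrrCharacter K)) (k : K) :
    blockCoeff (twSet hL hK f) k = conj (L k) * blockCoeff f k := by
  simp only [blockCoeff, twSet]
  rw [finsum_mem_image (twIrr_injective hL hK).injOn]
  have hsum : ∀ r : IrrCharacter K → ℂ, ∑ᶠ ξ ∈ f, r ξ = ∑ ξ ∈ (Set.toFinite f).toFinset, r ξ :=
    fun r => finsum_mem_eq_finite_toFinset_sum r _
  rw [hsum, hsum]
  simp only [Finset.mul_sum]
  refine Finset.sum_congr rfl fun ξ _ => ?_
  rw [twIrr_one, twIrr_apply, map_mul]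
  ring

/-- The twist of a pair with centraliser in `H`. -/
noncomputable def twIdx (hL : LinOn H L) (a : BrauerPairIdx G)
    (h : Subgroup.centralizer (a.1 : Set G) ≤ H) : BrauerPairIdx G :=
  ⟨a.1, twSet hL h a.2⟩

theorem normalSubpair_twist (hM : IsPModular p M) (hL : LinOn H L) {a b : BrauerPairIdx G}
    (hab : NormalSubpairRel p M a b) (ha : Subgroup.centralizer (a.1 : Set G) ≤ H)
    (hb : Subgroup.centralizer (b.1 : Set G) ≤ H) (hbH : b.1 ≤ H) :
    NormalSubpairRel p M (twIdx hL a ha) (twIdx hL b hb) := by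
  obtain ⟨Q, f⟩ := a
  obtain ⟨P, e⟩ := b
  obtain ⟨⟨hQp, hf⟩, ⟨hPp, he⟩, hQP, hN, hst, h1⟩ := hab
  refine ⟨⟨hQp, isPBlock_twSet hM hL ha hf⟩, ⟨hPp, isPBlock_twSet hM hL hb he⟩, hQP, hN,
    fun x hx => ⟨(hst x hx).1, ?_⟩, ?_⟩
  · rintro _ ⟨χ, hχ, rfl⟩
    obtain ⟨χ', hχ', hc⟩ := (hst x hx).2 χ hχ
    refine ⟨twIrr hL ha χ', ⟨χ', hχ', rfl⟩, fun k k' hk => ?_⟩
    show L k' * (χ' : Subgroup.centralizer (Q : Set G) → ℂ) k' = L k * (χ : Subgroup.centralizer (Q : Set G) → ℂ) k
    rw [hc k k' hk, hk, hL.conjugate (hbH hx) (ha k.2)]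
  · rintro _ ⟨ξ, hξ, rfl⟩
    have e : brauerOmega P (subgroupBlockCoeff (Subgroup.centralizer (Q : Set G))
          (twSet hL ha f)) (twIrr hL hb ξ : _ → ℂ) =
        brauerOmega P (subgroupBlockCoeff (Subgroup.centralizer (Q : Set G)) f)
          (ξ : Subgroup.centralizer (P : Set G) → ℂ) := by
      simp only [brauerOmega, twIrr_one]
      refine finsum_congr fun c => ?_
      have hc : (c : G) ∈ Subgroup.centralizer (Q : Set G) := centralizer_anti hQP c.2
      have e1 := sext_coe (Subgroup.centralizer (Q : Set G)) (blockCoeff (twSet hL ha f)) ⟨c, hc⟩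
      have e2 := sext_coe (Subgroup.centralizer (Q : Set G)) (blockCoeff f) ⟨c, hc⟩
      rw [subgroupBlockCoeff_eq, subgroupBlockCoeff_eq, twIrr_apply]
      simp only at e1 e2
      rw [e1, e2, blockCoeff_twSet]
      have := hL.conj_inv (hb c.2)
      linear_combination
        (blockCoeff f ⟨c, hc⟩ * (ξ : Subgroup.centralizer (P : Set G) → ℂ) c /
          (ξ : Subgroup.centralizer (P : Set G) → ℂ) 1) * this
    have h1' := h1 ξ hξ
    rw [← e] at h1'
    exact h1'

theorem subpair_twist (hM : IsPModular p M) (hL : LinOn H L) {a b : BrauerPairIdx G}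
    (hab : Relation.ReflTransGen (NormalSubpairRel p M) a b)
    (ha : Subgroup.centralizer (a.1 : Set G) ≤ H)
    (hb : Subgroup.centralizer (b.1 : Set G) ≤ H) (hbH : b.1 ≤ H) :
    Relation.ReflTransGen (NormalSubpairRel p M) (twIdx hL a ha) (twIdx hL b hb) := by
  induction hab using Relation.ReflTransGen.head_induction_on with
  | refl => exact Relation.ReflTransGen.refl
  | head h1 h2 ih =>
    rename_i a c
    have hc : Subgroup.centralizer (c.1 : Set G) ≤ H := (centralizer_anti h1.2.2.1).trans ha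
    exact Relation.ReflTransGen.head
      (normalSubpair_twist hM hL h1 ha hc ((subpairLE_le h2).trans hbH)) (ih hc)

/-- The pair carries the restriction of `L`. -/
def IsLin (L : G → ℂ) (a : BrauerPairIdx G) : Prop :=
  ∃ ξ ∈ a.2, ∀ k : Subgroup.centralizer (a.1 : Set G),
    (ξ : Subgroup.centralizer (a.1 : Set G) → ℂ) k = L k

/-- The twisted principal pair. -/
noncomputable def linPair (M : Ideal AlgInt) (hL : LinOn H L) (Q : Subgroup G)
    (h : Subgroup.centralizer (Q : Set G) ≤ H) : BrauerPairIdx G :=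
  twIdx hL ⟨Q, principalBlock M (Subgroup.centralizer (Q : Set G))⟩ h

theorem linPair_lin (hM : IsPModular p M) (hL : LinOn H L) {Q : Subgroup G}
    (h : Subgroup.centralizer (Q : Set G) ≤ H) : IsLin L (linPair M hL Q h) := by
  letI := Fintype.ofFinite (Subgroup.centralizer (Q : Set G))
  show ∃ ξ ∈ twSet hL h (principalBlock M (Subgroup.centralizer (Q : Set G))),
    ∀ k : Subgroup.centralizer (Q : Set G), (ξ : Subgroup.centralizer (Q : Set G) → ℂ) k = L k
  exact ⟨twIrr hL h (oneIrr _), ⟨_, oneIrr_mem hM, rfl⟩, fun k => mul_one _⟩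

theorem linPair_block (hM : IsPModular p M) (hL : LinOn H L) {Q : Subgroup G}
    (h : Subgroup.centralizer (Q : Set G) ≤ H) :
    IsPBlock M (linPair M hL Q h).2 := by
  haveI := Fintype.ofFinite (Subgroup.centralizer (Q : Set G))
  exact isPBlock_twSet hM hL h principalBlock_isPBlock

theorem isLin_unique (hM : IsPModular p M) {a b : BrauerPairIdx G} (h : a.1 = b.1)
    (ha : IsPBlock M a.2) (hb : IsPBlock M b.2) (hla : IsLin L a) (hlb : IsLin L b) : a = b := by
  obtain ⟨Q, f⟩ := a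
  obtain ⟨Q', f'⟩ := b
  change Q = Q' at h
  subst h
  obtain ⟨ξ, hξ, hv⟩ := hla
  obtain ⟨ξ', hξ', hv'⟩ := hlb
  haveI := Fintype.ofFinite (Subgroup.centralizer (Q : Set G))
  obtain rfl : ξ = ξ' := Subtype.ext (funext fun k => (hv k).trans (hv' k).symm)
  exact congrArg _ ((eq_blockOf hM ha hξ).trans (eq_blockOf hM hb hξ').symm)

theorem eq_linPair (hM : IsPModular p M) (hL : LinOn H L) {a : BrauerPairIdx G}
    (ha : IsPBlock M a.2) (hla : IsLin L a) (h : Subgroup.centralizer (a.1 : Set G) ≤ H) :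
    a = linPair M hL a.1 h :=
  isLin_unique hM rfl ha (linPair_block hM hL h) hla (linPair_lin hM hL h)

theorem linPair_subpair (hM : IsPModular p M) (hL : LinOn H L) {Q P : Subgroup G}
    (hP : IsPGroup p P) (hQP : Q ≤ P) (hQ : Subgroup.centralizer (Q : Set G) ≤ H) (hPH : P ≤ H) :
    Relation.ReflTransGen (NormalSubpairRel p M) (linPair M hL Q hQ)
      (linPair M hL P ((centralizer_anti hQP).trans hQ)) :=
  subpair_twist hM hL (principal_subpair hM hP hQP) hQ _ hPH

theorem isLin_conj (y : G) {a : BrauerPairIdx G} (ha : IsLin L a)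
    (hy : ∀ k ∈ Subgroup.centralizer (a.1 : Set G), L (y * k * y⁻¹) = L k) :
    IsLin L (conjIdx y a) := by
  obtain ⟨ξ, hξ, hv⟩ := ha
  refine ⟨irrPull (centE a.1 y) ξ, ?_, fun c => ?_⟩
  · show _ ∈ conjBlock a.1 y a.2
    rw [conjBlock_eq]
    exact ⟨ξ, hξ, rfl⟩
  · show (ξ : Subgroup.centralizer (a.1 : Set G) → ℂ) (centE a.1 y c) = L c
    rw [hv]
    have h := hy _ (centE a.1 y c).2
    rw [← h]
    congr 1
    show y * (y⁻¹ * (c : G) * y) * y⁻¹ = c
    group

theorem isPBlock_conjIdx {a : BrauerPairIdx G} (ha : IsPBlock M a.2) (y : G) :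
    IsPBlock M (conjIdx y a).2 := by
  show IsPBlock M (conjBlock a.1 y a.2)
  rw [conjBlock_eq]
  exact isPBlock_image _ ha

end CfsgLib.GW.Twist
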