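import Cfsg.Agent.Lib.GW.TwistSec
import Cfsg.Agent.Lib.Blocks.DihBlock.Group
import Cfsg.Agent.Lib.Blocks.DihBlock.Shape
import Cfsg.Agent.Lib.Blocks.DefectZeroCount

/-!
# The columns of a twisted principal block with dihedral defect group

The columns at the rotations have the Gram matrix of the principal block, and the sums of
`χ(z)² χ(x) / χ(1)` over the block do not depend on the twist.
-/

namespace CfsgLib.GW.Twist

open Cfsg CfsgLib.CharTheory CfsgLib.Blocks CfsgLib.Blocks.AbelianFree CfsgLib.Blocks.Dihedral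
open scoped ComplexConjugate

set_option linter.unusedVariables false
set_option linter.style.haveILetI false
set_option linter.unusedSectionVars false

universe u

variable {G : Type u} [Group G] [Fintype G] {M : Ideal AlgInt} {P : Sylow 2 G} {σ : G} {h : ℕ}
  {L : G → ℂ} {B : Set (IrrCharacter G)}

theorem dihCyc (hh : Dih P σ h) : DihBlock.Cyc σ h := ⟨hh.hpow, hh.ord⟩

/-- A linear character of the centralizer of the involution, fixed at the noncentral four groups. -/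
structure Fixed (P : Sylow 2 G) (σ : G) (h : ℕ) (L : G → ℂ) : Prop where
  lin : LinOn (Subgroup.centralizer ({σ ^ h} : Set G)) L
  two : ∀ s ∈ (P : Subgroup G), L s = 1
  fix : ∀ v ∈ (P : Subgroup G), v * v = 1 → v ∉ Subgroup.zpowers σ → IsConj (σ ^ h) v →
    ∃ y : G, y * σ ^ h * y⁻¹ = v ∧ y ∈ Subgroup.normalizer (Subgroup.closure {σ ^ h, v} : Set G) ∧
      ∀ k : G, Commute k (σ ^ h) → Commute k v → L (y * k * y⁻¹) = L k

/-- The twisted block and its sections. -/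
structure Ctx (M : Ideal AlgInt) (P : Sylow 2 G) (σ : G) (h : ℕ) (L : G → ℂ)
    (B : Set (IrrCharacter G)) : Prop where
  hM : IsPModular 2 M
  dih : Dih P σ h
  lin : LinOn (Subgroup.centralizer ({σ ^ h} : Set G)) L
  two : ∀ s ∈ (P : Subgroup G), L s = 1
  sec : ∀ l, 0 < l → l < 2 * h →
    SecData (H := Subgroup.centralizer ({σ ^ h} : Set G)) 2 M L B (σ ^ l)
  size : ∀ l, 0 < l → l < 2 * h → ∃ K : Subgroup (cz (σ ^ l)),
    K.Normal ∧ ¬ 2 ∣ Nat.card K ∧ K.index = if l = h then 2 * (2 * h) else 2 * h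

theorem cz_eq (x : G) : Subgroup.centralizer ({x} : Set G) = cz x :=
  Subgroup.ext fun g => (isCentr_singleton x g).trans (isCentr_zpowers x g).symm

theorem z_mem_rot (hh : Dih P σ h) {l : ℕ} (h0 : 0 < l) (hl : l < 2 * h) :
    σ ^ h ∈ Subgroup.zpowers (σ ^ l) :=
  (dihCyc hh).z_mem (hh.pow_mem l).1 (hh.pow_ne_one h0 hl)

theorem rot_le (hh : Dih P σ h) {l : ℕ} (h0 : 0 < l) (hl : l < 2 * h) :
    cz (σ ^ l) ≤ Subgroup.centralizer ({σ ^ h} : Set G) := fun k hk =>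
  Subgroup.mem_centralizer_singleton_iff.2 (hk _ (z_mem_rot hh h0 hl)).symm

theorem rot_size (hh : Dih P σ h) {l : ℕ} (h0 : 0 < l) (hl : l < 2 * h) :
    ∃ K : Subgroup (cz (σ ^ l)),
      K.Normal ∧ ¬ 2 ∣ Nat.card K ∧ K.index = if l = h then 2 * (2 * h) else 2 * h := by
  rw [← cz_eq]
  by_cases e : l = h
  · subst e
    rw [if_pos rfl]
    exact hh.complement_z
  · rw [if_neg e]
    refine hh.complement_rot (hh.pow_mem l).1 fun e2 => ?_
    rcases hh.sq_eq_one (hh.pow_mem l).1 e2 with e' | e'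
    · exact hh.pow_ne_one h0 hl e'
    · exact e (hh.pow_inj hl (by omega) e')

theorem exists_ctx (hM : IsPModular 2 M) (hh : Dih P σ h) (hF : Fixed P σ h L) :
    ∃ B, Ctx M P σ h L B := by
  haveI : Fact (Nat.Prime 2) := ⟨Nat.prime_two⟩
  have h2 := hh.two_le
  set H := Subgroup.centralizer ({σ ^ h} : Set G)
  have hPH : (P : Subgroup G) ≤ H := fun s hs =>
    Subgroup.mem_centralizer_singleton_iff.2 (hh.z_central hs).eq
  obtain ⟨hCP, B, hmax⟩ := exists_block hM hF.lin P hPH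
    (hh.zle (Subgroup.npow_mem_zpowers σ h)) (rot_le hh (by omega) (by omega : h < 2 * h))
  refine ⟨B, hM, hh, hF.lin, hF.two, fun l h0 hl => ?_, fun l h0 hl => rot_size hh h0 hl⟩
  refine secData hM hF.lin P.isPGroup' hPH hCP hmax (hh.zle (hh.pow_mem l).1) (rot_le hh h0 hl) ?_ ?_
  · intro g hg
    by_cases hz : g * σ ^ l * g⁻¹ ∈ Subgroup.zpowers σ
    · left
      exact Subgroup.mem_centralizer_singleton_iff.2
        (mul_inv_eq_iff_eq_mul.1 ((dihCyc hh).conj_z (hh.pow_mem l).1 (hh.pow_ne_one h0 hl) hz rfl))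
    · obtain ⟨hv2, -⟩ := hh.out hg hz
      have hlh : l = h := by
        have h1 : g * (σ ^ l * σ ^ l) * g⁻¹ = 1 := by rw [← hv2]; group
        rcases hh.sq_eq_one (hh.pow_mem l).1 (conj_eq_one_iff.1 h1) with e | e
        · exact absurd e (hh.pow_ne_one h0 hl)
        · exact hh.pow_inj hl (by omega) e
      subst hlh
      obtain ⟨y, hy, hyN, hyL⟩ := hF.fix _ hg hv2 hz (isConj_iff.2 ⟨g, rfl⟩)
      refine Or.inr ⟨y, Subgroup.closure {σ ^ l, g * σ ^ l * g⁻¹}, ?_, ?_, ?_, hy, hyN, fun k hk => ?_⟩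
      · rw [Subgroup.closure_le]
        rintro a (rfl | rfl)
        · exact hh.zle (hh.pow_mem l).1
        · exact hg
      · exact Subgroup.subset_closure (Set.mem_insert _ _)
      · exact Subgroup.subset_closure (Set.mem_insert_of_mem _ rfl)
      · exact hyL k (hk _ (Subgroup.subset_closure (Set.mem_insert _ _))).symm
          (hk _ (Subgroup.subset_closure (Set.mem_insert_of_mem _ rfl))).symm
  · obtain ⟨K, a, b, c⟩ := rot_size hh h0 hl
    obtain ⟨k, hk⟩ := hh.ord_pow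
    refine ⟨K, a, b, if l = h then k + 1 else k, ?_⟩
    rw [c]
    split_ifs
    · rw [hk]; ring
    · exact hk

/-- The squared length of a column. -/
theorem Ctx.norm (D : Ctx M P σ h L B) {l : ℕ} (h0 : 0 < l) (hl : l < 2 * h) :
    ∑ χ ∈ bset B, (χ : G → ℂ) (σ ^ l) * conj ((χ : G → ℂ) (σ ^ l)) =
      (if l = h then ((2 * (2 * h) : ℕ) : ℂ) else ((2 * h : ℕ) : ℂ)) := by
  classical
  obtain ⟨K, hKn, hK, hidx⟩ := D.size l h0 hl
  obtain ⟨k, hk⟩ := D.dih.ord_pow
  have hp : ∃ j, K.index = 2 ^ j := ⟨if l = h then k + 1 else k, by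
    rw [hidx]; split_ifs
    · rw [hk]; ring
    · exact hk⟩
  obtain ⟨j, hj⟩ := hp
  haveI := hKn
  haveI := Fintype.ofFinite K
  rw [(D.sec l h0 hl).norm D.hM, ← K.index_mul_card,
    show (regC 2 (σ ^ l)).card = Nat.card K by
      have := sum_regC_image (x := σ ^ l) Nat.prime_two hK hj (fun _ => (1 : ℂ))
      simp only [Finset.sum_const, nsmul_eq_mul, mul_one, Finset.card_univ,
        ← Nat.card_eq_fintype_card] at this
      exact_mod_cast this, Nat.cast_mul,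
    mul_div_assoc, div_self (Nat.cast_ne_zero.2 Nat.card_pos.ne'), mul_one, hidx]
  split_ifs <;> rfl

/-- The orthogonality relations of the columns at the rotations. -/
theorem Ctx.orth (D : Ctx M P σ h L B) {l m : ℕ} (hl0 : 0 < l) (hl : l < 2 * h)
    (hm0 : 0 < m) (hm : m < 2 * h) :
    ∑ χ ∈ bset B, (χ : G → ℂ) (σ ^ l) * conj ((χ : G → ℂ) (σ ^ m)) =
      ((2 * h : ℕ) : ℂ) * ((if m = l then 1 else 0) + if m = 2 * h - l then 1 else 0) := by
  classical
  have hh := D.dih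
  obtain ⟨hlm, kl, hkl⟩ := hh.pow_mem l
  obtain ⟨hmm, km, hkm⟩ := hh.pow_mem m
  by_cases hc : IsConj (σ ^ l) (σ ^ m)
  · have hcase : m = l ∨ m = 2 * h - l := by
      rcases hh.fusion hlm hmm (hh.pow_ne_one hl0 hl) hc with e | e
      · exact Or.inl (hh.pow_inj hm hl e)
      · exact Or.inr (hh.pow_inj hm (by omega) (e.trans (hh.pow_sub' hl.le).symm))
    have hval : ∀ χ : IrrCharacter G, (χ : G → ℂ) (σ ^ m) = (χ : G → ℂ) (σ ^ l) := by
      intro χ
      rcases hcase with e | e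
      · rw [e]
      · rw [e, hh.pow_sub' hl.le, hh.value_inv]
    simp only [hval]
    rw [D.norm hl0 hl]
    by_cases hlh : l = h
    · rw [if_pos hlh, if_pos (by omega), if_pos (by omega)]
      push_cast; ring
    · rw [if_neg hlh]
      rcases hcase with e | e
      · rw [if_pos e, if_neg (by omega)]; ring
      · rw [if_neg (by omega), if_pos e]; ring
  · have h1 : m ≠ l := fun e => hc (e ▸ IsConj.refl _)
    have h2 : m ≠ 2 * h - l := fun e => hc (by
      rw [e, hh.pow_sub' hl.le]; exact hh.conj_inv hlm)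
    rw [if_neg h1, if_neg h2, add_zero, mul_zero,
      Finset.sum_congr rfl fun χ _ => by rw [← char_apply_inv (isCharacter_of_irr χ.2)]]
    exact block_orth D.hM (D.sec l hl0 hl).blk
      ⟨1, mul_one _, Commute.one_right _, ⟨kl, hkl⟩, by simp⟩
      ⟨1, mul_one _, Commute.one_right _, ⟨km, hkm⟩, by simp⟩ hc

theorem Ctx.orth_one (D : Ctx M P σ h L B) {l : ℕ} (hl0 : 0 < l) (hl : l < 2 * h) :
    ∑ χ ∈ bset B, (χ : G → ℂ) (σ ^ l) * (χ : G → ℂ) 1 = 0 := by
  obtain ⟨hlm, kl, hkl⟩ := D.dih.pow_mem l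
  have hne : ¬ IsConj (σ ^ l) (1 : G) := fun e =>
    D.dih.pow_ne_one hl0 hl (isConj_one_left.1 e)
  have := block_orth (g := σ ^ l) (h := 1) D.hM (D.sec l hl0 hl).blk
    ⟨1, mul_one _, Commute.one_right _, ⟨kl, hkl⟩, by simp⟩
    ⟨1, one_mul _, Commute.one_left _, ⟨0, by simp⟩, by simp⟩ hne
  simpa using this

/-- The Gram matrix of the columns. -/
theorem Ctx.gram (D : Ctx M P σ h L B) {ζ : ℂ}
    (hζ : IsPrimitiveRoot ζ (2 * h)) {i k : ℕ} (hi : i < h) (hk : k < h) :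
    ∑ χ ∈ bset B, colC h ζ σ (χ : G → ℂ) i * conj (colC h ζ σ (χ : G → ℂ) k) =
      (if i = k then 1 else 0) + (if i = 0 ∧ k = 0 then 1 else 0) + 2 := by
  classical
  have hN : 2 * h ≠ 0 := by omega
  have hN' : ((2 * h : ℕ) : ℂ) ≠ 0 := Nat.cast_ne_zero.2 hN
  have hconj : ∀ l, conj (kerF h ζ k l) = kerC h ζ k l := fun l => by
    have e := conj_pow_eq hζ hN (show h ≤ 2 * h by omega) l
    rw [show 2 * h - h = h by omega] at e
    rw [kerF, kerC, map_sub, conj_pow_eq hζ hN (by omega), e]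
  have e1 : ∀ χ : IrrCharacter G, colC h ζ σ (χ : G → ℂ) i * conj (colC h ζ σ (χ : G → ℂ) k) =
      (((2 * h : ℕ) : ℂ)⁻¹ * ((2 * h : ℕ) : ℂ)⁻¹) * ∑ l ∈ Finset.range (2 * h),
        ∑ m ∈ Finset.range (2 * h), kerF h ζ i l * kerC h ζ k m *
          ((χ : G → ℂ) (σ ^ l) * conj ((χ : G → ℂ) (σ ^ m))) := by
    intro χ
    rw [colC_eq, colC_eq, map_mul, map_inv₀, map_natCast, map_sum, mul_mul_mul_comm,
      Finset.sum_mul_sum]
    refine congrArg _ (Finset.sum_congr rfl fun l _ => Finset.sum_congr rfl fun m _ => ?_)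
    rw [map_mul, hconj]
    ring
  rw [Finset.sum_congr rfl fun χ _ => e1 χ, ← Finset.mul_sum, Finset.sum_comm]
  have e2 : ∀ l ∈ Finset.range (2 * h), ∑ χ ∈ bset B,
      ∑ m ∈ Finset.range (2 * h), kerF h ζ i l * kerC h ζ k m *
        ((χ : G → ℂ) (σ ^ l) * conj ((χ : G → ℂ) (σ ^ m))) =
      ((2 * h : ℕ) : ℂ) * (kerF h ζ i l * (kerC h ζ k l + kerC h ζ k (2 * h - l))) := by
    intro l hl
    have hl' := Finset.mem_range.1 hl
    rcases Nat.eq_zero_or_pos l with rfl | hl0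
    · simp [kerF_zero]
    rw [Finset.sum_comm]
    have e3 : ∀ m ∈ Finset.range (2 * h), ∑ χ ∈ bset B,
        kerF h ζ i l * kerC h ζ k m * ((χ : G → ℂ) (σ ^ l) * conj ((χ : G → ℂ) (σ ^ m))) =
        ((2 * h : ℕ) : ℂ) * kerF h ζ i l *
          ((if m = l then kerC h ζ k m else 0) + if m = 2 * h - l then kerC h ζ k m else 0) := by
      intro m hm
      rcases Nat.eq_zero_or_pos m with rfl | hm0
      · simp [kerC_zero]
      rw [← Finset.mul_sum, D.orth hl0 hl' hm0 (Finset.mem_range.1 hm)]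
      split_ifs <;> ring
    rw [Finset.sum_congr rfl e3, ← Finset.mul_sum, Finset.sum_add_distrib, Finset.sum_ite_eq',
      Finset.sum_ite_eq', if_pos hl, if_pos (Finset.mem_range.2 (by omega))]
    ring
  rw [Finset.sum_congr rfl e2, ← Finset.mul_sum, ker_sum hζ hi hk]
  field_simp

/-- The weight of a character. -/
noncomputable def wt (σ : G) (h : ℕ) (χ : IrrCharacter G) : ℂ :=
  (χ : G → ℂ) (σ ^ h) ^ 2 / (χ : G → ℂ) 1

theorem Ctx.pair_one (D : Ctx M P σ h L B) {l : ℕ} (hl0 : 0 < l) (hl : l < 2 * h) {w : G}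
    (hw : w ∈ regC 2 (σ ^ l)) (hne : pairCount (σ ^ h) (σ ^ h) (σ ^ l * w) ≠ 0) : L w = 1 := by
  classical
  set H := Subgroup.centralizer ({σ ^ h} : Set G)
  have hh := D.dih
  obtain ⟨⟨a, ha1, ha2⟩⟩ := (Nat.card_ne_zero.1 hne).1
  set x := σ ^ l with hx
  obtain ⟨hwc, hwr⟩ := mem_regC.1 hw
  have hz2 := hh.z_ne.2
  have hsq : ∀ b, IsConj (σ ^ h) b → b * b = 1 := by
    intro b hb
    obtain ⟨g, rfl⟩ := isConj_iff.1 hb
    rw [show g * σ ^ h * g⁻¹ * (g * σ ^ h * g⁻¹) = g * (σ ^ h * σ ^ h) * g⁻¹ by group, hz2]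
    group
  have a2 := hsq a ha1
  have b2 := hsq _ ha2
  have hinv : a * (x * w) * a⁻¹ = (x * w)⁻¹ := by
    refine eq_inv_of_mul_eq_one_left ?_
    rw [show a * (x * w) * a⁻¹ * (x * w) = a * (x * w) * (a⁻¹ * (x * w)) by group]
    nth_rewrite 1 [← inv_eq_of_mul_eq_one_left a2]
    exact b2
  obtain ⟨hxm, k, hk⟩ := hh.pow_mem l
  set m := orderOf w with hm
  have hxm0 : x ^ m ≠ 1 := fun e => by
    have h1 : orderOf x ∣ m := orderOf_dvd_of_pow_eq_one e
    rw [hx, hk] at h1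
    rcases k with _ | k
    · rw [pow_zero, orderOf_eq_one_iff] at hk
      exact hh.pow_ne_one hl0 hl hk
    · exact hwr ((dvd_pow_self 2 k.succ_ne_zero).trans h1)
  obtain ⟨j, hj⟩ := (dihCyc hh).z_mem (Subgroup.pow_mem _ hxm m) hxm0
  have hgm : (x * w) ^ m = x ^ m := by rw [hwc.symm.mul_pow, hm, pow_orderOf_eq_one, mul_one]
  have haz : a * σ ^ h * a⁻¹ = σ ^ h := by
    have hj' : (x ^ m) ^ j = σ ^ h := hj
    rw [← hgm] at hj'
    rw [← hj', ← conj_zpow, ← conj_pow, hinv, inv_pow, inv_zpow, hj']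
    exact inv_eq_of_mul_eq_one_left hz2
  have haH : a ∈ H := Subgroup.mem_centralizer_singleton_iff.2 (mul_inv_eq_iff_eq_mul.1 haz)
  have hxH : x ∈ H := Subgroup.mem_centralizer_singleton_iff.2 ((Commute.pow_pow_self σ l h).eq)
  have hwH : w ∈ H := (D.sec l hl0 hl).regC_mem hw
  have e := D.lin.conjugate haH (mul_mem hxH hwH)
  rw [hinv, D.lin.map_inv (mul_mem hxH hwH), D.lin.mul _ hxH _ hwH,
    D.two x (hh.zle hxm), one_mul] at e
  have hw0 := D.lin.ne_zero hwH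
  have hsq2 : L w ^ 2 = 1 := by
    field_simp at e
    linear_combination -e
  have hodd : L w ^ m = 1 := by rw [← D.lin.pow hwH, hm, pow_orderOf_eq_one, D.lin.one]
  obtain ⟨q, hq⟩ : Odd m := Nat.odd_iff.2 (by omega)
  rw [hq, pow_succ, pow_mul, hsq2, one_pow, one_mul] at hodd
  exact hodd

/-- The weighted column sum, expressed by pairs of involutions. -/
theorem Ctx.wt_count (D : Ctx M P σ h L B) {l : ℕ} (hl0 : 0 < l) (hl : l < 2 * h) :
    ((Subgroup.centralizer ({σ ^ h} : Set G)).index : ℂ) * ((regC 2 (σ ^ l)).card : ℂ) *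
        ∑ χ ∈ bset B, wt σ h χ * (χ : G → ℂ) (σ ^ l) =
      ∑ w ∈ regC 2 (σ ^ l), (pairCount (σ ^ h) (σ ^ h) (σ ^ l * w) : ℂ) *
        (Nat.card (Subgroup.centralizer ({σ ^ h} : Set G)) : ℂ) := by
  classical
  have e : ∀ w ∈ regC 2 (σ ^ l), (pairCount (σ ^ h) (σ ^ h) (σ ^ l * w) : ℂ) *
      (Nat.card (Subgroup.centralizer ({σ ^ h} : Set G)) : ℂ) =
      ((Subgroup.centralizer ({σ ^ h} : Set G)).index : ℂ) *
        ∑ χ : IrrCharacter G, wt σ h χ * (conj ((χ : G → ℂ) (σ ^ l * w)) * L w) := by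
    intro w hw
    have e0 : (pairCount (σ ^ h) (σ ^ h) (σ ^ l * w) : ℂ) = (pairCount (σ ^ h) (σ ^ h) (σ ^ l * w) : ℂ) * L w := by
      by_cases h0 : pairCount (σ ^ h) (σ ^ h) (σ ^ l * w) = 0
      · simp [h0]
      · rw [D.pair_one hl0 hl hw h0, mul_one]
    rw [e0, mul_right_comm, pairCount_mul, Finset.sum_mul, Finset.mul_sum]
    refine Finset.sum_congr rfl fun χ _ => ?_
    rw [clv, centralChar, wt]
    ring
  rw [Finset.sum_congr rfl e, ← Finset.mul_sum, Finset.sum_comm, mul_assoc]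
  congr 1
  have e2 : ∀ χ : IrrCharacter G,
      ∑ w ∈ regC 2 (σ ^ l), wt σ h χ * (conj ((χ : G → ℂ) (σ ^ l * w)) * L w) =
        ((regC 2 (σ ^ l)).card : ℂ) * (ind B χ * (wt σ h χ * (χ : G → ℂ) (σ ^ l))) := by
    intro χ
    have := congrArg (starRingEnd ℂ) ((D.sec l hl0 hl).average D.hM χ)
    simp only [map_sum, map_mul, map_natCast, Complex.conj_conj, D.dih.value_real] at this
    rw [← Finset.mul_sum, this]
    have hi : conj (ind B χ) = ind B χ := by
      by_cases hm : χ ∈ B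
      · rw [ind_of_mem hm, map_one]
      · rw [ind_of_notMem hm, map_zero]
    rw [hi]; ring
  rw [Finset.sum_congr rfl fun χ _ => e2 χ, ← Finset.mul_sum, sum_ind_mul]

/-- The weighted column sums do not depend on the twist. -/
theorem Ctx.wt_indep {L' : G → ℂ} {B' : Set (IrrCharacter G)} (D : Ctx M P σ h L B)
    (D' : Ctx M P σ h L' B') {l : ℕ} (hl0 : 0 < l) (hl : l < 2 * h) :
    ∑ χ ∈ bset B, wt σ h χ * (χ : G → ℂ) (σ ^ l) =
      ∑ χ ∈ bset B', wt σ h χ * (χ : G → ℂ) (σ ^ l) :=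
  mul_left_cancel₀ (mul_ne_zero (Nat.cast_ne_zero.2 Subgroup.index_ne_zero_of_finite)
    ((D.sec l hl0 hl).card_ne D.hM)) ((D.wt_count hl0 hl).trans (D'.wt_count hl0 hl).symm)

/-- The weighted sums against a column do not depend on the twist. -/
theorem Ctx.col_indep {L' : G → ℂ} {B' : Set (IrrCharacter G)} (D : Ctx M P σ h L B)
    (D' : Ctx M P σ h L' B') (ζ : ℂ) (i : ℕ) :
    ∑ χ ∈ bset B, wt σ h χ * colC h ζ σ (χ : G → ℂ) i =
      ∑ χ ∈ bset B', wt σ h χ * colC h ζ σ (χ : G → ℂ) i := by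
  simp only [colC_eq, Finset.mul_sum]
  rw [Finset.sum_comm (s := bset B), Finset.sum_comm (s := bset B')]
  refine Finset.sum_congr rfl fun l hl => ?_
  rcases Nat.eq_zero_or_pos l with rfl | hl0
  · simp [kerF_zero]
  · have e : ∀ (S : Finset (IrrCharacter G)),
        ∑ χ ∈ S, wt σ h χ * (((2 * h : ℕ) : ℂ)⁻¹ * ((χ : G → ℂ) (σ ^ l) * kerF h ζ i l)) =
          ((2 * h : ℕ) : ℂ)⁻¹ * kerF h ζ i l * ∑ χ ∈ S, wt σ h χ * (χ : G → ℂ) (σ ^ l) := by
      intro S
      rw [Finset.mul_sum]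
      exact Finset.sum_congr rfl fun χ _ => by ring
    rw [e, e, D.wt_indep D' hl0 (Finset.mem_range.1 hl)]

end CfsgLib.GW.Twist
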