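import Cfsg.Agent.Lib.GW.TwistCols
import Cfsg.Agent.Lib.Blocks.Dihedral.Order

/-!
# The shape of a twisted principal block

Four characters have odd column entries; two of them are constant on the rotations, two alternate.
-/

namespace CfsgLib.GW.Twist

open Cfsg CfsgLib.CharTheory CfsgLib.Blocks CfsgLib.Blocks.AbelianFree CfsgLib.Blocks.Dihedral
open scoped ComplexConjugate

set_option linter.unusedVariables false
set_option linter.style.haveILetI false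
set_option linter.unusedSectionVars false

universe u

variable {G : Type u} [Group G] [Fintype G] {M : Ideal AlgInt} {P : Sylow 2 G} {σ : G} {h : ℕ}
  {L : G → ℂ} {B : Set (IrrCharacter G)} {ζ : ℂ}

/-- The weighted sum against the column `i`. -/
noncomputable def colSum (B : Set (IrrCharacter G)) (σ : G) (h : ℕ) (ζ : ℂ) (i : ℕ) : ℂ :=
  ∑ χ ∈ bset B, wt σ h χ * colC h ζ σ (χ : G → ℂ) i

/-- The integral columns. -/
structure Cols (B : Set (IrrCharacter G)) (σ : G) (h : ℕ) (ζ : ℂ) (X : IrrCharacter G → ℤ)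
    (Y : Fin (h - 1) → IrrCharacter G → ℤ) : Prop where
  cX : ∀ χ : IrrCharacter G, colC h ζ σ (χ : G → ℂ) 0 = X χ
  cY : ∀ (j : Fin (h - 1)) (χ : IrrCharacter G), colC h ζ σ (χ : G → ℂ) ((j : ℕ) + 1) = Y j χ
  XX : ∑ χ ∈ bset B, X χ * X χ = 4
  XY : ∀ j, ∑ χ ∈ bset B, X χ * Y j χ = 2
  YY : ∀ j k, ∑ χ ∈ bset B, Y j χ * Y k χ = if j = k then 3 else 2
  Xd : ∑ χ ∈ bset B, (X χ : ℂ) * (χ : G → ℂ) 1 = 0
  Yd : ∀ j, ∑ χ ∈ bset B, (Y j χ : ℂ) * (χ : G → ℂ) 1 = 0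
  val : ∀ (χ : IrrCharacter G) {l : ℕ}, 0 < l → l < 2 * h → (χ : G → ℂ) (σ ^ l) = (X χ : ℂ) +
    ∑ j : Fin (h - 1), (Y j χ : ℂ) * ((ζ ^ ((j : ℕ) + 1)) ^ l + ((ζ ^ ((j : ℕ) + 1)) ^ l)⁻¹)

theorem Ctx.exists_cols (D : Ctx M P σ h L B) (hζ : IsPrimitiveRoot ζ (2 * h)) :
    ∃ X Y, Cols B σ h ζ X Y := by
  classical
  have h2 := D.dih.two_le
  haveI : NeZero (2 * h) := ⟨by omega⟩
  have hσN : σ ^ (2 * h) = 1 := by rw [← D.dih.ord]; exact pow_orderOf_eq_one σ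
  choose T hT using fun (χ : IrrCharacter G) (i : Fin (2 * h)) =>
    coef_int hζ hσN (isCharacter_of_irr χ.2) i.2.le
  let c : IrrCharacter G → Fin (2 * h) → ℤ := fun χ i => T χ i - T χ ⟨h, by omega⟩
  have hc : ∀ (χ : IrrCharacter G) i, (c χ i : ℂ) = colC h ζ σ (χ : G → ℂ) i := fun χ i => by
    simp only [c, Int.cast_sub, ← hT, colC]
  have hgram : ∀ i k : Fin (2 * h), (i : ℕ) < h → (k : ℕ) < h →
      ∑ χ ∈ bset B, c χ i * c χ k =
        (if (i : ℕ) = k then 1 else 0) + (if (i : ℕ) = 0 ∧ (k : ℕ) = 0 then 1 else 0) + 2 := by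
    intro i k hi hk
    apply Int.cast_injective (α := ℂ)
    push_cast
    rw [← D.gram hζ hi hk]
    refine Finset.sum_congr rfl fun χ _ => ?_
    rw [← hc χ i, ← hc χ k, map_intCast]
  have hdeg : ∀ i : Fin (2 * h), ∑ χ ∈ bset B, (c χ i : ℂ) * (χ : G → ℂ) 1 = 0 := by
    intro i
    simp only [hc, colC_eq, Finset.sum_mul, Finset.mul_sum]
    rw [Finset.sum_comm, Finset.sum_eq_zero]
    intro l hl
    rcases Nat.eq_zero_or_pos l with rfl | hl0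
    · simp [kerF_zero]
    · have e : ∀ χ : IrrCharacter G,
          ((2 * h : ℕ) : ℂ)⁻¹ * ((χ : G → ℂ) (σ ^ l) * kerF h ζ i l) * (χ : G → ℂ) 1 =
          ((2 * h : ℕ) : ℂ)⁻¹ * kerF h ζ i l * ((χ : G → ℂ) (σ ^ l) * (χ : G → ℂ) 1) :=
        fun χ => by ring
      simp only [e]
      rw [← Finset.mul_sum, D.orth_one hl0 (Finset.mem_range.1 hl), mul_zero]
  clear_value c
  refine ⟨fun χ => c χ ⟨0, by omega⟩, fun j χ => c χ ⟨(j : ℕ) + 1, by omega⟩, ?_⟩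
  refine ⟨fun χ => (hc χ ⟨0, by omega⟩).symm, fun j χ => (hc χ ⟨(j : ℕ) + 1, by omega⟩).symm, ?_,
    fun j => ?_, fun j k => ?_, hdeg ⟨0, by omega⟩, fun j => hdeg ⟨(j : ℕ) + 1, by omega⟩,
    fun χ {l} hl0 hl => ?_⟩
  · rw [hgram _ _ (by simp; omega) (by simp; omega)]; simp
  · rw [hgram _ _ (by simp; omega) (show (j : ℕ) + 1 < h by omega)]; simp
  · rw [hgram _ _ (show (j : ℕ) + 1 < h by omega) (show (k : ℕ) + 1 < h by omega)]
    by_cases e : j = k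
    · simp [e]
    · simp [e, Fin.val_ne_of_ne e]
  · rw [D.dih.recon hζ χ hl0 hl, Finset.sum_range]
    simp only [hc]

/-- The members with an odd leading coefficient. -/
noncomputable def oddSet (B : Set (IrrCharacter G)) (X : IrrCharacter G → ℤ) :
    Finset (IrrCharacter G) :=
  (bset B).filter fun χ => Odd (X χ)

variable {X : IrrCharacter G → ℤ} {Y : Fin (h - 1) → IrrCharacter G → ℤ}

theorem Cols.gram_shape (C : Cols B σ h ζ X Y) : DihBlock.Gram (bset B) (oddSet B X) X Y := by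
  classical
  refine ⟨Finset.filter_subset _ _, fun χ hχ => by simp [oddSet, hχ], ?_, C.XX, C.XY, C.YY⟩
  by_contra hne
  rw [Finset.not_nonempty_iff_eq_empty] at hne
  have hev : ∀ χ ∈ bset B, Even (X χ) := fun χ hχ => Int.not_odd_iff_even.1 fun e =>
    Finset.notMem_empty χ (hne ▸ Finset.mem_filter.2 ⟨hχ, e⟩)
  obtain ⟨χ, hχ, hχ0⟩ : ∃ χ ∈ bset B, X χ ≠ 0 := by
    by_contra hc
    push Not at hc
    have := C.XX
    rw [Finset.sum_eq_zero fun χ hχ => by rw [hc χ hχ, mul_zero]] at this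
    omega
  have h1 := C.XX
  rw [← Finset.add_sum_erase _ _ hχ] at h1
  have h4 : 4 ≤ X χ * X χ := by
    obtain ⟨k, hk⟩ := hev χ hχ
    have : k ≠ 0 := fun e => hχ0 (by omega)
    have := mul_self_pos.2 this
    rw [hk]
    nlinarith
  have h0 := (Finset.sum_eq_zero_iff_of_nonneg fun ψ _ => mul_self_nonneg (X ψ)).1
    (le_antisymm (show ∑ ψ ∈ (bset B).erase χ, X ψ * X ψ ≤ 0 by linarith)
      (Finset.sum_nonneg fun ψ _ => mul_self_nonneg (X ψ)))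
  have hd := C.Xd
  rw [← Finset.add_sum_erase _ _ hχ, Finset.sum_eq_zero fun ψ hψ => by
    rw [mul_self_eq_zero.1 (h0 ψ hψ), Int.cast_zero, zero_mul], add_zero] at hd
  exact mul_ne_zero (Int.cast_ne_zero.2 hχ0) (irr_one_ne_zero χ) hd

variable {Q : Fin (h - 1) → Finset (IrrCharacter G)} {s : Fin (h - 1) → IrrCharacter G}
  {f : Fin (h - 1) → ℤ}

/-- The signed degree. -/
noncomputable def sdeg (X : IrrCharacter G → ℤ) (χ : IrrCharacter G) : ℤ :=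
  X χ * (charDegree (χ : G → ℂ) : ℤ)

theorem sdeg_cast (X : IrrCharacter G → ℤ) (χ : IrrCharacter G) :
    (sdeg X χ : ℂ) = (X χ : ℂ) * (χ : G → ℂ) 1 := by
  rw [sdeg, Int.cast_mul, Int.cast_natCast, irr_charDegree_cast]

theorem sum_col (S : DihBlock.Shape (bset B) (oddSet B X) X Y Q s f) (j : Fin (h - 1))
    (w : IrrCharacter G → ℂ) :
    ∑ χ ∈ bset B, (Y j χ : ℂ) * w χ = (∑ χ ∈ Q j, (X χ : ℂ) * w χ) + (f j : ℂ) * w (s j) := by
  classical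
  have hsP : s j ∉ Q j := fun e => S.sE j (S.Psub j e)
  rw [← Finset.sum_subset (s₁ := insert (s j) (Q j))
    (Finset.insert_subset (S.sS j) ((S.Psub j).trans S.sub)) fun χ hχ hn => by
      rw [Finset.mem_insert, not_or] at hn
      rw [S.y0 j χ hχ hn.2 hn.1, Int.cast_zero, zero_mul],
    Finset.sum_insert hsP, S.ys, add_comm]
  congr 1
  exact Finset.sum_congr rfl fun χ hχ => by rw [S.yP j χ hχ]

theorem Cols.colSum_Y (C : Cols B σ h ζ X Y) (j : Fin (h - 1)) :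
    colSum B σ h ζ ((j : ℕ) + 1) = ∑ χ ∈ bset B, (Y j χ : ℂ) * wt σ h χ :=
  Finset.sum_congr rfl fun χ _ => by rw [C.cY, mul_comm]

theorem Cols.colSum_X (C : Cols B σ h ζ X Y) (S : DihBlock.Shape (bset B) (oddSet B X) X Y Q s f) :
    colSum B σ h ζ 0 = ∑ χ ∈ oddSet B X, (X χ : ℂ) * wt σ h χ := by
  classical
  rw [colSum, Finset.sum_congr rfl fun χ _ => by rw [C.cX, mul_comm]]
  exact (Finset.sum_subset S.sub fun χ hχ hn => by rw [S.x0 χ hχ hn, Int.cast_zero, zero_mul]).symm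

/-- The value at a member of the odd set. -/
theorem Cols.val_odd (C : Cols B σ h ζ X Y) (S : DihBlock.Shape (bset B) (oddSet B X) X Y Q s f)
    {χ : IrrCharacter G} (hχ : χ ∈ oddSet B X) {l : ℕ} (hl0 : 0 < l) (hl : l < 2 * h) :
    (χ : G → ℂ) (σ ^ l) = (X χ : ℂ) * (1 + ∑ j : Fin (h - 1), if χ ∈ Q j then
      (ζ ^ ((j : ℕ) + 1)) ^ l + ((ζ ^ ((j : ℕ) + 1)) ^ l)⁻¹ else 0) := by
  classical
  rw [C.val χ hl0 hl, mul_add, mul_one, Finset.mul_sum]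
  congr 1
  refine Finset.sum_congr rfl fun j _ => ?_
  split_ifs with hm
  · rw [S.yP j χ hm]
  · rw [S.y0 j χ (S.sub hχ) hm (fun e => S.sE j (e ▸ hχ)), Int.cast_zero, zero_mul, mul_zero]

theorem half (hζ : IsPrimitiveRoot ζ (2 * h)) (h0 : h ≠ 0) (j : ℕ) :
    (ζ ^ (j + 1)) ^ h + ((ζ ^ (j + 1)) ^ h)⁻¹ = 2 * (-1) ^ (j + 1) := by
  have hhalf : ζ ^ h = -1 := IsPrimitiveRoot.eq_neg_one_of_two_right
    (hζ.pow (by omega) (mul_comm 2 h))
  rw [← pow_mul, mul_comm, pow_mul, hhalf]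
  rcases neg_one_pow_eq_or ℂ (j + 1) with e | e <;> rw [e] <;> norm_num

theorem wt_unit {χ : IrrCharacter G} {e z : ℂ} {A : ℤ} (he : e * e = 1)
    (hA : (A : ℂ) = e * (χ : G → ℂ) 1) (hz : (χ : G → ℂ) (σ ^ h) = z) :
    e * wt σ h χ = z ^ 2 / (A : ℂ) := by
  have h1 := irr_one_ne_zero χ
  have he0 : e ≠ 0 := fun e0 => by rw [e0, zero_mul] at he; exact zero_ne_one he
  rw [wt, hz, hA]
  field_simp
  linear_combination z ^ 2 * he

/-- Four characters, two constant and two alternating on the rotations. -/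
structure Pattern (B : Set (IrrCharacter G)) (σ : G) (h : ℕ) (ζ : ℂ) (c₁ c₂ a₁ a₂ : IrrCharacter G)
    (e₁ e₂ g₁ g₂ : ℤ) : Prop where
  mem : c₁ ∈ B ∧ c₂ ∈ B ∧ a₁ ∈ B ∧ a₂ ∈ B
  ne : c₁ ≠ c₂ ∧ c₁ ≠ a₁ ∧ c₁ ≠ a₂ ∧ c₂ ≠ a₁ ∧ c₂ ≠ a₂ ∧ a₁ ≠ a₂
  unit : (e₁ = 1 ∨ e₁ = -1) ∧ (e₂ = 1 ∨ e₂ = -1) ∧ (g₁ = 1 ∨ g₁ = -1) ∧ (g₂ = 1 ∨ g₂ = -1)
  constVal : ∀ l, 0 < l → l < 2 * h →
    (c₁ : G → ℂ) (σ ^ l) = e₁ ∧ (c₂ : G → ℂ) (σ ^ l) = e₂
  altVal : ∀ l, 0 < l → l < 2 * h →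
    (a₁ : G → ℂ) (σ ^ l) = g₁ * (-1) ^ (l + 1) ∧ (a₂ : G → ℂ) (σ ^ l) = g₂ * (-1) ^ (l + 1)
  cover : ∀ χ ∈ B, colC h ζ σ (χ : G → ℂ) 0 ≠ 0 → χ = c₁ ∨ χ = c₂ ∨ χ = a₁ ∨ χ = a₂
  sum : e₁ * (charDegree (c₁ : G → ℂ) : ℤ) + e₂ * (charDegree (c₂ : G → ℂ) : ℤ) +
    g₁ * (charDegree (a₁ : G → ℂ) : ℤ) + g₂ * (charDegree (a₂ : G → ℂ) : ℤ) = 0
  ane : g₁ * (charDegree (a₁ : G → ℂ) : ℤ) + g₂ * (charDegree (a₂ : G → ℂ) : ℤ) ≠ 0
  eqC : colSum B σ h ζ 0 - colSum B σ h ζ 1 =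
    1 / ((e₁ * (charDegree (c₁ : G → ℂ) : ℤ) : ℤ) : ℂ) + 1 / ((e₂ * (charDegree (c₂ : G → ℂ) : ℤ) : ℤ) : ℂ) -
      4 / ((e₁ * (charDegree (c₁ : G → ℂ) : ℤ) + e₂ * (charDegree (c₂ : G → ℂ) : ℤ) : ℤ) : ℂ)
  eqA : ∀ j : ℕ, j < h - 1 → colSum B σ h ζ (j + 1) =
    1 / ((g₁ * (charDegree (a₁ : G → ℂ) : ℤ) : ℤ) : ℂ) + 1 / ((g₂ * (charDegree (a₂ : G → ℂ) : ℤ) : ℤ) : ℂ) -
      4 / ((g₁ * (charDegree (a₁ : G → ℂ) : ℤ) + g₂ * (charDegree (a₂ : G → ℂ) : ℤ) : ℤ) : ℂ)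

theorem Ctx.regular_pattern (D : Ctx M P σ h L B) (hζ : IsPrimitiveRoot ζ (2 * h))
    (C : Cols B σ h ζ X Y) (S : DihBlock.Shape (bset B) (oddSet B X) X Y Q s f)
    (hs : Function.Injective s) :
    ∃ c₁ c₂ a₁ a₂ e₁ e₂ g₁ g₂, Pattern B σ h ζ c₁ c₂ a₁ a₂ e₁ e₂ g₁ g₂ := by
  classical
  have h2 := D.dih.two_le
  let j₀ : Fin (h - 1) := ⟨0, by omega⟩
  have hQ : ∀ j, Q j = Q j₀ := by
    intro j
    by_cases e : j = j₀
    · rw [e]
    · exact ((S.pair e).resolve_left fun hp => e (hs hp.2.2.1)).1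
  obtain ⟨a₁, a₂, ha12, hQe⟩ := Finset.card_eq_two.1 (S.Pcard j₀)
  obtain ⟨c₁, c₂, hc12, hRe⟩ := Finset.card_eq_two.1
    (show (oddSet B X \ Q j₀).card = 2 by
      rw [Finset.card_sdiff_of_subset (S.Psub j₀), S.card, S.Pcard])
  have hE : oddSet B X = {c₁, c₂} ∪ {a₁, a₂} := by
    rw [← hRe, ← hQe, Finset.sdiff_union_of_subset (S.Psub j₀)]
  have hc1 : c₁ ∈ oddSet B X \ Q j₀ := hRe ▸ Finset.mem_insert_self _ _
  have hc2 : c₂ ∈ oddSet B X \ Q j₀ := hRe ▸ Finset.mem_insert_of_mem (Finset.mem_singleton_self _)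
  have ha1 : a₁ ∈ Q j₀ := hQe ▸ Finset.mem_insert_self _ _
  have ha2 : a₂ ∈ Q j₀ := hQe ▸ Finset.mem_insert_of_mem (Finset.mem_singleton_self _)
  obtain ⟨hc1E, hc1Q⟩ := Finset.mem_sdiff.1 hc1
  obtain ⟨hc2E, hc2Q⟩ := Finset.mem_sdiff.1 hc2
  have ha1E := S.Psub j₀ ha1
  have ha2E := S.Psub j₀ ha2
  have hconst : ∀ χ ∈ oddSet B X, χ ∉ Q j₀ → ∀ l, 0 < l → l < 2 * h →
      (χ : G → ℂ) (σ ^ l) = X χ := fun χ hχ hn l hl0 hl => by
    rw [C.val_odd S hχ hl0 hl, Finset.sum_eq_zero fun j _ => if_neg (by rw [hQ j]; exact hn),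
      add_zero, mul_one]
  have halt : ∀ χ ∈ Q j₀, ∀ l, 0 < l → l < 2 * h →
      (χ : G → ℂ) (σ ^ l) = X χ * (-1) ^ (l + 1) := fun χ hχ l hl0 hl => by
    rw [C.val_odd S (S.Psub j₀ hχ) hl0 hl, Finset.sum_congr rfl fun j _ => if_pos (by rw [hQ j]; exact hχ),
      sum_W hζ hl0 hl]
  have hsign : (-1 : ℂ) ^ (h + 1) = -1 := by
    obtain ⟨a, ha⟩ := D.dih.hpow
    refine (Even.add_one ?_).neg_one_pow
    rw [ha]; exact ⟨2 ^ a, by rw [pow_succ]; ring⟩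
  have hu : ∀ χ ∈ oddSet B X, (X χ : ℂ) * (X χ : ℂ) = 1 := fun χ hχ => by
    exact_mod_cast S.x1 χ hχ
  have hterm : ∀ χ ∈ oddSet B X, (X χ : ℂ) * wt σ h χ = 1 / (sdeg X χ : ℂ) := by
    intro χ hχ
    have hz : (χ : G → ℂ) (σ ^ h) ^ 2 = 1 := by
      by_cases hn : χ ∈ Q j₀
      · rw [halt χ hn h (by omega) (by omega), hsign, sq]; linear_combination hu χ hχ
      · rw [hconst χ hχ hn h (by omega) (by omega), sq]; exact hu χ hχ
    rw [wt_unit (hu χ hχ) (sdeg_cast X χ) rfl, hz]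
  have hfu : ∀ j, (f j : ℂ) * f j = 1 := fun j => by
    rcases S.funit j with e | e <;> rw [e] <;> norm_num
  have hout : ∀ j, (f j : ℂ) * wt σ h (s j) = -(4 / ((sdeg X a₁ : ℂ) + (sdeg X a₂ : ℂ))) ∧
      (sdeg X a₁ : ℂ) + (sdeg X a₂ : ℂ) = -((f j : ℂ) * (s j : G → ℂ) 1) := by
    intro j
    have hd := C.Yd j
    rw [sum_col S j (fun χ => (χ : G → ℂ) 1), hQ j, hQe, Finset.sum_pair ha12, ← sdeg_cast,
      ← sdeg_cast] at hd
    have hval : (s j : G → ℂ) (σ ^ h) = (f j : ℂ) * (2 * (-1) ^ ((j : ℕ) + 1)) := by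
      rw [C.val (s j) (by omega : 0 < h) (by omega), S.x0 _ (S.sS j) (S.sE j), Int.cast_zero,
        zero_add, Finset.sum_eq_single j (fun k _ hk => by
          rw [S.y0 k _ (S.sS j) (fun e => S.sE j (S.Psub k e)) (fun e => hk (hs e).symm),
            Int.cast_zero, zero_mul]) (by simp), S.ys, half hζ (by omega)]
    refine ⟨?_, by linear_combination hd⟩
    rw [wt, hval, show (sdeg X a₁ : ℂ) + (sdeg X a₂ : ℂ) = -((f j : ℂ) * (s j : G → ℂ) 1) by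
      linear_combination hd]
    have h1 := irr_one_ne_zero (s j)
    have hf0 : (f j : ℂ) ≠ 0 := fun e => by have := hfu j; rw [e, zero_mul] at this; exact zero_ne_one this
    have hp : ((-1 : ℂ) ^ ((j : ℕ) + 1)) ^ 2 = 1 := by
      rw [← pow_mul, mul_comm, pow_mul]; norm_num
    field_simp
    linear_combination 4 * (f j : ℂ) ^ 4 * hp + 4 * ((f j : ℂ) ^ 2 + 1) * hfu j
  have hY : ∀ j : Fin (h - 1), colSum B σ h ζ ((j : ℕ) + 1) =
      1 / (sdeg X a₁ : ℂ) + 1 / (sdeg X a₂ : ℂ) - 4 / ((sdeg X a₁ : ℂ) + (sdeg X a₂ : ℂ)) := by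
    intro j
    rw [C.colSum_Y, sum_col S j, hQ j, hQe, Finset.sum_pair ha12, hterm a₁ ha1E, hterm a₂ ha2E,
      (hout j).1]
    ring
  have hsum : (sdeg X c₁ : ℂ) + sdeg X c₂ + sdeg X a₁ + sdeg X a₂ = 0 := by
    have hd := C.Xd
    rw [← Finset.sum_subset S.sub fun χ hχ hn => by rw [S.x0 χ hχ hn, Int.cast_zero, zero_mul],
      hE, Finset.sum_union (by
        rw [← hRe, ← hQe]; exact Finset.sdiff_disjoint), Finset.sum_pair hc12, Finset.sum_pair ha12]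
      at hd
    simp only [sdeg_cast]
    linear_combination hd
  refine ⟨c₁, c₂, a₁, a₂, X c₁, X c₂, X a₁, X a₂, ⟨mem_bset.1 (S.sub hc1E), mem_bset.1 (S.sub hc2E),
      mem_bset.1 (S.sub ha1E), mem_bset.1 (S.sub ha2E)⟩,
    ⟨hc12, fun e => hc1Q (e ▸ ha1), fun e => hc1Q (e ▸ ha2), fun e => hc2Q (e ▸ ha1),
      fun e => hc2Q (e ▸ ha2), ha12⟩,
    ⟨units (S.x1 _ hc1E), units (S.x1 _ hc2E), units (S.x1 _ ha1E), units (S.x1 _ ha2E)⟩,
    fun l hl0 hl => ⟨hconst _ hc1E hc1Q l hl0 hl, hconst _ hc2E hc2Q l hl0 hl⟩,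
    fun l hl0 hl => ⟨halt _ ha1 l hl0 hl, halt _ ha2 l hl0 hl⟩, fun χ hχ hne => ?_, ?_, ?_, ?_,
    fun j hj => ?_⟩
  · rw [C.cX] at hne
    have : χ ∈ oddSet B X := by
      by_contra hn
      exact hne (by rw [S.x0 χ (mem_bset.2 hχ) hn, Int.cast_zero])
    rw [hE] at this
    simp only [Finset.mem_union, Finset.mem_insert, Finset.mem_singleton] at this
    exact or_assoc.1 this
  · exact_mod_cast hsum
  · intro e
    have e' : (sdeg X a₁ : ℂ) + sdeg X a₂ = 0 := by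
      rw [← Int.cast_add, show sdeg X a₁ + sdeg X a₂ = 0 from e, Int.cast_zero]
    rw [(hout j₀).2, neg_eq_zero] at e'
    exact mul_ne_zero (fun h0 => by have := hfu j₀; rw [h0, zero_mul] at this; exact zero_ne_one this)
      (irr_one_ne_zero _) e'
  · have h1 := hY j₀
    rw [C.colSum_X S, hE, Finset.sum_union (by rw [← hRe, ← hQe]; exact Finset.sdiff_disjoint),
      Finset.sum_pair hc12, Finset.sum_pair ha12, hterm _ hc1E, hterm _ hc2E, hterm _ ha1E,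
      hterm _ ha2E, show (1 : ℕ) = ((j₀ : ℕ) + 1) from rfl, h1]
    simp only [sdeg, Int.cast_add] at hsum ⊢
    push_cast at hsum ⊢
    rw [show ((X c₁ : ℂ) * (charDegree (c₁ : G → ℂ) : ℂ) + (X c₂ : ℂ) * (charDegree (c₂ : G → ℂ) : ℂ)) =
      -((X a₁ : ℂ) * (charDegree (a₁ : G → ℂ) : ℂ) + (X a₂ : ℂ) * (charDegree (a₂ : G → ℂ) : ℂ)) by
        linear_combination hsum, div_neg]
    ring
  · exact (hY ⟨j, hj⟩).trans (by simp only [sdeg, Int.cast_add])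

/-- The exceptional arrangement makes two weighted sums differ. -/
theorem Ctx.exceptional (D : Ctx M P σ h L B) (hζ : IsPrimitiveRoot ζ (2 * h))
    (C : Cols B σ h ζ X Y) (S : DihBlock.Shape (bset B) (oddSet B X) X Y Q s f)
    (hd : ∀ j k, j ≠ k → Q j ≠ Q k ∧ (Q j ∩ Q k).card = 1 ∧ s j = s k ∧ f j = f k)
    (hlo : 2 ≤ h - 1) (hhi : h - 1 ≤ 3) :
    colSum B σ h ζ 1 ≠ colSum B σ h ζ 2 ∧
      ¬ ∃ χ ∈ B, (χ : G → ℂ) 1 = 1 ∧ X χ = 1 ∧ ∀ j, Y j χ = 0 := by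
  classical
  obtain rfl : h = 4 := by
    obtain ⟨a, rfl⟩ := D.dih.hpow
    rcases a with _ | _ | a
    · norm_num at hlo
    · norm_num
    · rw [pow_succ, pow_succ, pow_succ] at hhi
      have := Nat.one_le_two_pow (n := a)
      omega
  obtain ⟨x, b, hbinj, hbx, hE, hQ⟩ :=
    DihBlock.three_pairs S.card Q S.Psub S.Pcard fun j k e => (hd j k e).2.1
  have hbE : ∀ j, b j ∈ oddSet B X := fun j => hE ▸ Finset.mem_insert_of_mem
    (Finset.mem_image_of_mem b (Finset.mem_univ j))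
  have hxE : x ∈ oddSet B X := hE ▸ Finset.mem_insert_self _ _
  have hu : ∀ χ ∈ oddSet B X, (X χ : ℂ) * (X χ : ℂ) = 1 := fun χ hχ => by
    exact_mod_cast S.x1 χ hχ
  have hxim : x ∉ Finset.univ.image b := by simp [hbx]
  have hpairs : ∀ j, ∑ χ ∈ Q j, (sdeg X χ : ℂ) = -((f 0 : ℂ) * (s 0 : G → ℂ) 1) := by
    intro j
    have h1 := C.Yd j
    rw [sum_col S j (fun χ => (χ : G → ℂ) 1), ← Finset.sum_congr rfl fun χ _ => sdeg_cast X χ] at h1
    by_cases hj : j = 0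
    · subst hj; linear_combination h1
    · rw [(hd j 0 hj).2.2.1, (hd j 0 hj).2.2.2] at h1; linear_combination h1
  have hsplit : (sdeg X x : ℂ) + ∑ j, (sdeg X (b j) : ℂ) = 0 := by
    have hd := C.Xd
    rw [← Finset.sum_subset S.sub fun χ hχ hn => by rw [S.x0 χ hχ hn, Int.cast_zero, zero_mul],
      hE, Finset.sum_insert hxim, Finset.sum_image hbinj.injOn] at hd
    simp only [sdeg_cast]
    exact hd
  have hz : ∀ χ ∈ oddSet B X, (X χ : ℂ) * wt σ 4 χ = (1 + ∑ j : Fin (4 - 1),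
      if χ ∈ Q j then (2 * (-1) ^ ((j : ℕ) + 1) : ℂ) else 0) ^ 2 / (sdeg X χ : ℂ) := by
    intro χ hχ
    have hv := C.val_odd S hχ (show 0 < 4 by norm_num) (show 4 < 2 * 4 by norm_num)
    simp only [half hζ (show (4 : ℕ) ≠ 0 by norm_num)] at hv
    rw [wt_unit (hu χ hχ) (sdeg_cast X χ) hv, mul_pow, sq (X χ : ℂ), hu χ hχ, one_mul]
  have hYs : ∀ j : Fin (4 - 1), colSum B σ 4 ζ ((j : ℕ) + 1) =
      (∑ χ ∈ Q j, (X χ : ℂ) * wt σ 4 χ) + (f 0 : ℂ) * wt σ 4 (s 0) := by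
    intro j
    rw [C.colSum_Y, sum_col S j]
    by_cases hj : j = 0
    · subst hj; rfl
    · rw [(hd j 0 hj).2.2.1, (hd j 0 hj).2.2.2]
  have hone : ∀ χ ∈ bset B, X χ = 1 → (∀ j, Y j χ = 0) → χ ∈ oddSet B X ∧ ∀ j, χ ∉ Q j := by
    intro χ hχ hX hY
    refine ⟨Finset.mem_filter.2 ⟨hχ, by rw [hX]; exact odd_one⟩, fun j hm => ?_⟩
    have := S.yP j χ hm
    rw [hY, hX] at this
    omega
  have hnz : ∀ χ ∈ oddSet B X, (sdeg X χ : ℂ) ≠ 0 := fun χ hχ => by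
    rw [sdeg_cast]
    exact mul_ne_zero (fun e => by have := hu χ hχ; rw [e, zero_mul] at this; exact zero_ne_one this)
      (irr_one_ne_zero χ)
  rcases hQ with hQ | hQ
  · have hA : ∀ j, (sdeg X (b j) : ℂ) = sdeg X (b 0) := fun j => by
      have h1 := hpairs j
      have h2 := hpairs 0
      rw [hQ, Finset.sum_pair (hbx _).symm] at h1 h2
      linear_combination h1 - h2
    refine ⟨fun e => ?_, ?_⟩
    · change colSum B σ 4 ζ (((0 : Fin (4 - 1)) : ℕ) + 1) = colSum B σ 4 ζ (((1 : Fin (4 - 1)) : ℕ) + 1) at e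
      rw [hYs, hYs, hQ, hQ,
        Finset.sum_pair (hbx _).symm, Finset.sum_pair (hbx _).symm, hz _ (hbE _), hz _ (hbE _),
        hA 1] at e
      have m : ∀ i j, b i ∈ Q j ↔ i = j := fun i j => by simp [hQ, hbx, hbinj.eq_iff]
      simp only [m, Finset.sum_ite_eq, Finset.mem_univ, if_true] at e
      have := hnz _ (hbE 0)
      norm_num at e
      field_simp at e
      norm_num at e
    · rintro ⟨χ, hχ, -, hX, hY⟩
      obtain ⟨h1, h2⟩ := hone χ (mem_bset.2 hχ) hX hY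
      rw [hE, Finset.mem_insert, Finset.mem_image] at h1
      rcases h1 with rfl | ⟨j, -, rfl⟩
      · exact h2 0 (by simp [hQ])
      · exact h2 j (by simp [hQ])
  · have m : ∀ i j, b i ∈ Q j ↔ i ≠ j := fun i j => by simp [hQ, hbinj.eq_iff]
    have hS : ∀ j, ∑ χ ∈ Q j, (sdeg X χ : ℂ) = (∑ k, (sdeg X (b k) : ℂ)) - sdeg X (b j) := fun j => by
      rw [hQ, eq_sub_iff_add_eq, Finset.sum_erase_add _ _
        (Finset.mem_image_of_mem b (Finset.mem_univ j)), Finset.sum_image hbinj.injOn]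
    have hA : ∀ j, (sdeg X (b j) : ℂ) = sdeg X (b 0) := fun j => by
      linear_combination hS j - hS 0 - hpairs j + hpairs 0
    refine ⟨fun e => ?_, ?_⟩
    · have hT : ∀ j, ∑ χ ∈ Q j, (X χ : ℂ) * wt σ 4 χ =
          (∑ k, (X (b k) : ℂ) * wt σ 4 (b k)) - (X (b j) : ℂ) * wt σ 4 (b j) := fun j => by
        rw [hQ, eq_sub_iff_add_eq, Finset.sum_erase_add _ _
          (Finset.mem_image_of_mem b (Finset.mem_univ j)), Finset.sum_image hbinj.injOn]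
      change colSum B σ 4 ζ (((0 : Fin (4 - 1)) : ℕ) + 1) = colSum B σ 4 ζ (((1 : Fin (4 - 1)) : ℕ) + 1) at e
      rw [hYs, hYs, hT, hT, hz _ (hbE 0),
        hz _ (hbE 1), hA 1] at e
      have s0 : (∑ k : Fin (4 - 1), if b 0 ∈ Q k then (2 * (-1) ^ ((k : ℕ) + 1) : ℂ) else 0) = 0 := by
        simp only [m]
        show ∑ k : Fin 3, (if (0 : Fin 3) ≠ k then (2 * (-1) ^ ((k : ℕ) + 1) : ℂ) else 0) = 0
        simp [Fin.sum_univ_three, Fin.ext_iff]; norm_num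
      have s1 : (∑ k : Fin (4 - 1), if b 1 ∈ Q k then (2 * (-1) ^ ((k : ℕ) + 1) : ℂ) else 0) = -4 := by
        simp only [m]
        show ∑ k : Fin 3, (if (1 : Fin 3) ≠ k then (2 * (-1) ^ ((k : ℕ) + 1) : ℂ) else 0) = -4
        simp [Fin.sum_univ_three, Fin.ext_iff]; norm_num
      rw [s0, s1] at e
      have := hnz _ (hbE 0)
      field_simp at e
      ring_nf at e
      norm_num at e
    · rintro ⟨χ, hχ, h1, hX, hY⟩
      obtain ⟨hm, h2⟩ := hone χ (mem_bset.2 hχ) hX hY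
      rw [hE, Finset.mem_insert, Finset.mem_image] at hm
      rcases hm with rfl | ⟨j, -, rfl⟩
      · have hχA : (sdeg X χ : ℂ) = 1 := by rw [sdeg_cast, hX, h1]; norm_num
        rw [Finset.sum_congr rfl fun j _ => hA j, Finset.sum_const, Finset.card_univ,
          Fintype.card_fin, hχA, nsmul_eq_mul] at hsplit
        norm_num at hsplit
        have h0 : (1 + 3 * sdeg X (b 0) : ℤ) = 0 := by exact_mod_cast hsplit
        omega
      · obtain ⟨k, hk⟩ : ∃ k : Fin (4 - 1), j ≠ k := ⟨if j = 0 then 1 else 0, by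
          fin_cases j <;> decide⟩
        exact h2 k ((m j k).2 hk)

/-- Either the regular pattern, or two columns are told apart. -/
theorem Ctx.pattern_or (D : Ctx M P σ h L B) (hζ : IsPrimitiveRoot ζ (2 * h)) :
    (∃ c₁ c₂ a₁ a₂ e₁ e₂ g₁ g₂, Pattern B σ h ζ c₁ c₂ a₁ a₂ e₁ e₂ g₁ g₂) ∨
      (2 ≤ h - 1 ∧ colSum B σ h ζ 1 ≠ colSum B σ h ζ 2 ∧ oneIrr G ∉ B) := by
  classical
  have h2 := D.dih.two_le
  obtain ⟨X, Y, C⟩ := D.exists_cols hζ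
  obtain ⟨Q, s, f, S⟩ := C.gram_shape.exists_shape
  rcases S.inj_or with hs | ⟨hd, hlo, hhi⟩
  · exact Or.inl (D.regular_pattern hζ C S hs)
  · rw [Fintype.card_fin] at hlo hhi
    obtain ⟨h1, h0⟩ := D.exceptional hζ C S hd hlo hhi
    refine Or.inr ⟨hlo, h1, fun hm => h0 ⟨oneIrr G, hm, rfl, ?_, fun j => ?_⟩⟩
    · apply Int.cast_injective (α := ℂ)
      rw [← C.cX, show ((oneIrr G : IrrCharacter G) : G → ℂ) = fun _ => 1 from rfl,
        colC_one hζ (by omega : 0 < h)]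
      simp
    · apply Int.cast_injective (α := ℂ)
      rw [← C.cY, show ((oneIrr G : IrrCharacter G) : G → ℂ) = fun _ => 1 from rfl,
        colC_one hζ (show (j : ℕ) + 1 < h by omega)]
      simp

end CfsgLib.GW.Twist
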